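import Cfsg.Agent.Lib.PU.Line
import Cfsg.Agent.Lib.SZ.Cyc

/-!
Coordinates for the natural module.
-/

set_option autoImplicit false

namespace Cfsg.Agent.PU

open Cfsg Cfsg.FusionSystem Subgroup Cfsg.Agent.FT
open Cfsg.Agent.H6 (cj RealizedIn SylIn)
open Cfsg.Agent.H9 (U4)
open Cfsg.Agent.SP (sA sB sZ sX)
open scoped commutatorElement

variable {G V : Type*} [Group G] [AddCommGroup V] [DistribMulAction G V] [Finite G] [Finite V]
  {A B K M P W X Y Z : Subgroup G} {a b g x y z : G} {u v w : V}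


section
variable (m : Mod2 G V) (hX : Quad V X) (hs : SylIn 2 X K) (hg : g ∈ K) (hne : cj g X ≠ X)
include m hX hs hg hne

theorem sl2_swap (hx : x ∈ X) (h1 : x ≠ 1) : ∃ t ∈ X ⊔ cj g X, t * t = 1 ∧ cj t X = cj g X ∧
    cj t (cj g X) = X ∧ ∀ w : V, x • t • w - t • w - w ∈ fx V (cj g X) := by
  have ti := ti_of_syl m hX hs
  have hl := ti.line m hX hs.le hg hne
  have hY := hX.cj g
  have hc := (H6.card_cj g X).symm
  have xx : x * x = 1 := hX.el m x hx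
  have xi : x⁻¹ = x := inv_eq_of_mul_eq_one_right xx
  have hne' : cj g⁻¹ X ≠ X := fun e => hne (by rw [← e, H6.cj_cj_inv, e])
  have hon := ti.on m hX hs.le (K.inv_mem hg) hne'
    (K.mul_mem (K.mul_mem (K.inv_mem hg) (hs.le hx)) hg)
  rcases hon with e | ⟨x', hx', e⟩
  · refine (hl.cj_ne m hX hY hc hx h1 ?_).elim
    have := congrArg (cj g) e
    rwa [H6.cj_cj, ← mul_assoc, mul_inv_cancel_left, ← H6.cj_cj] at this
  set y := g * x' * g⁻¹ with hy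
  have hyY : y ∈ cj g X := H6.conj_mem_cj hx'
  have e1 : cj y X = cj x (cj g X) := by
    have := congrArg (cj g) e
    rw [H6.cj_cj, H6.cj_cj, H6.cj_cj, ← mul_assoc, mul_inv_cancel_left] at this
    rw [H6.cj_cj, this]
  have yy : y * y = 1 := hY.el m y hyY
  have tt : x * y * x * (x * y * x) = 1 := by
    calc _ = x * y * (x * x) * y * x := by group
      _ = 1 := by rw [xx, mul_one, mul_assoc x, yy, mul_one, xx]
  have e2 : cj (x * y * x) X = cj g X := by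
    rw [← H6.cj_cj, H6.cj_eq_self_of_mem hx, ← H6.cj_cj, e1, H6.cj_cj x x, xx, H6.cj_one]
  have e3 : cj (x * y * x) (cj g X) = X := by
    rw [← e2, H6.cj_cj, tt, H6.cj_one]
  refine ⟨x * y * x, mul_mem (mul_mem (mem_sup_left hx) (mem_sup_right hyY)) (mem_sup_left hx),
    tt, e2, e3, fun w => ?_⟩
  obtain ⟨d, hd, c, hc', rfl⟩ := exists_add_of_sup (hl.sup m hX hY hc) w
  have a1 : (x * y * x) • c ∈ fx V X := by
    have := (smul_mem_fx_cj (g := x * y * x)).2 hc'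
    rwa [e3] at this
  have a2 : (x * y * x) • d ∈ fx V (cj g X) := e2 ▸ smul_mem_fx_cj.2 hd
  have a3 : y • d - d ∈ fx V (cj g X) := hY.quad y hyY d
  have a4 : x • (x * y * x) • d = y • d := by
    rw [mul_smul, mul_smul, hd x hx, smul_smul, xx, one_smul]
  rw [smul_add, smul_add, a1 x hx, a4]
  have := (fx V (cj g X)).sub_mem ((fx V (cj g X)).sub_mem a3 a2) hc'
  convert this using 1
  abel

theorem sl2_field {t s : G} (ht : t ∈ K) (tt : t * t = 1) (t1 : cj t X = cj g X) (hsX : s ∈ X)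
    (s1 : s ≠ 1) (k : Type*) [Field k] [Fintype k] (hk : Fintype.card k = Nat.card X) :
    ∃ φ : G → k, Set.BijOn φ X Set.univ ∧ (∀ x ∈ X, ∀ y ∈ X, φ (x * y) = φ x + φ y) ∧ φ s = 1 ∧
      (∀ h ∈ K ⊓ 𝒩(X) ⊓ 𝒩(cj g X), ∃ (b : kˣ) (ρ : k ≃+* k),
        ∀ x ∈ X, φ (h * x * h⁻¹) = b * ρ (φ x)) ∧
      ∃ T ≤ K ⊓ 𝒩(X) ⊓ 𝒩(cj g X), (∀ a ∈ T, t * a * t = a⁻¹) ∧ (∀ a ∈ T, ∀ b ∈ T, a * b = b * a) ∧
        ∀ c : k, c ≠ 0 → ∃ a ∈ T, ∀ x ∈ X, φ (a * x * a⁻¹) = c * φ x := by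
  classical
  have ti := ti_of_syl m hX hs
  have hl := ti.line m hX hs.le hg hne
  have hY := hX.cj g
  have hc := (H6.card_cj g X).symm
  have ti' : t⁻¹ = t := inv_eq_of_mul_eq_one_right tt
  have t2 : cj t (cj g X) = X := by rw [← t1, H6.cj_cj, tt, H6.cj_one]
  have hn : ∀ h ∈ K ⊓ 𝒩(X) ⊓ 𝒩(cj g X), ∀ x ∈ X, h * x * h⁻¹ ∈ X := fun h hh x hx =>
    (mem_normalizer_iff.1 hh.1.2 x).1 hx
  by_cases h2 : 2 < Nat.card X
  swap
  · have hx2 : ∀ x ∈ X, x = 1 ∨ x = s := fun x hx => by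
      by_contra hc'
      push Not at hc'
      refine h2 ?_
      have := Fintype.ofFinite X
      rw [Nat.card_eq_fintype_card (α := X)]
      refine Fintype.two_lt_card_iff.2 ⟨1, ⟨s, hsX⟩, ⟨x, hx⟩, ?_, ?_, ?_⟩
      · exact fun e => s1 (congrArg Subtype.val e).symm
      · exact fun e => hc'.1 (congrArg Subtype.val e).symm
      · exact fun e => hc'.2 (congrArg Subtype.val e).symm
    have hk2 : ∀ c : k, c = 0 ∨ c = 1 := fun c => by
      by_contra hc'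
      push Not at hc'
      exact h2 (hk ▸ Fintype.two_lt_card_iff.2 ⟨0, 1, c, zero_ne_one, hc'.1.symm, hc'.2.symm⟩)
    have h11 : (1 : k) + 1 = 0 := (hk2 _).resolve_right (by simp)
    have ss : s * s = 1 := hX.el m s hsX
    have hfix : ∀ h ∈ K ⊓ 𝒩(X) ⊓ 𝒩(cj g X), ∀ x ∈ X, h * x * h⁻¹ = x := fun h hh x hx => by
      rcases hx2 x hx with rfl | rfl
      · simp
      · exact (hx2 _ (hn h hh x hx)).resolve_left (by simpa using s1)
    refine ⟨fun x => if x = 1 then 0 else 1, ⟨fun _ _ => trivial, fun x hx y hy e => ?_,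
      fun c _ => ?_⟩, fun x hx y hy => ?_, by simp [s1], fun h hh => ⟨1, 1, fun x hx => ?_⟩,
      ⊥, bot_le, by simp [tt], by simp, fun c hc0 => ⟨1, one_mem _, fun x _ => ?_⟩⟩
    · rcases hx2 x hx with rfl | rfl <;> rcases hx2 y hy with rfl | rfl <;> simp_all
    · rcases hk2 c with rfl | rfl
      exacts [⟨1, X.one_mem, by simp⟩, ⟨s, hsX, by simp [s1]⟩]
    · rcases hx2 x hx with rfl | rfl <;> rcases hx2 y hy with rfl | rfl <;> simp_all
    · rw [hfix h hh x hx]; simp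
    · rw [(hk2 c).resolve_left hc0]; simp
  have hQ : SZ.Q0 X = X := le_antisymm ((closure_le _).2 fun x hx => hx.1) fun x hx =>
    H9.mem_omegaOne hx (by rw [sq, hX.el m x hx])
  have hXH : X ≤ K ⊓ 𝒩(X) := le_inf hs.le le_normalizer
  have h3 : SZ.Hyp3 K (K ⊓ 𝒩(X)) X (K ⊓ 𝒩(X) ⊓ 𝒩(cj g X)) t := by
    refine ⟨⟨inf_le_left, ⟨⟨hXH, inf_le_right⟩, hXH, inf_le_left, eq_bot_iff.2 fun x hx => ?_,
      fun h hh => ?_⟩, ht, tt, fun h => hne (t1 ▸ H6.cj_eq_self_iff.2 h.2), fun x => ?_,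
      fun h hh hN => ?_, ?_, ?_⟩, hQ.symm ▸ h2⟩
    · by_contra h1
      exact hl.cj_ne m hX hY hc hx.1 h1 (H6.cj_eq_self_iff.2 hx.2.2)
    · rcases ti.on m hX hs.le hg hne (K.mul_mem hh.1 hg) with e | ⟨x, hx, e⟩
      · refine (hne (H6.cj_injective h ?_)).elim
        rw [H6.cj_cj, e, H6.cj_eq_self_iff.2 hh.2]
      · refine ⟨x, hx, x⁻¹ * h, ⟨mul_mem (Subgroup.inv_mem _ (hXH hx)) hh, H6.cj_eq_self_iff.1 ?_⟩, by group⟩
        rw [← H6.cj_cj, H6.cj_cj h g, e, H6.cj_inv_cj]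
    · have e : t * x * t ∈ 𝒩(X) ↔ x ∈ 𝒩(cj g X) := by
        rw [← H6.cj_eq_self_iff, ← H6.cj_eq_self_iff, ← H6.cj_cj, ← H6.cj_cj, t1]
        refine ⟨fun e => H6.cj_injective t (by rw [e, t2]), fun e => by rw [e, t2]⟩
      exact ⟨fun h => ⟨h.1, mul_mem (mul_mem ht h.1.1) ht, e.2 h.2⟩, fun h => ⟨h.1, e.1 h.2.2⟩⟩
    · rcases ti.on m hX hs.le hg hne (K.inv_mem hh) with e | ⟨x, hx, e⟩
      · exact (hN ⟨hh, (Subgroup.inv_mem_iff _).1 (H6.cj_eq_self_iff.1 e)⟩).elim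
      · refine ⟨h * x * t, ⟨mul_mem (mul_mem hh (hs.le hx)) ht, H6.cj_eq_self_iff.1 ?_⟩, x⁻¹,
          X.inv_mem hx, by rw [mul_assoc (h * x), tt]; group⟩
        rw [← H6.cj_cj, ← H6.cj_cj, t1, ← e, H6.cj_cj_inv]
    · obtain ⟨n, hn⟩ := IsPGroup.iff_card.1 hs.isPGroup
      rw [hn] at h2 ⊢
      exact Nat.even_pow.2 ⟨even_two, fun e => by simp [e] at h2⟩
    · rw [← Nat.not_even_iff_odd]
      intro he
      obtain ⟨d, hd, d2⟩ := H6.exists_involution_of_even he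
      have hp : IsPGroup 2 (zpowers d) := IsPGroup.of_card (n := 1) (by rw [Nat.card_zpowers, d2]; rfl)
      have hdX : d ∈ X := hs.le_of_normalizes hp (zpowers_le.2 hd.1.1) (zpowers_le.2 hd.1.2)
        (mem_zpowers d)
      refine hl.cj_ne m hX hY hc hdX (fun e => ?_) (H6.cj_eq_self_iff.2 hd.2)
      simp [e] at d2
  obtain ⟨F, _, _, _, φ, κ, a1, a2, a3, a4, a5, a6, a7, -, a9⟩ :=
    h3.exists_field (s := s) (hQ.symm ▸ hsX) s1
  have a10 : ∀ y ∈ X, y ≠ 1 → ∃ a ∈ SZ.KK (K ⊓ 𝒩(X) ⊓ 𝒩(cj g X)) t, a⁻¹ * s * a = y :=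
    fun y hy h1 => h3.K_trans (hQ.symm ▸ hsX) s1 (hQ.symm ▸ hy) h1
  rw [hQ] at a1 a2 a3 a6 a9
  let e : F ≃+* k := FiniteField.ringEquivOfCardEq (a1.trans hk.symm)
  refine ⟨e ∘ φ, (Set.bijOn_univ.2 e.bijective).comp a2, fun x hx y hy => by simp [a3 x hx y hy],
    by simp [a5], fun h hh => ?_, _, h3.K_le, fun a ha => h3.tKt ha, fun a ha b hb =>
      h3.K_comm ha hb, fun c hc0 => ?_⟩
  · obtain ⟨a, ha, ea⟩ := a10 _ (hn h hh s hsX) (by simpa using s1)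
    have haD := h3.K_le ha
    obtain ⟨μ, hμ, -⟩ := a9 (a * h)⁻¹ (Subgroup.inv_mem _ (mul_mem haD hh)) (by
      have : s = a * (h * s * h⁻¹) * a⁻¹ := by rw [← ea]; group
      conv_lhs => rw [this]
      group)
    have hκ : κ a ≠ 0 := a7.mapsTo ha
    refine ⟨Units.mk0 (e (κ a)) (by simpa using hκ), (e.symm.trans μ).trans e, fun x hx => ?_⟩
    have h1 := a6 a ha _ (hn _ (mul_mem haD hh) x hx)
    have h4 := hμ x hx
    rw [inv_inv] at h4
    rw [h4, show a⁻¹ * (a * h * x * (a * h)⁻¹) * a = h * x * h⁻¹ by group] at h1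
    simp [h1]
  · obtain ⟨a, ha, ea⟩ := a7.surjOn (show e.symm c ∈ ({0}ᶜ : Set F) by simpa using hc0)
    refine ⟨a⁻¹, Subgroup.inv_mem _ ha, fun x hx => ?_⟩
    simp [a6 a ha x hx, ea]

end

theorem sl2_coords (m : Mod2 G V) (hX : Quad V X) (hs : SylIn 2 X K) (hg : g ∈ K)
    (hne : cj g X ≠ X) (k : Type*) [Field k] [Fintype k] (hk : Fintype.card k = Nat.card X) :
    ∃ (ci cy : V →+ k) (ζ ζ' : G → k),
      (∀ v, ci v = 0 ↔ v ∈ fx V X) ∧ (∀ v, cy v = 0 ↔ v ∈ fx V (cj g X)) ∧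
      (∀ i y, ∃ v, ci v = i ∧ cy v = y) ∧
      (∀ s, ∃ x ∈ X, ζ x = s) ∧ (∀ x ∈ X, ∀ v, cy (x • v) = cy v + ζ x * ci v) ∧
      (∀ s, ∃ x ∈ cj g X, ζ' x = s) ∧ (∀ x ∈ cj g X, ∀ v, ci (x • v) = ci v + ζ' x * cy v) ∧
      (∀ h ∈ K, h ∈ 𝒩(X) → h ∈ 𝒩(cj g X) → ∃ τ : Tor k,
        ∀ v, ci (h • v) = τ.a * τ.ρ (ci v) ∧ cy (h • v) = τ.a * τ.b * τ.ρ (cy v)) ∧
      ∀ l : kˣ, ∃ h ∈ X ⊔ cj g X, h ∈ 𝒩(X) ∧ h ∈ 𝒩(cj g X) ∧
        ∀ v, ci (h • v) = l⁻¹ * ci v ∧ cy (h • v) = l * cy v := by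
  have ti := ti_of_syl m hX hs
  have hl := ti.line m hX hs.le hg hne
  have hY := hX.cj g
  have hc := (H6.card_cj g X).symm
  have hYK : X ⊔ cj g X ≤ K := sup_le hs.le (H6.cj_le_of_mem hg hs.le)
  obtain ⟨s, hsX, s1⟩ := (ne_bot_iff_exists_ne_one' _).1 hX.ne
  obtain ⟨t, ht, tt, t1, t2, hts⟩ := sl2_swap m hX hs hg hne hsX s1
  obtain ⟨φ, a2, a3, a5, a6, T, hT, a7, a8, a9⟩ :=
    sl2_field m hX hs hg hne (hYK ht) tt t1 hsX s1 k hk
  set Y := cj g X with hYdef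
  have ttv : ∀ v : V, t • t • v = v := fun v => by rw [smul_smul, tt, one_smul]
  have tX : ∀ v : V, t • v ∈ fx V Y ↔ v ∈ fx V X := fun v => by rw [← t1, smul_mem_fx_cj]
  have tY : ∀ v : V, t • v ∈ fx V X ↔ v ∈ fx V Y := fun v => by rw [← tX, ttv]
  have nY : ∀ h ∈ 𝒩(Y), ∀ v ∈ fx V Y, h • v ∈ fx V Y := fun h hh v hv => by
    rw [← H6.cj_eq_self_iff.2 hh, smul_mem_fx_cj]; exact hv
  have hn : ∀ h ∈ 𝒩(X), ∀ x ∈ X, h * x * h⁻¹ ∈ X := fun h hh x hx =>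
    (mem_normalizer_iff.1 hh x).1 hx
  have φ1 : φ 1 = 0 := by simpa using a3 1 X.one_mem 1 X.one_mem
  obtain ⟨w0, hw0, hw0'⟩ := SetLike.not_le_iff_exists.1 (hl.not_le m hX)
  have hv0 : t • w0 ∉ fx V X := fun e => hw0' ((tY _).1 e)
  have hv0' : t • w0 ∈ fx V Y := (tX _).2 hw0
  set v0 := t • w0 with hv0d
  have ex : ∀ v : V, ∃ x ∈ X, x • v0 - v0 - v ∈ fx V Y := fun v => by
    obtain ⟨d, hd, c, hc', rfl⟩ := exists_add_of_sup (hl.sup m hX hY hc) v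
    obtain ⟨x, hx, e⟩ := hl.onto m hX hY hc hv0 hd
    exact ⟨x, hx, by rw [← sub_sub]; exact (fx V Y).sub_mem e hc'⟩
  choose c hcX hcv using ex
  have uq : ∀ x ∈ X, ∀ v, x • v0 - v0 - v ∈ fx V Y → φ (c v) = φ x := fun x hx v e => by
    have := hl.inj hX hv0 ⟨c v, hcX v⟩ ⟨x, hx⟩ (by
      convert (fx V Y).sub_mem (hcv v) e using 1
      simp only
      abel)
    exact congrArg (fun z : X => φ z) this
  have xmul : ∀ x ∈ X, ∀ x' ∈ X, ∀ v : V, (x * x') • v - v = (x • v - v) + (x' • v - v) :=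
    fun x hx x' hx' v => by
      have := hX.quad x' hx' v x hx
      rw [smul_sub] at this
      rw [mul_smul, ← this]
      abel
  let cy : V →+ k := AddMonoidHom.mk' (fun v => φ (c v)) fun v v' => by
    rw [← a3 _ (hcX v) _ (hcX v')]
    refine uq _ (X.mul_mem (hcX v) (hcX v')) _ ?_
    rw [xmul _ (hcX v) _ (hcX v')]
    convert (fx V Y).add_mem (hcv v) (hcv v') using 1
    abel
  have cyq : ∀ x ∈ X, ∀ v, x • v0 - v0 - v ∈ fx V Y → cy v = φ x := uq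
  have cy0 : ∀ v, cy v = 0 ↔ v ∈ fx V Y := fun v => by
    refine ⟨fun e => ?_, fun e => φ1 ▸ cyq 1 X.one_mem v (by simpa using e)⟩
    have := hcv v
    rw [a2.injOn (hcX v) X.one_mem (e.trans φ1.symm)] at this
    simpa using this
  have cye : ∀ v v', v - v' ∈ fx V Y → cy v = cy v' := fun v v' e => by
    rw [← sub_eq_zero, ← map_sub, cy0]; exact e
  have sq : ∀ a ∈ T, ∀ w : V, (a * s * a⁻¹) • t • w - t • w - a • a • w ∈ fx V Y := fun a ha w => by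
    have e1 : a⁻¹ • t • w = t • a • w := by
      rw [← a7 a ha, mul_smul, mul_smul, ttv]
    have := nY a (hT ha).2 _ (hts (a • w))
    rwa [smul_sub, smul_sub, ← e1, smul_inv_smul, smul_smul, smul_smul] at this
  have gen : ∀ x ∈ X, x ≠ 1 → ∃ a ∈ T, x = a * s * a⁻¹ ∧ ∀ x' ∈ X, φ (a * x' * a⁻¹) = φ x * φ x' :=
    fun x hx h1 => by
      obtain ⟨a, ha, e⟩ := a9 (φ x) fun e => h1 (a2.injOn hx X.one_mem (e.trans φ1.symm))
      exact ⟨a, ha, a2.injOn hx (hn a (hT ha).1.2 s hsX) (by rw [e s hsX, a5, mul_one]), e⟩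
  have act : ∀ x ∈ X, ∀ v, cy (x • v) = cy v + φ x * cy (t • v) := fun x hx v => by
    by_cases h1 : x = 1
    · simp [h1, φ1]
    obtain ⟨a, ha, e, he⟩ := gen x hx h1
    have e1 := cye _ _ (sq a ha (t • v))
    rw [ttv, ← e, map_sub, sub_eq_iff_eq_add'] at e1
    rw [e1, add_right_inj]
    generalize t • v = u
    have naa : ∀ u ∈ fx V Y, a • a • u ∈ fx V Y := fun u hu =>
      nY a (hT ha).2 _ (nY a (hT ha).2 _ hu)
    by_cases h2 : c u = 1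
    · have : u ∈ fx V Y := (cy0 u).1 (show φ (c u) = 0 by rw [h2, φ1])
      rw [(cy0 _).2 this, (cy0 _).2 (naa u this), mul_zero]
    obtain ⟨b, hb, e', he'⟩ := gen _ (hcX u) h2
    have e2 := sq _ (T.mul_mem ha hb) w0
    have e3 := sq b hb w0
    rw [← e'] at e3
    have e4 := naa _ ((fx V Y).sub_mem (hcv u) e3)
    have e5 : (a * b) • (a * b) • w0 = a • a • b • b • w0 := by
      simp only [smul_smul]
      rw [mul_assoc, ← mul_assoc b, a8 b hb a ha, mul_assoc]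
    rw [cyq _ (hn _ (hT (T.mul_mem ha hb)).1.2 s hsX) (a • a • u) (by
      convert (fx V Y).add_mem e2 e4 using 1
      simp only [e5, smul_sub, hv0d]
      abel), show a * b * s * (a * b)⁻¹ = a * (b * s * b⁻¹) * a⁻¹ by group, ← e', he _ (hcX u)]
    rfl
  have ti' : t⁻¹ = t := inv_eq_of_mul_eq_one_right tt
  have tmem : ∀ x, x ∈ Y ↔ t * x * t ∈ X := fun x => by rw [← t1, H6.mem_cj, ti']
  have cyv : ∀ x ∈ X, cy (x • v0 - v0) = φ x := fun x hx => cyq x hx _ (by simp)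
  refine ⟨cy.comp (DistribSMul.toAddMonoidHom V t), cy, φ, fun x => φ (t * x * t),
    fun v => (cy0 _).trans (tX v), cy0, fun i y => ?_, fun i => ?_, act, fun i => ?_,
    fun x hx v => ?_, fun h hK h1 h2 => ?_, fun l => ?_⟩
  · obtain ⟨x, hx, rfl⟩ := a2.surjOn (Set.mem_univ i)
    obtain ⟨x', hx', rfl⟩ := a2.surjOn (Set.mem_univ y)
    refine ⟨t • (x • v0 - v0) + (x' • v0 - v0), ?_, ?_⟩
    · change cy (t • _) = _
      rw [smul_add, ttv, map_add, cyv x hx, (cy0 _).2 ((tX _).2 (hX.quad x' hx' v0)), add_zero]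
    · rw [map_add, cyv x' hx', (cy0 _).2 ((tX _).2 (hX.quad x hx v0)), zero_add]
  · exact a2.surjOn (Set.mem_univ i)
  · obtain ⟨x, hx, rfl⟩ := a2.surjOn (Set.mem_univ i)
    have e : t * (t * x * t) * t = x := by
      rw [← mul_assoc, ← mul_assoc, tt, one_mul, mul_assoc, tt, mul_one]
    exact ⟨t * x * t, (tmem _).2 (by rwa [e]), by simp only [e]⟩
  · change cy (t • x • v) = cy (t • v) + φ (t * x * t) * cy v
    have := act _ ((tmem x).1 hx) (t • v)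
    rwa [mul_smul, mul_smul, ttv] at this
  · obtain ⟨b, ρ, e⟩ := a6 h ⟨⟨hK, h1⟩, h2⟩
    have ha : cy (t • h • v0) ≠ 0 := fun e0 => hv0 (by
      have := (tX _).1 ((cy0 _).1 e0)
      rwa [← H6.cj_eq_self_iff.2 h1, smul_mem_fx_cj] at this)
    have conj : ∀ x ∈ X, ∀ v : V, cy (h • (x • v - v)) = b * ρ (φ x) * cy (t • h • v) :=
      fun x hx v => by
        have := act _ (hn h h1 x hx) (h • v)
        rw [mul_smul, mul_smul, inv_smul_smul, e x hx] at this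
        rw [smul_sub, map_sub, this, add_sub_cancel_left]
    have e2 : ∀ v, cy (h • v) = cy (t • h • v0) * b * ρ (cy v) := fun v => by
      have := cye _ _ (smul_sub h _ v ▸ nY h h2 _ (hcv v))
      rw [← this, conj _ (hcX v)]
      change _ = _ * ρ (φ (c v))
      ring
    refine ⟨⟨Units.mk0 _ ha, b, ρ⟩, fun v => ⟨?_, e2 v⟩⟩
    change cy (t • h • v) = cy (t • h • v0) * ρ (cy (t • v))
    have e3 := conj s hsX v
    rw [e2, map_sub, act s hsX, add_sub_cancel_left, a5, one_mul, map_one, mul_one] at e3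
    exact mul_left_cancel₀ b.ne_zero (by linear_combination -e3)
  · obtain ⟨x, hx, e⟩ := a2.surjOn (Set.mem_univ (l : k))
    obtain ⟨r, hr, rr, r1, r2, hrs⟩ := sl2_swap m hX hs hg hne hx fun e1 =>
      l.ne_zero (by rw [← e, e1, φ1])
    have e1 : ∀ v : V, cy ((r * t) • v) = l * cy v := fun v => by
      have := cye _ _ (hrs ((r * t) • v))
      rw [← this, smul_smul r, ← mul_assoc, rr, one_mul, map_sub, act x hx, ttv, e,
        add_sub_cancel_left]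
    refine ⟨r * t, mul_mem hr ht, H6.cj_eq_self_iff.1 ?_, H6.cj_eq_self_iff.1 ?_,
      fun v => ⟨?_, e1 v⟩⟩
    · rw [← H6.cj_cj, t1, r2]
    · rw [← H6.cj_cj, t2, r1]
    · change cy (t • (r * t) • v) = _ * cy (t • v)
      have := e1 (t • (r * t) • v)
      rw [mul_smul, ttv, smul_smul r, ← mul_assoc, rr, one_mul] at this
      rw [this, Units.val_inv_eq_inv_val, inv_mul_cancel_left₀ l.ne_zero]

end Cfsg.Agent.PU
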