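import Cfsg.Agent.Lib.PU.SdC

/-!
The Sylow 2-subgroup of `Aut(A₆)`.
-/

set_option autoImplicit false

namespace Cfsg.Agent.PU

open Cfsg Cfsg.FusionSystem Subgroup Cfsg.Agent.FT
open Cfsg.Agent.H6 (cj RealizedIn SylIn)
open Cfsg.Agent.H9 (U4)
open Cfsg.Agent.SP (sA sB sZ sX)
open Cfsg.Agent.H2 Cfsg.Agent.H8 Equiv
open scoped commutatorElement

/-- The partner of `c` in the syntheme of the total `i` that contains the duad `a b`. -/
def totR (i a b c : Fin 6) : Fin 6 := Fin.ofNat 6 (dig 3 7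
  5602010874946066815734407991066658354297918049028520586231980439438585078642734870022815972949196431527439851542438183771768410566242389392926201979460779761424830113175677231234989181905016799360150872043817345156755230145943919166611993383265766320732255493022663538589597600061010363174555024593930484351774990232586576630605704006104294141946565630568051101532796606526417254485558445953931003784646913377233771510330952300472924675860281288348140449880106498614870148919245350588511480305213265529495523797503561395887709180748031408502528292043266848269443632099085367168568082948896713413416193778170575458843631383585561734004583035355797304107774107399712397800969373495134913218821128893649205884193933484008859559711690535656730907938612849431331278248914823774873701945604518206917971456447907638273787032917330678291267850744886389497281883906833025512753166723451069002243724104306933134597200995097629025726752187976626861144585761152866207376501439643304091590391360973729823777249719036578088985835180796313124219012428275194328212184221243951430483805807427965315322918448396707676224706531385620852699004401289689204200642763655879899682833694720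
  (((i * 6 + a) * 6 + b) * 6 + c))

/-- `x` maps the total `i` to the total `j`. -/
abbrev Mp (x : Perm (Fin 6)) (i j : Fin 6) : Prop :=
  ∀ a b c, a ≠ b → x (totR i a b c) = totR j (x a) (x b) (x c)

theorem Mp.mul {x y : Perm (Fin 6)} {i j k : Fin 6} (h : Mp y i j) (h' : Mp x j k) :
    Mp (x * y) i k := fun a b c e => by
  simp only [Perm.mul_apply, h a b c e, h' _ _ _ (y.injective.ne e)]

theorem Mp.unique {x : Perm (Fin 6)} {i j k : Fin 6} (h : Mp x i j) (h' : Mp x i k) : j = k :=
  (by decide +kernel : ∀ j k, (∀ a b c, a ≠ b → totR j a b c = totR k a b c) → j = k) j k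
    fun a b c e => by
      have h1 := x⁻¹.injective.ne e
      simpa using (h _ _ (x⁻¹ c) h1).symm.trans (h' _ _ _ h1)

/-- The adjacent transpositions. -/
abbrev sw6 (k : Fin 5) : Perm (Fin 6) := swap k.castSucc k.succ

/-- Their images. -/
def im6 : Fin 5 → Perm (Fin 6) :=
  ![swap 0 1 * swap 2 3 * swap 4 5, swap 0 4 * swap 1 2 * swap 3 5, swap 0 1 * swap 2 5 * swap 3 4,
    swap 0 4 * swap 1 5 * swap 2 3, swap 0 1 * swap 2 4 * swap 3 5]

theorem mp_gen : ∀ k i, Mp (sw6 k) i (im6 k i) ∧ Mp (im6 k) i (sw6 k i) := by decide +kernel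

theorem exists_mp (x : Perm (Fin 6)) : ∀ i, ∃ j, Mp x i j := by
  induction (Perm.mclosure_swap_castSucc_succ 5).ge (Submonoid.mem_top x)
    using Submonoid.closure_induction with
  | mem x hx => obtain ⟨k, rfl⟩ := hx; exact fun i => ⟨_, (mp_gen k i).1⟩
  | one => exact fun i => ⟨i, fun _ _ _ _ => rfl⟩
  | mul x y _ _ hx hy =>
    intro i
    obtain ⟨j, hj⟩ := hy i
    obtain ⟨k, hk⟩ := hx j
    exact ⟨k, hj.mul hk⟩

/-- The action on the totals. -/
noncomputable def out0 : Perm (Fin 6) →* Perm (Fin 6) :=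
  MonoidHom.toHomPerm
    { toFun := fun x i => (exists_mp x i).choose
      map_one' := funext fun i => (exists_mp 1 i).choose_spec.unique fun _ _ _ _ => rfl
      map_mul' := fun x y => funext fun i => (exists_mp _ i).choose_spec.unique
        ((exists_mp y i).choose_spec.mul (exists_mp x _).choose_spec) }

theorem out0_eq {x y : Perm (Fin 6)} (h : ∀ i, Mp x i (y i)) : out0 x = y :=
  Equiv.ext fun i => (exists_mp x i).choose_spec.unique (h i)

theorem hom6_ext {M : Type*} [Monoid M] {f g : Perm (Fin 6) →* M} (h : ∀ k, f (sw6 k) = g (sw6 k)) :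
    f = g := MonoidHom.eq_of_eqOn_denseM (Perm.mclosure_swap_castSucc_succ 5) (by
  rintro _ ⟨k, rfl⟩; exact h k)

theorem out0_out0 (x : Perm (Fin 6)) : out0 (out0 x) = x :=
  DFunLike.congr_fun (hom6_ext (f := out0.comp out0) (g := .id _) fun k => by
    rw [MonoidHom.comp_apply, out0_eq fun i => (mp_gen k i).1, out0_eq fun i => (mp_gen k i).2]; rfl) x

theorem sign_out0 (x : Perm (Fin 6)) : Perm.sign (out0 x) = Perm.sign x :=
  DFunLike.congr_fun (hom6_ext (f := Perm.sign.comp out0) (g := Perm.sign) fun k => by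
    rw [MonoidHom.comp_apply, out0_eq fun i => (mp_gen k i).1]
    revert k; decide +kernel) x

/-- The outer automorphism of `S₆`. -/
noncomputable def out6 : MulAut (Perm (Fin 6)) := ⟨⟨out0, out0, out0_out0, out0_out0⟩, map_mul out0⟩

theorem out6_sq : out6 * out6 = 1 := MulEquiv.ext out0_out0

/-- Its restriction to `A₆`. -/
noncomputable def outA : MulAut (alternatingGroup (Fin 6)) where
  toFun x := ⟨out0 x, (sign_out0 x).trans x.2⟩
  invFun x := ⟨out0 x, (sign_out0 x).trans x.2⟩
  left_inv x := Subtype.ext (out0_out0 x)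
  right_inv x := Subtype.ext (out0_out0 x)
  map_mul' x y := Subtype.ext (map_mul out0 x.1 y.1)

theorem outA_sq : outA * outA = 1 := MulEquiv.ext outA.left_inv

/-- The action of `S₆.2` on `A₆`. -/
noncomputable def pi6 : Perm (Fin 6) ⋊[sgnH out6 out6_sq] ℤˣ →* MulAut (alternatingGroup (Fin 6)) :=
  SemidirectProduct.lift MulAut.conjNormal (sgnH outA outA_sq) fun u => by
    rcases Int.units_eq_one_or u with rfl | rfl
    · ext; simp
    · ext x y : 3
      rw [sgnH_neg, sgnH_neg]
      change out0 x * y * (out0 x)⁻¹ = out0 (x * out0 y * x⁻¹)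
      rw [map_mul, map_mul, map_inv, out0_out0]

/-- The numbering of the points. -/
def fN : Numbering (Fin 6) 3 7 6 where
  ix := Fin.val
  pt := Fin.ofNat 6
  ix_lt := Fin.is_lt
  pt_ix := by decide
  ix_pt := by decide
  hm := rfl
  le := by decide

/-- The elements of order three as words. -/
def a6L : List (ℕ × List ℕ) :=
  [(181896, []), (120968, [1]), (86297, [3]), (146056, [3, 3]), (140099, [5, 5]), (169744, [6, 6,
  5, 6]), (99681, [6, 7, 6, 6]), (10473, [7, 7, 8, 7]), (83469, [9, 8, 9, 9]), (173664, [10, 10,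
  9, 9, 10]), (18250, [11, 10, 10, 11, 11]), (72388, [11, 12, 12, 11, 11]), (46341, [12, 12, 13,
  13, 12]), (180944, [13, 13, 14, 14, 13, 14, 13]), (51024, [14, 15, 15, 14, 15, 14, 14]),
  (181336, [16, 15, 16, 15, 16, 16, 15]), (165537, [17, 16, 17, 17, 16, 17, 16]), (18089, [17, 18,
  17, 18, 18, 17, 18]), (180426, [18, 19, 19, 18, 19, 18, 19]), (6490, [19, 20, 19, 19, 20, 19,
  20]), (135402, [21, 21, 20, 21, 20, 20, 21]), (99114, [22, 21, 21, 22, 21, 22, 21]), (181259,
  [22, 23, 22, 23, 23, 22, 22]), (67691, [23, 24, 23, 24, 23, 23, 24]), (173580, [24, 24, 25, 24,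
  25, 25, 24]), (45396, [26, 26, 25, 25, 26, 25, 26]), (43548, [27, 26, 27, 26, 26, 27, 27]),
  (132189, [28, 27, 27, 28, 27, 28, 28]), (106597, [29, 28, 29, 28, 28, 29, 28]), (83560, [29, 30,
  30, 29, 29, 30, 29, 29]), (165642, [30, 30, 31, 30, 30, 31, 31, 30]), (54307, [32, 32, 31, 32,
  32, 31, 31, 32]), (21204, [33, 32, 32, 33, 33, 32, 33, 33]), (6931, [34, 33, 34, 33, 34, 34, 33,
  34, 33]), (169604, [35, 34, 35, 34, 34, 35, 34, 35, 34]), (50821, [35, 36, 35, 36, 35, 35, 36,
  35, 36]), (78373, [36, 37, 36, 37, 37, 36, 37, 36, 37]), (174280, [38, 37, 38, 38, 37, 38, 37,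
  37, 38, 38]), (116040, [39, 39, 38, 38, 39, 38, 39, 39, 38, 39]), (51864, [40, 40, 39, 40, 40,
  39, 40, 39, 40, 40]), (115368, [41, 41, 40, 41, 40, 41, 41, 40, 40, 41]), (136872, [42, 41, 41,
  42, 41, 42, 42, 41, 42, 42]), (145937, [43, 43, 42, 43, 42, 42, 43, 42, 43, 43]), (180377, [43,
  43, 44, 43, 44, 44, 43, 44, 43, 43]), (35610, [44, 45, 45, 44, 45, 44, 44, 45, 44, 44]), (53474,
  [45, 45, 46, 45, 45, 46, 45, 46, 45, 45]), (13154, [46, 46, 47, 47, 46, 47, 46, 46, 47, 46]),
  (166027, [48, 47, 47, 48, 48, 47, 48, 47, 48, 48]), (10851, [48, 49, 48, 48, 49, 48, 49, 49, 48,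
  48]), (136235, [49, 49, 50, 49, 50, 49, 49, 50, 50, 49]), (176268, [51, 51, 50, 51, 50, 51, 51,
  50, 51, 51]), (21596, [51, 51, 52, 51, 52, 51, 51, 52, 51, 51]), (77932, [52, 52, 53, 52, 52,
  53, 52, 53, 53, 52]), (132749, [54, 54, 53, 54, 54, 53, 54, 53, 53, 54]), (131797, [54, 55, 55,
  54, 54, 55, 54, 55, 54, 54]), (84680, [56, 55, 56, 56, 55, 56, 56, 55, 56, 55, 56]), (177416,
  [57, 56, 57, 56, 57, 57, 56, 57, 57, 56, 57]), (170136, [57, 58, 57, 57, 58, 57, 58, 58, 57, 58,
  58]), (54944, [58, 59, 59, 58, 59, 59, 58, 59, 58, 59, 59]), (181777, [59, 60, 60, 59, 60, 59,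
  59, 60, 59, 60, 60]), (120898, [61, 60, 60, 61, 61, 60, 61, 61, 60, 60, 61]), (180867, [61, 62,
  61, 62, 62, 61, 62, 62, 61, 62, 61]), (86787, [62, 62, 63, 62, 63, 63, 62, 63, 62, 62, 63]),
  (35155, [63, 63, 64, 63, 63, 64, 64, 63, 64, 64, 63]), (103748, [64, 64, 65, 64, 64, 65, 64, 65,
  64, 64, 65]), (22156, [66, 66, 65, 66, 65, 66, 66, 65, 66, 66, 65]), (107052, [66, 67, 67, 66,
  67, 67, 66, 66, 67, 66, 66]), (43205, [67, 67, 68, 67, 67, 68, 67, 68, 68, 67, 68]), (114829,
  [68, 69, 69, 68, 69, 68, 69, 69, 68, 69, 69]), (102677, [69, 70, 69, 69, 70, 70, 69, 70, 70, 69,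
  69]), (71709, [70, 70, 71, 71, 70, 71, 71, 70, 70, 71, 70]), (87816, [71, 72, 71, 72, 72, 71,
  72, 72, 71, 72, 71, 72]), (141128, [72, 72, 73, 72, 73, 73, 72, 73, 72, 72, 73, 73]), (176800,
  [73, 73, 74, 74, 73, 74, 73, 74, 74, 73, 73, 74]), (120849, [74, 74, 75, 75, 74, 75, 74, 74, 75,
  74, 75, 75]), (68321, [76, 76, 75, 75, 76, 75, 76, 75, 75, 76, 76, 75]), (13609, [76, 77, 77,
  76, 76, 77, 76, 77, 76, 76, 77, 77]), (145986, [77, 78, 77, 77, 78, 78, 77, 78, 78, 77, 77,
  78]), (19083, [79, 78, 78, 79, 79, 78, 79, 78, 79, 79, 78, 78]), (139609, [79, 80, 79, 80, 80,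
  79, 80, 80, 79, 80, 79, 80, 80]), (181826, [80, 80, 81, 80, 80, 81, 81, 80, 81, 81, 80, 80,
  81])]

/-- First generator. -/
def ga6 : alternatingGroup (Fin 6) := 
  ⟨swap 3 5 * swap 3 4, Perm.mem_alternatingGroup.2 (by decide +kernel)⟩
/-- Second generator. -/
def gb6 : alternatingGroup (Fin 6) := 
  ⟨swap 0 3 * swap 0 1 * (swap 2 5 * swap 2 4), Perm.mem_alternatingGroup.2 (by decide +kernel)⟩

theorem enum6 : ∀ x : Perm (Fin 6), (x * (x * x) = 1 → inL (a6L.map Prod.fst) (fN.code x) = true) ∧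
    (x * ga6 = ga6 * x → x * gb6 = gb6 * x → x = 1) := by decide +kernel

theorem pi6_inj : Function.Injective pi6 := (injective_iff_map_eq_one _).2 fun ⟨x, u⟩ h => by
  have k : ∀ y : alternatingGroup (Fin 6), x * (sgnH outA outA_sq u y).1 = y * x := fun y =>
    mul_inv_eq_iff_eq_mul.1 (congrArg Subtype.val (MulEquiv.ext_iff.1 h y))
  rcases Int.units_eq_one_or u with rfl | rfl
  · rw [map_one] at k
    rw [(enum6 x).2 (k ga6) (k gb6)]; rfl
  · have h1 := Equiv.ext_iff.1 (k ga6) (x⁻¹ 0)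
    rw [sgnH_neg] at h1
    change x (out0 ga6 _) = ga6.1 (x _) at h1
    rw [out0_eq (y := swap 0 2 * swap 0 5 * (swap 1 3 * swap 1 4)) (by decide +kernel),
      show x (x⁻¹ 0) = 0 by simp, show ga6.1 0 = 0 by decide +kernel, ← Perm.eq_inv_iff_eq] at h1
    exact absurd h1 (by generalize x⁻¹ 0 = i; revert i; decide +kernel)

/-- The product has order four. -/
noncomputable def rel4 (c d : ℕ) : Bool :=
  J3.frc (mulP 3 7 6 c d) fun e => J3.frc (mulP 3 7 6 e e) fun f =>
    (Nat.beq f 181896).not.and (Nat.beq (mulP 3 7 6 f f) 181896)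

theorem exists_cod {α : Type*} {k m n : ℕ} (N : Numbering α k m n) (H : Subgroup (Perm α)) :
    ∃ C : Coding H, (∀ x, C.code x = N.code x.1) ∧ C.mul = mulP k m n ∧ C.one = mkN k id n :=
  ⟨codComap N.coding H.subtype H.subtype_injective, fun _ => rfl, rfl, rfl⟩

theorem sd_mod {X : Type*} [Group X] (C : Coding X) (K : ℕ) (hK : ∀ x, C.code x < 2 ^ K)
    {τ : MulAut X} (h : τ * τ = 1) (z : X ⋊[sgnH τ h] ℤˣ) :
    z ∈ SemidirectProduct.rightHom.ker ↔ (sdCod C K hK τ h).code z % 2 = 0 := by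
  rw [show (sdCod C K hK τ h).code z % 2 = _ from (pk_spec (by split_ifs <;> decide) (hK _)).1]
  simp [MonoidHom.mem_ker]

theorem card_aut6 : Nat.card (MulAut (alternatingGroup (Fin 6))) ≤ 1440 := by
  obtain ⟨C, hC, hm, ho⟩ := exists_cod fN (alternatingGroup (Fin 6))
  have h1 : closure {ga6, gb6} = ⊤ := by
    rw [eq_top_iff, ← alternatingGroup.closure_isThreeCycles_eq_top, closure_le]
    intro x hx
    obtain ⟨a, ha, e⟩ := anyL_iff.1 ((enum6 x).1 (by
      rw [← pow_three, ← Perm.IsThreeCycle.orderOf hx, pow_orderOf_eq_one]))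
    obtain ⟨g, hg, e'⟩ := slp_sound C (G := closure {ga6, gb6}) a6L [C.code ga6, C.code gb6] (by
      simp only [List.forall_mem_cons]
      exact ⟨⟨_, subset_closure (by simp), rfl⟩, ⟨_, subset_closure (by simp), rfl⟩, by simp⟩)
      (by rw [hC, hC, hm, ho]; decide +kernel) a ha
    rw [← hC, ← e', Nat.beq_eq] at e
    exact C.inj e ▸ hg
  let P := (a6L.map Prod.fst).flatMap fun c => ((a6L.map Prod.fst).filter (rel4 c)).map (c, ·)
  have := Fintype.ofFinite (MulAut (alternatingGroup (Fin 6)))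
  have h2 : ∀ (α : MulAut (alternatingGroup (Fin 6))) (y : alternatingGroup (Fin 6)),
      y * (y * y) = 1 → C.code (α y) ∈ a6L.map Prod.fst := fun α y h => by
    obtain ⟨a, ha, e⟩ := anyL_iff.1 ((enum6 (α y)).1 (by
      rw [← coe_mul, ← coe_mul, ← map_mul, ← map_mul, h, map_one, coe_one]))
    rwa [hC, Nat.eq_of_beq_eq_true e]
  have h3 : C.code 1 = 181896 := by rw [C.code_one, ho]; decide +kernel
  rw [Nat.card_eq_fintype_card, ← (by decide +kernel : P.length = 1440)]
  refine (Finset.card_le_card_of_injOn (fun α => (C.code (α ga6), C.code (α gb6))) (fun α _ => ?_)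
    fun α _ β _ e => ?_).trans P.toFinset_card_le
  · refine List.mem_toFinset.2 (List.mem_flatMap.2 ⟨_, h2 α _ (by decide +kernel), List.mem_map.2
      ⟨_, List.mem_filter.2 ⟨h2 α _ (by decide +kernel), ?_⟩, rfl⟩⟩)
    simp only [rel4, J3.frc_eq, ← hm, ← C.code_mul, ← map_mul, ← h3, Bool.and_eq_true, Bool.not_eq_true',
      Nat.beq_eq, ← Bool.not_eq_true, C.inj.eq_iff, EmbeddingLike.map_eq_one_iff]
    decide +kernel
  · simp only [Prod.mk.injEq, C.inj.eq_iff] at e
    exact MulEquiv.toMonoidHom_injective (MonoidHom.eq_of_eqOn_dense h1 (by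
      rintro _ (rfl | rfl); exacts [e.1, e.2]))

/-- Words for the elements. -/
def a6W : List (ℕ × List ℕ) :=
  [(52133112379, [1, 2, 1, 0, 1]), (79500645648, [2, 1, 2, 3, 2, 1, 3]), (80098929040, [2, 4, 2,
  4]), (80095317250, [3]), (80333723138, [5, 5, 6, 4, 5, 4, 6, 4, 5]), (18670127760, [7, 6, 6,
  7])]

theorem model_A6 : ∃ (U A1 A2 : Subgroup (MulAut (alternatingGroup (Fin 6))))
    (t : MulAut (alternatingGroup (Fin 6))) (φ : _ → _),
      SylIn 2 U ⊤ ∧ Str (groupFusionSystem U) A1 A2 t φ ∧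
      Nat.card U = 32 ∧ (A1 ⊓ A2).relIndex A1 = 2 ∧
      (groupFusionSystem U).StronglyClosed (A1 ⊔ A2) := by
  let C := sdCod (codComap fN.coding (.id _) Function.injective_id) 18
    (comap_lt fN _ Function.injective_id rfl) out6 out6_sq
  obtain ⟨hm, ho⟩ : C.mul = _ ∧ C.one = _ := sd_perm fN (.id _) Function.injective_id rfl out6_sq
  obtain ⟨l, hl⟩ : ∃ l : List _, l.map C.code = a6W.map Prod.fst :=
    sd_list _ _ _ _ a6W (out0_eq fun i => (mp_gen 0 i).1) (out0_eq (x := finRotate 6)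
      (y := swap 1 4 * (swap 2 5 * swap 2 3)) (by decide +kernel)) (by decide +kernel)
  simp only [a6W, List.map_cons, List.map_nil, List.map_eq_cons_iff, List.map_eq_nil_iff] at hl
  obtain ⟨t, _, rfl, et, x, _, rfl, ex, c, _, rfl, ec, d, _, rfl, ed, e, _, rfl, ee,
    g, _, rfl, eg, rfl⟩ := hl
  have hG := gs_of_check C (x1 := [c]) (x2 := [x]) (ds := [d, e]) (t := t) (g := g) (C.pc_of_check _
    [(11, [6, 5, 8, 4]), (0, [7, 2, 4]), (0, [1, 2]), (0, [1]), (0, [])] (by
      simp only [List.cons_append, List.nil_append, List.map_cons, List.map_nil, et, ex, ec, ed, ee,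
        hm, ho]; decide +kernel)) (C.pc_of_check _ [(0, [1, 2]), (0, [1]), (0, [])] (by
      simp only [List.cons_append, List.nil_append, List.map_cons, List.map_nil, ex, ed, ee,
        hm, ho]; decide +kernel)) rfl (by simp) (by
    simp only [List.cons_append, List.nil_append, List.map_cons, List.map_nil, et, ex, ec, ed, ee,
      eg, hm, ho]; decide +kernel)
  have hc : Nat.card (Perm (Fin 6) ⋊[sgnH out6 out6_sq] ℤˣ) = 1440 := by
    rw [card_sd, Nat.card_perm]; simp [Nat.factorial]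
  have hb := pi6_inj.bijective_of_nat_card_le (hc ▸ card_aut6)
  have hG' := hG.map pi6 fun u _ => (injective_iff_map_eq_one _).1 pi6_inj u
  have hk : ∀ z, z ∈ SemidirectProduct.rightHom.ker ↔ C.code z % 2 = 0 := sd_mod _ _ _ _
  have := (MonoidHom.normal_ker (SemidirectProduct.rightHom (φ := sgnH out6 out6_sq))).map pi6 hb.2
  refine ⟨_, _, _, _, _, hG'.sylIn (by rw [← Nat.card_eq_of_bijective _ hb, hc]; simp), hG'.str.1,
    hG'.str.2.1, hG'.str.2.2, hG'.sc (SemidirectProduct.rightHom.ker.map pi6)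
      (map_mono (lcl_le.2 ?_)) (map_mono (lcl_le.2 ?_)) ?_⟩
  · simp [hk, ec, ed, ee]
  · simp [hk, ex, ed, ee]
  · simp [mem_map_iff_mem pi6_inj, hk, et]

end Cfsg.Agent.PU
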