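import Cfsg.Agent.Lib.PU.Push

/-!
Construction of the amalgam.
-/

set_option autoImplicit false

namespace Cfsg.Agent.PU

open Cfsg Cfsg.FusionSystem Subgroup Cfsg.Agent.FT
open Cfsg.Agent.H6 (cj RealizedIn SylIn)
open Cfsg.Agent.H9 (U4)
open Cfsg.Agent.SP (sA sB sZ sX)
open scoped commutatorElement

section
variable {H Γ : Type*} [Group H] [Group Γ] {L B Q Z : Subgroup H} {g : H} {f : H →* Γ}

theorem map_mem_cent (hf : Function.Injective f) {z : H} : f z ∈ 𝒞(B.map f) ↔ z ∈ 𝒞(B) := by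
  simp only [mem_cent]
  refine ⟨fun h b hb => hf (by rw [map_mul, map_mul]; exact h _ (mem_map_of_mem f hb)), ?_⟩
  rintro h _ ⟨b, hb, rfl⟩
  rw [← map_mul, h b hb, map_mul]

theorem PUD.map (h : PUD L B Q Z g) (hf : Function.Injective f) :
    PUD (L.map f) (B.map f) (Q.map f) (Z.map f) (f g) := by
  have e : (cj g B).map f = cj (f g) (B.map f) := by
    rw [cj, cj, map_map, map_map]
    congr 1
    ext x
    simp
  refine ⟨mem_map_of_mem f h.gL, by rw [← e, ← Subgroup.map_sup, ← h.gen], h.pB.map f, h.QL.map f,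
    map_mono h.QB, fun e => h.ne ((map_le_map_iff_of_injective hf).1 e), h.ZL.map f, ?_,
    map_mono h.ZQ, ?_, ?_, ?_, ?_, ?_, ?_, ?_⟩
  · rintro _ ⟨z, hz, rfl⟩
    rw [← map_mul, h.el z hz, map_one]
  · rintro _ ⟨z, hz, rfl⟩
    exact (map_mem_cent hf).2 (h.QZ hz)
  · rintro _ ⟨⟨z, hz, rfl⟩, h1, h2⟩
    exact mem_map_of_mem f (h.oz ⟨hz, hf (by rw [map_mul, h1, map_one]),
      mem_cent.1 ((map_mem_cent hf).1 (mem_cent.2 h2))⟩)
  · rintro _ ⟨s, hs, rfl⟩ h1 _ ⟨z, hz, rfl⟩ e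
    rw [← map_mul, ← map_mul] at e
    exact (map_mem_cent hf).2 (h.a s hs (fun h2 => h1 (mem_map_of_mem _ h2)) z hz (hf e))
  · have e : 𝒞(B.map f) ⊓ Z.map f = (𝒞(B) ⊓ Z).map f := by
      refine le_antisymm ?_ (by
        rintro _ ⟨z, hz, rfl⟩
        exact ⟨(map_mem_cent hf).2 hz.1, mem_map_of_mem f hz.2⟩)
      rintro _ ⟨h1, z, hz, rfl⟩
      exact mem_map_of_mem f ⟨(map_mem_cent hf).1 h1, hz⟩
    rw [relIndex_map_map_of_injective _ _ hf, ← inf_relIndex_right 𝒞(B.map f), e,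
      relIndex_map_map_of_injective _ _ hf, inf_relIndex_right]
    exact h.b
  · rintro _ ⟨z, hz, rfl⟩ _ ⟨s, hs, rfl⟩
    rw [← map_commutatorElement]
    exact (map_mem_cent hf).2 (h.c z hz s hs)
  · rintro _ ⟨z, hz, rfl⟩ _ ⟨s, hs, rfl⟩ e
    rw [← map_commutatorElement, map_mem_cent hf] at e
    rw [← map_commutatorElement, h.d z hz s hs e, map_one]
  · rintro _ ⟨s, hs, rfl⟩ h1 _ ⟨s', hs', rfl⟩ h2
    obtain ⟨l, hl, hn, e⟩ := h.e s hs (fun e => h1 (mem_map_of_mem _ e)) s' hs'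
      (fun e => h2 (mem_map_of_mem _ e))
    exact ⟨f l, mem_map_of_mem f hl, le_normalizer_map f (mem_map_of_mem f hn), by
      simpa using mem_map_of_mem f e⟩

variable (B) in
/-- The `B`-component of an element. -/
noncomputable def cmp (y : H) : B :=
  ⟨((y : H ⧸ B).out)⁻¹ * y, QuotientGroup.eq.1 (QuotientGroup.out_eq' _)⟩

/-- An automorphism of `B` as a permutation of `H`. -/
noncomputable def prmF (α : MulAut B) (y : H) : H := (y : H ⧸ B).out * α (cmp B y)

theorem prmF_mul (α : MulAut B) (y : H) (b : B) : prmF α (y * b) = prmF α y * α b := by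
  have e : ((y * b : H) : H ⧸ B) = y := QuotientGroup.mk_mul_of_mem y b.2
  have e' : cmp B (y * b) = cmp B y * b := Subtype.ext (by simp [cmp, e, mul_assoc])
  rw [prmF, prmF, e, e', map_mul, Subgroup.coe_mul, mul_assoc]

theorem prmF_out (α : MulAut B) (c : H ⧸ B) : prmF α c.out = c.out := by
  have e' : cmp B c.out = 1 := Subtype.ext (by simp [cmp])
  simp [prmF, e']

theorem prmF_prmF (α β : MulAut B) (y : H) : prmF (α * β) y = prmF α (prmF β y) := by
  have := prmF_mul α (y : H ⧸ B).out (β (cmp B y))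
  rw [prmF_out] at this
  exact this.symm

theorem prmF_one (y : H) : prmF (1 : MulAut B) y = y := by simp [prmF, cmp]

/-- The permutation representation of `Aut B`. -/
noncomputable def prm : MulAut B →* Equiv.Perm H :=
  MonoidHom.mk' (fun α => ⟨prmF α, prmF α⁻¹, fun y => by rw [← prmF_prmF, inv_mul_cancel, prmF_one],
    fun y => by rw [← prmF_prmF, mul_inv_cancel, prmF_one]⟩) fun α β => Equiv.ext (prmF_prmF α β)

/-- The right regular representation. -/
def rreg : H →* Equiv.Perm H :=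
  MonoidHom.mk' (fun a => Equiv.mulRight a⁻¹) fun a b => Equiv.ext fun y => by simp [mul_assoc]

theorem rreg_inj : Function.Injective (rreg : H →* Equiv.Perm H) := fun a b e => by
  simpa [rreg] using congrArg (fun s : Equiv.Perm H => s 1) e

theorem prm_conj (α : MulAut B) {b : H} (hb : b ∈ B) :
    prm α * rreg b * (prm α)⁻¹ = rreg (equivFun α b) := by
  rw [mul_inv_eq_iff_eq_mul, equivFun_of_mem α hb]
  ext y
  have := prmF_mul α y ⟨b, hb⟩⁻¹
  rw [map_inv] at this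
  exact this

end

theorem PUD.amal {H : Type*} [Group H] [Finite H] {L B Q Z : Subgroup H} {g : H}
    (h : PUD L B Q Z g) (𝒜 : Subgroup (MulAut B))
    (hN : ∀ N ≤ B, L ≤ 𝒩(N) → (∀ α ∈ 𝒜, ∀ n ∈ N, equivFun α n ∈ N) → N = ⊥) :
    ∃ α ∈ 𝒜, ∃ z ∈ Z, equivFun α z ∉ Q := by
  obtain ⟨_, ⟨α, hα, rfl⟩, e⟩ := (h.map rreg_inj).push (X := 𝒜.map prm) (le_norm_of_cj (by
    rintro _ ⟨α, -, rfl⟩
    rw [H6.cj_le_iff]
    rintro _ ⟨b, hb, rfl⟩
    rw [prm_conj α hb]
    exact mem_map_of_mem _ (equivFun_mem α hb))) (fun N h1 h2 h3 => by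
      have e : (N.comap rreg).map rreg = N := map_comap_eq_self (h1.trans (map_le_range _ _))
      rw [← e, hN (N.comap rreg) (by rwa [← map_le_map_iff_of_injective rreg_inj, e])
        ((map_le_iff_le_comap.1 h2).trans (le_normalizer_comap _)) fun α hα n hn => ?_,
        Subgroup.map_bot]
      rw [mem_comap, ← prm_conj α ((mem_map_iff_mem rreg_inj).1 (h1 hn))]
      exact H6.conj_mem_of_mem_normalizer (h3 (mem_map_of_mem _ hα)) hn)
  by_contra hc
  push Not at hc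
  refine e (H6.cj_le_iff.2 ?_)
  rintro _ ⟨z, hz, rfl⟩
  rw [prm_conj α (h.QB (h.ZQ hz))]
  exact mem_map_of_mem _ (hc α hα z hz)

end Cfsg.Agent.PU
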