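import Cfsg.Agent.Lib.PU.FrBas

/-!
The automizers of `A1`, `A2`, `B` and `S` are determined by the frame.
-/

set_option autoImplicit false

namespace Cfsg.Agent.PU

open Cfsg Cfsg.FusionSystem Subgroup Cfsg.Agent.FT
open Cfsg.Agent.H6 (cj RealizedIn SylIn)
open Cfsg.Agent.H9 (U4)
open Cfsg.Agent.SP (sA sB sZ sX)
open scoped commutatorElement

variable {Ω : Type*} [Group Ω] {S : Subgroup Ω} [Finite S] {F F' : FusionSystem S}
  {K : Type*} [Field K] [Fintype K] [CharP K 2] {sp : Bool} {σ : K ≃+* K}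
  {Y : Subgroup (Tor K)} {w : U4 K →* Ω} {t : Ω}


variable (h : Fr F sp σ Y w t) (h' : Fr F' sp σ Y w t) {f : Ω → Ω}
include h h'

theorem Fr.autB (hf : F.IsIso w.range w.range f) : F'.IsMor w.range f := by
  obtain ⟨s, hs, τ, hτ, e⟩ := h.dn f hf
  obtain ⟨g, h1, h2⟩ := h'.up τ hτ
  refine ((isMor_conj F' le_rfl hs).comp' h1 fun x hx => h1.mem hx).congr ?_
  rintro _ ⟨u, rfl⟩
  rw [h2, e]

variable (hp : Par sp σ Y) (hF : F.IsSaturated 2)
include hp hF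

theorem Fr.autA1 (hf : F.IsIso ((sB K).map w) ((sB K).map w) f) : F'.IsMor ((sB K).map w) f := by
  obtain ⟨φ, hs, h1⟩ := h.str hp
  have sd := hs.sd h.isPGroup hF
  have k : ∀ f, F.IsIso ((sB K).map w) ((sB K).map w) f →
      (∀ d ∈ (sB K).map w ⊓ (sA K).map w, f d ∈ (sA K).map w) → F'.IsMor ((sB K).map w) f :=
    fun f hf hD => by
      obtain ⟨ψ, h2, h3⟩ := sd.s6 h.isPGroup hF hf hD
      rw [map_sup_map] at h2
      exact ((h.autB h' h2).mono (map_le_range _ _)).congr h3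
  by_cases hD : ∀ d ∈ (sB K).map w ⊓ (sA K).map w, f d ∈ (sA K).map w
  · exact k f hf hD
  push Not at hD
  obtain ⟨b, hb, e⟩ := sd.s8 hf hs.iso hD hs.mv
  obtain ⟨φ', h2, h3⟩ := h'.low 1
  have hn := hs.toPair.norm1 (mem_sup_right hb)
  have g1 := hs.iso.comp' (isIso_conj_of_mem_normalizer F hs.le1 (hs.le2 hb) hn)
  have g2 : F'.IsMor _ fun x => φ (b * x * b⁻¹) :=
    (h2.congr fun _ ⟨u, hu, e⟩ => by rw [← e, h1 u hu, h3 u hu]).comp'
      (isMor_conj F' hs.le1 (hs.le2 hb)) fun x hx => conj_mem_of_mem_normalizer hn hx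
  obtain ⟨g, h4, h5, h6⟩ := g1.exists_symm
  exact ((k _ (hf.comp' h4) fun d hd => (e _ (h4.mapsTo d hd.1)).2
    ((h6 d hd.1).symm ▸ hd.2)).comp' g2 g1.mapsTo).congr fun x hx => congrArg f (h5 x hx)

theorem Fr.autA2 (hf : F.IsIso ((sA K).map w) ((sA K).map w) f) : F'.IsMor ((sA K).map w) f := by
  obtain ⟨φ, hs, -⟩ := h.str hp
  have i1 := fun F : FusionSystem S => isIso_conj F hs.le1 hs.tS
  have i2 := fun F : FusionSystem S => isIso_conj F hs.le2 hs.tS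
  rw [show ((sB K).map w).map _ = _ from hs.t1] at i1
  rw [show ((sA K).map w).map _ = _ from hs.t2] at i2
  have i3 := (i2 F).comp' (hf.comp' (i1 F))
  refine ((i1 F').comp' ((i3.of_isMor (h.autA1 h' hp hF i3)).comp' (i2 F'))).mor.congr fun x _ => ?_
  simp only [h.t_inv, ← mul_assoc, h.tt, one_mul]
  simp only [mul_assoc, h.tt, mul_one]

theorem Fr.autS (hf : F.IsIso S S f) : F'.IsMor S f := by
  obtain ⟨φ, hs, -⟩ := h.str hp
  have hB := fun f hf => hs.isIsoB (f := f) hf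
  rw [map_sup_map] at hB
  obtain ⟨s, hs1, τ, hτ, e⟩ := h.dn f (hB f hf)
  have f1 := ((isMor_conj F le_rfl (S.inv_mem hs1)).isIso_top).comp' hf
  have e1 : ∀ u, s⁻¹ * f (w u) * s⁻¹⁻¹ = w (dg τ u) := fun u => by rw [e]; group
  have k : ∀ f, F.IsIso S S f → ∃ v, f t = w v * t := fun f hf =>
    ((h.mem _).1 (hf.mapsTo t h.tS)).imp fun v hv => hv.resolve_left fun e =>
      h.nt (((hB f hf).mem_iff hf.mor h.range_le h.tS).1 ⟨v, e.symm⟩)
  generalize hg : (fun x => s⁻¹ * f x * s⁻¹⁻¹) = g at f1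
  replace e1 : ∀ u, g (w u) = w (dg τ u) := fun u => hg ▸ e1 u
  obtain ⟨v, hv⟩ := k g f1
  have e2 : ∀ u, w (dg τ (sw sp σ u)) = w (v * sw sp σ (dg τ u) * v⁻¹) := fun u => by
    rw [← e1, ← h.conj', f1.mor.map_conj h.tS (h.wS u), hv, e1, map_mul, map_mul, map_inv,
      ← h.conj']
    group
  obtain ⟨-, e3, e4, -⟩ := h.ker.eq_iff.1 (e2 ⟨0, 0, 0, 1⟩)
  obtain ⟨-, -, e5, -⟩ := h.ker.eq_iff.1 (e2 ⟨0, 0, 1, 0⟩)
  rw [SP.conj_z] at e3
  rw [SP.conj_i] at e5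
  have e6 : τ.sw σ = τ := Tor.ext (Units.ext (by simpa [sw, dg_apply, Tor.sw] using e5.symm))
    (Units.ext (by simpa [sw, dg_apply, Tor.sw] using e3.symm)) rfl
  obtain ⟨f0, a1, a2, a3⟩ := h.upS τ hτ e6
  obtain ⟨f0', b1, b2, b3⟩ := h'.upS τ hτ e6
  have b4 : F'.IsMor S f0 := b1.congr fun x hx => by
    obtain ⟨u, rfl | rfl⟩ := (h.mem x).1 hx
    · rw [a2, b2]
    · rw [a1.map_mul (h.wS u) h.tS, b1.map_mul (h.wS u) h.tS, a2, b2, a3, b3]
  obtain ⟨g0, c1, c2, c3⟩ := a1.isIso_top.exists_symm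
  have d1 := c1.comp' f1
  obtain ⟨α, hα, d2⟩ := d1.exists_aut
  have d3 : ∀ u, g0 (g (w u)) = w u := fun u => by rw [e1, ← a2, c2 _ (h.wS u)]
  obtain ⟨n, hn⟩ := H7.exists_pow_eq_one_of_two_step h.isPGroup (Q := w.range) (α := α)
    (fun x hx ⟨u, hu⟩ => by rw [d2 x hx, ← hu, d3]) fun x hx => by
      obtain ⟨v, hv⟩ := k _ d1
      rw [d2 x hx]
      obtain ⟨u, rfl | rfl⟩ := (h.mem x).1 hx
      · rw [d3, inv_mul_cancel]; exact one_mem _
      · rw [d1.mor.map_mul (h.wS u) h.tS, d3, hv, mul_inv_rev, mul_assoc, inv_mul_cancel_left,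
          h.t_inv, ← mul_assoc, h.conj]
        exact ⟨_, rfl⟩
  obtain ⟨r, hr, d4⟩ := mem_inn_iff.1 ((hF.sylowIn_top h.isPGroup).mem_of_mem_normalizer hα
    (le_normalizer_inn ⊤ (mem_top _)) hn)
  refine ((isMor_conj F' le_rfl hs1).comp' (b4.comp' (isMor_conj F' le_rfl hr)
    (isMor_conj F' le_rfl hr).isIso_top.mapsTo) fun x hx => b4.mem
      ((isMor_conj F' le_rfl hr).mem hx)).congr fun x hx => ?_
  rw [← d4 ⟨x, hx⟩, ← equivFun_coe, d2 x hx, c3 _ (f1.mapsTo x hx), ← hg]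
  group

end Cfsg.Agent.PU
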