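import Cfsg.Agent.Lib.PU.Red2
import Cfsg.Agent.Lib.PU.Amal

/-!
The pushing-up datum inside the fusion system.
-/

set_option autoImplicit false

namespace Cfsg.Agent.PU

open Cfsg Cfsg.FusionSystem Subgroup Cfsg.Agent.FT
open Cfsg.Agent.H6 (cj RealizedIn SylIn)
open Cfsg.Agent.H9 (U4)
open Cfsg.Agent.SP (sA sB sZ sX)
open scoped commutatorElement

/-- `PUD` read in the fusion system, with the automorphism found by pushing up. -/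
structure PUF {Ω : Type*} [Group Ω] {S : Subgroup Ω} (F : FusionSystem S) (T Q Z R : Subgroup Ω)
    (γ α : Ω → Ω) : Prop where
  le : T ≤ S
  QB : NormalIn Q (Bm T)
  ne : ¬ Bm T ≤ Q
  ZB : NormalIn Z (Bm T)
  el : El Z
  ZQ : Z ≤ Q
  QZ : Q ≤ 𝒞(Z)
  oz : OZ (Bm T) ≤ Z
  a : ∀ s ∈ Bm T, s ∉ Q → ∀ z ∈ Z, s * z = z * s → z ∈ 𝒞(Bm T)
  b : Q.relIndex (Bm T) ≤ (𝒞(Bm T)).relIndex Z
  c : ∀ z ∈ Z, ∀ s ∈ Bm T, ⁅z, s⁆ ∈ 𝒞(Bm T)
  iso : F.IsIso Q Q γ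
  γZ : ∀ z ∈ Z, γ z ∈ Z
  d : ∀ z ∈ Z, ∀ s ∈ Bm T, γ ⁅z, s⁆ ∈ 𝒞(Bm T) → ⁅z, s⁆ = 1
  fix : ∀ N ≤ Q, (∀ n ∈ N, γ n ∈ N) → N ≤ 𝒞(Bm T) → ∀ n ∈ N, γ n = n
  e : ∀ s ∈ Bm T, s ∉ Q → ∀ s' ∈ Bm T, s' ∉ Q → ∃ ψ, F.IsIso (Bm T) (Bm T) ψ ∧
    (∀ x ∈ Q, ψ x ∈ Q) ∧ ψ s * s'⁻¹ ∈ Q
  αB : F.IsIso (Bm T) (Bm T) α
  αZ : ∃ z ∈ Z, α z ∉ Q
  RQ : R ≤ Q
  RT : T ≤ 𝒩(R)
  zR : OZ T ≤ R
  γR : ∀ r ∈ R, γ r ∈ R
  mv : ∃ z ∈ OZ T, γ z ≠ z
  g1 : T ≤ 𝒩(Q) → normalizerIn S Q = T ∧ F.IsFullyNormalized Q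

section
variable {Ω H : Type*} [Group Ω] [Group H] {B : Subgroup Ω} {B' P' : Subgroup H} {j : Ω → H}
  {s : H → Ω}

theorem grpIso_preim (h : GrpIso B B' j s) (hP : P' ≤ B') : GrpIso (h.hom.preim P') P' j s :=
  ⟨h.hom.mono (h.hom.preim_le _), h.hom'.mono hP, fun _ hx => hx.2,
    fun y hy => ⟨h.mem' y (hP hy), (h.right y (hP hy)).symm ▸ hy⟩, fun x hx => h.left x hx.1,
    fun y hy => h.right y (hP hy)⟩

theorem grpIso_relIndex (h : GrpIso B B' j s) {P : Subgroup Ω} (e : ∀ x ∈ B, x ∈ P ↔ j x ∈ P') :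
    P.relIndex B = P'.relIndex B' := by
  rw [relIndex, relIndex, ← index_comap_of_surjective (f := h.toEquiv.toMonoidHom) _
    h.toEquiv.surjective]
  exact congrArg index (Subgroup.ext fun x => e x x.2)

theorem grpIso_cent (h : GrpIso B B' j s) {x : Ω} (hx : x ∈ B) : j x ∈ 𝒞(B') ↔ x ∈ 𝒞(B) := by
  have := h.mem_centralizer_img_iff le_rfl hx
  rwa [h.img_top] at this

theorem normalIn_preim (h : GrpIso B B' j s) (hP : B' ≤ 𝒩(P')) : NormalIn (h.hom.preim P') B :=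
  .of_conj_mem (h.hom.preim_le _) fun y hy x hx => ⟨mul_mem (mul_mem hy hx.1) (inv_mem hy), by
    rw [h.hom.map_conj hy hx.1]
    exact conj_mem_of_mem_normalizer (hP (h.mem y hy)) hx.2⟩

end

variable {Ω : Type*} [Group Ω] {S : Subgroup Ω} [Finite S] {F : FusionSystem S}
  {T : Subgroup Ω} {H : Type*} [Group H] {ι : T →* H} {M : Subgroup H}

theorem St0.norm_le (h : St0 F T ι M) (hS : IsPGroup 2 S) {C : Subgroup Ω} (h1 : C ≤ T)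
    (h2 : C ≠ ⊥) (h3 : ∀ s ∈ S, s ∈ 𝒩(T) → s ∈ 𝒩(C))
    (h4 : ∀ f, F.IsIso T T f → ∀ c ∈ C, f c ∈ C) : 𝒩(img C (homFun ι)) ≤ M := by
  by_contra hn
  obtain ⟨e, -, k⟩ := h.g1 C h1 h2 (fun s hs => h3 s (h.le hs) (le_normalizer hs)) hn
  have e' : T = S := eq_of_normalizerIn_le hS h.le fun s hs => e.le ⟨hs.1, h3 s hs.1 hs.2⟩
  exact k ⟨e', e' ▸ h4⟩

omit [Finite S] in
theorem St0.isMor (h : St0 F T ι M) {s : H → Ω} (hs : GrpIso T ι.range (homFun ι) s)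
    {P : Subgroup Ω} (hP : P ≤ T) (l : H) (hl : ∀ x ∈ P, l * homFun ι x * l⁻¹ ∈ ι.range) :
    F.IsMor P fun x => s (l * homFun ι x * l⁻¹) :=
  h.mor P hP _ l (fun x hx => hs.mem' _ (hl x hx)) fun x hx => hs.right _ (hl x hx)

theorem St0.puf {Ω : Type*} [Group Ω] {S : Subgroup Ω} [Finite S] {F : FusionSystem S}
    (hS : IsPGroup 2 S) {T : Subgroup Ω} {H : Type*} [Group H] [Finite H] {ι : T →* H}
    {M : Subgroup H} (h : St0 F T ι M) : ∃ Q Z R γ α, PUF F T Q Z R γ α := by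
  have := finite_of_le h.le
  have hT : IsPGroup 2 T := hS.to_le h.le
  obtain ⟨s, hs⟩ := exists_grpIso_of_injective h.inj
  have hi : Set.InjOn (homFun ι) T := fun x hx y hy => hs.inj hx hy
  have hZ : 𝒩(OZ ι.range) ≤ M := by
    rw [← hs.img_top, ← img_OZ hs.hom hi]
    refine h.norm_le hS (OZ_le T) (OZ_ne_bot hT h.ne) (fun s _ k => norm_le_OZ T k) fun f hf c hc => ?_
    have := mem_img_of_mem f hc
    rwa [img_OZ hf.mor.isHomOn hf.mor.injOn, hf.img_eq] at this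
  have hJ : 𝒩(Je ι.range) ≤ M := by
    rw [← hs.img_top, ← img_Je hs.hom hi]
    refine h.norm_le hS (Je_le T) (Je_ne_bot hT h.ne) (fun s _ k => norm_le_Je T k) fun f hf c hc => ?_
    have := mem_img_of_mem f hc
    rwa [img_Je hf.mor.isHomOn hf.mor.injOn, hf.img_eq] at this
  obtain ⟨L, O, V, A, hR⟩ := exists_RD h.syl (fun e => h.ne ((hs.img_eq_bot_iff le_rfl).1
    (hs.img_top.trans e))) h.TM h.neM h.cc h.sol hJ hZ
  obtain ⟨L', Q', Z', g, p, hL, hO⟩ := hR.pud h.syl.isPGroup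
  have hB : GrpIso (Bm T) (Bm ι.range) (homFun ι) s := by
    have := hs.restrict (Bm_le T)
    rwa [img_Bm hs.hom hi, hs.img_top] at this
  have hBS : Bm T ≤ S := (Bm_le T).trans h.le
  have := finite_of_le hBS
  have BL : Bm ι.range ≤ L' := p.gen ▸ le_sup_left
  have ZB := p.ZQ.trans p.QB
  obtain ⟨_, ⟨α, hα, rfl⟩, z, hz, hz'⟩ := p.amal ((F.autGroup (Bm T)).map hB.congrAut.toMonoidHom)
    fun N h1 h2 h3 => by
    by_contra hn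
    have hN := grpIso_preim hB h1
    have k : ∀ f, F.IsIso (Bm T) (Bm T) f → ∀ c ∈ hB.hom.preim N, f c ∈ hB.hom.preim N :=
      fun f hf c hc => by
      obtain ⟨β, hβ, e⟩ := hf.exists_aut
      have := h3 _ (mem_map_of_mem _ hβ) _ hc.2
      rw [MulEquiv.coe_toMonoidHom, hB.equivFun_congrAut' β hc.1, e c hc.1] at this
      exact ⟨hf.mapsTo c hc.1, this⟩
    have := finite_of_le ((hB.hom.preim_le N).trans hBS)
    have := h.norm_le hS ((hB.hom.preim_le N).trans (Bm_le T))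
      (fun e => hn (hN.img_top.symm.trans ((hN.img_eq_bot_iff le_rfl).2 e)))
      (fun u hu k' => mem_normalizer_of_finite
        (k _ (isIso_conj_of_mem_normalizer F hBS hu (norm_le_Bm T k'))))
      fun f hf => k f ((hf.mor.mono (Bm_le T)).isIso_of_img_eq (by
        rw [img_Bm hf.mor.isHomOn hf.mor.injOn, hf.img_eq]))
    rw [hN.img_top] at this
    exact hL (h2.trans this)
  have hQ := grpIso_preim hB p.QB
  have hQT := (hB.hom.preim_le Q').trans (Bm_le T)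
  have cQ : ∀ l ∈ L', ∀ x ∈ hB.hom.preim Q', l * homFun ι x * l⁻¹ ∈ Q' := fun l hl x hx =>
    p.QL.conj_mem hl hx.2
  have gL := L'.inv_mem p.gL
  have eγ : ∀ x ∈ hB.hom.preim Q', homFun ι (s (g⁻¹ * homFun ι x * g⁻¹⁻¹)) =
      g⁻¹ * homFun ι x * g⁻¹⁻¹ := fun x hx => hQ.right _ (cQ _ gL x hx)
  have mγ : ∀ x ∈ hB.hom.preim Q', s (g⁻¹ * homFun ι x * g⁻¹⁻¹) ∈ hB.hom.preim Q' := fun x hx =>
    hQ.mem' _ (cQ _ gL x hx)
  have cL : ∀ x ∈ hB.hom.preim Q', x ∈ 𝒞(Bm T) → s (g⁻¹ * homFun ι x * g⁻¹⁻¹) ∈ 𝒞(Bm T) →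
      homFun ι x ∈ 𝒞(L') := fun x hx h1 h2 => by
    rw [← grpIso_cent hB (mγ x hx).1, eγ x hx, inv_inv, ← H6.mem_cj, H6.cj_centralizer] at h2
    rw [p.gen, cent_sup]
    exact ⟨(grpIso_cent hB hx.1).2 h1, h2⟩
  have nZ := normalIn_preim hB (BL.trans p.ZL.norm)
  have cB : ∀ z ∈ hB.hom.preim Z', ∀ u ∈ Bm T, ⁅z, u⁆ ∈ hB.hom.preim Z' := fun z hz u hu => by
    rw [commutatorElement_def, mul_assoc, mul_assoc, ← mul_assoc u]
    exact mul_mem hz (nZ.conj_mem hu (inv_mem hz))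
  have cc : ∀ z ∈ hB.hom.preim Z', ∀ u ∈ Bm T, ⁅z, u⁆ ∈ 𝒞(Bm T) := fun z hz u hu => by
    rw [← grpIso_cent hB (cB z hz u hu).1, hB.hom.map_commutatorElement hz.1 hu]
    exact p.c _ hz.2 _ (hB.mem u hu)
  have nO : NormalIn (Op 2 (⊤ : Subgroup H)) ⊤ := core_normal _ _
  have hOl : Op 2 ⊤ ≤ ι.range := h.syl.le_of_le_normalizer (St.Op2 _) le_top (le_top.trans nO.norm)
  have RQ : hB.hom.preim (Op 2 ⊤) ≤ hB.hom.preim Q' := fun x hx => ⟨hx.1, hO ⟨hx.2, hB.mem x hx.1⟩⟩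
  have zR : OZ T ≤ hB.hom.preim (Op 2 ⊤) := fun x hx =>
    ⟨⟨hx.1, fun y hy => hx.2.2 y hy.1⟩, h.cc (cent_le_cent hOl ((grpIso_cent hs hx.1).2 hx.2.2))⟩
  refine ⟨hB.hom.preim Q', hB.hom.preim Z', hB.hom.preim (Op 2 ⊤),
    fun x => s (g⁻¹ * homFun ι x * g⁻¹⁻¹), equivFun α, h.le, normalIn_preim hB (BL.trans p.QL.norm),
    fun k => p.ne fun y hy => hB.right y hy ▸ (k (hB.mem' y hy)).2, nZ,
    (el_img (hB.hom.mono (hB.hom.preim_le _)) (fun x hx y hy => hB.inj hx.1 hy.1) le_rfl).1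
      ((grpIso_preim hB ZB).img_top.symm ▸ p.el), fun x hx => ⟨hx.1, p.ZQ hx.2⟩,
    fun x hx y hy => hB.inj (mul_mem hy.1 hx.1) (mul_mem hx.1 hy.1) ?_, fun x hx => ⟨hx.1, p.oz ?_⟩,
    fun u hu h1 x hx e => (grpIso_cent hB hx.1).1 (p.a _ (hB.mem u hu) (fun k => h1 ⟨hu, k⟩) _ hx.2 ?_),
    ?_, cc, (h.isMor hs hQT _ fun x hx => Bm_le _ (p.QB (cQ _ gL x hx))).isIso_self mγ,
    fun x hx => (grpIso_preim hB ZB).mem' _ (p.ZL.conj_mem gL hx.2), fun x hx u hu e => ?_,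
    fun N h1 h2 h3 n hn => ?_, fun u hu h1 u' hu' h2 => ?_, isIso_of_mem_autGroup hBS hα,
    ⟨s z, (grpIso_preim hB ZB).mem' z hz, fun k => hz' ?_⟩, RQ, fun t ht => ?_, zR,
    fun r hr => ⟨(mγ r (RQ hr)).1, ?_⟩, ?_, fun k => ?_⟩
  · rw [hB.hom.map_mul hy.1 hx.1, hB.hom.map_mul hx.1 hy.1]
    exact p.QZ hx.2 _ hy.2
  · have := mem_img_of_mem (homFun ι) hx
    rwa [img_OZ hB.hom fun x hx y hy => hB.inj hx hy, hB.img_top] at this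
  · rw [← hB.hom.map_mul hu hx.1, ← hB.hom.map_mul hx.1 hu, e]
  · rw [grpIso_relIndex hB (P := hB.hom.preim Q') (P' := Q') fun x hx => ⟨fun k => k.2, fun k => ⟨hx, k⟩⟩,
      grpIso_relIndex (grpIso_preim hB ZB) fun x hx => (grpIso_cent hB hx.1).symm]
    exact p.b
  · have k := cL _ ⟨(cB x hx u hu).1, p.ZQ (cB x hx u hu).2⟩ (cc x hx u hu) e
    rw [hB.hom.map_commutatorElement hx.1 hu] at k
    refine hB.inj (cB x hx u hu).1 (one_mem _) ?_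
    rw [hB.hom.map_commutatorElement hx.1 hu, p.d _ hx.2 _ (hB.mem u hu) k, hB.hom.map_one]
  · rw [cL n (h1 hn) (h3 hn) (h3 (h2 n hn)) _ gL, mul_inv_cancel_right, hB.left n (h1 hn).1]
  · obtain ⟨l, hl, ln, e⟩ := p.e _ (hB.mem u hu) (fun k => h1 ⟨hu, k⟩) _ (hB.mem u' hu')
      fun k => h2 ⟨hu', k⟩
    have cl : ∀ x ∈ Bm T, l * homFun ι x * l⁻¹ ∈ Bm ι.range := fun x hx =>
      conj_mem_of_mem_normalizer ln (hB.mem x hx)
    refine ⟨_, (h.isMor hs (Bm_le T) l fun x hx => Bm_le _ (cl x hx)).isIso_self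
      fun x hx => hB.mem' _ (cl x hx), fun x hx => hQ.mem' _ (cQ l hl x hx),
      mul_mem (hB.mem' _ (cl u hu)) (inv_mem hu'), ?_⟩
    rwa [hB.hom.map_mul (hB.mem' _ (cl u hu)) (inv_mem hu'), hB.right _ (cl u hu), hB.hom.map_inv hu']
  · rw [MulEquiv.coe_toMonoidHom, hB.equivFun_congrAut α (ZB hz)]
    exact k.2
  · have := finite_of_le ((hB.hom.preim_le (Op 2 ⊤)).trans hBS)
    refine mem_normalizer_of_finite fun x hx =>
      ⟨conj_mem_of_mem_normalizer (norm_le_Bm T (le_normalizer ht)) hx.1, ?_⟩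
    rw [hs.hom.map_conj ht (Bm_le T hx.1)]
    exact nO.conj_mem (mem_top _) hx.2
  · rw [eγ r (RQ hr)]
    exact nO.conj_mem (mem_top _) hr.2
  · by_contra! hn
    have gM : g ∈ M := inv_mem_iff.1 (hZ (centralizer_le_normalizer _ (mem_centralizer_of_conj_eq
      fun y hy => ?_)))
    · have BM := (Bm_le _).trans h.TM
      exact hL (p.gen ▸ sup_le BM (H6.cj_le_of_mem gM BM))
    rw [← hs.img_top, ← img_OZ hs.hom hi] at hy
    obtain ⟨x, hx, rfl⟩ := (hs.mem_img (OZ_le T)).1 hy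
    rw [← eγ x (RQ (zR hx)), hn x hx]
  · have := h.g1 _ hQT (fun e => OZ_ne_bot hT h.ne (le_bot_iff.1 ((zR.trans RQ).trans e.le))) k
      fun k' => hL (p.QL.norm.trans (hQ.img_top ▸ k'))
    exact ⟨this.1, this.2.1⟩

end Cfsg.Agent.PU
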