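import Cfsg.Agent.Lib.PU.Blk1
import Cfsg.Agent.Lib.PU.Sd

/-!
The two elementary abelian groups.
-/

set_option autoImplicit false

namespace Cfsg.Agent.PU

open Cfsg Cfsg.FusionSystem Subgroup Cfsg.Agent.FT Cfsg.Agent.H7
open Cfsg.Agent.H6 (cj RealizedIn SylIn)
open scoped commutatorElement

/-- The local properties of a flag, without the big group. -/
structure Lc {G : Type*} [Group G] (q : ℕ) (B Q Z : Subgroup G) : Prop where
  QB : NormalIn Q B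
  ne : ¬ B ≤ Q
  ZB : NormalIn Z B
  el : El Z
  ZQ : Z ≤ Q
  QZ : Q ≤ 𝒞(Z)
  oz : OZ B ≤ Z
  a : ∀ s ∈ B, s ∉ Q → ∀ z ∈ Z, s * z = z * s → z ∈ 𝒞(B)
  qe : Q.relIndex B = q
  b : q ≤ (centralizerIn B B).relIndex Z

section
variable {G : Type*} [Group G] {q : ℕ} {B Q Z Q' Z' : Subgroup G} [Finite B]

theorem Lc.not_cent (h : Lc q B Q Z) : ¬ Z ≤ 𝒞(B) := fun e => by
  have h1 := h.b
  rw [(relIndex_eq_one (H := centralizerIn B B)).2 (le_inf h.ZB.le e), ← h.qe] at h1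
  exact h.ne (relIndex_eq_one.1 (le_antisymm h1 (Nat.pos_of_ne_zero FiniteIndex.index_ne_zero)))

theorem Lc.crit (h : Lc q B Q Z) (h' : Lc q B Q' Z') (h2 : ¬ Z' ≤ Q) : ¬ Z ≤ Q' := fun e => by
  obtain ⟨s, hs, hsQ⟩ := SetLike.not_le_iff_exists.1 h2
  exact h.not_cent fun z hz => h.a s (h'.ZB.le hs) hsQ z hz (mem_cent.1 (h'.QZ (e hz)) s hs)

omit [Finite B] in
theorem Lc.inf_le (h : Lc q B Q Z) (h' : Lc q B Q' Z') (h2 : ¬ Z' ≤ Q) {z : G} (hz : z ∈ Z)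
    (hz' : z ∈ Q') : z ∈ 𝒞(B) := by
  obtain ⟨t, ht, htQ⟩ := SetLike.not_le_iff_exists.1 h2
  exact h.a t (h'.ZB.le ht) htQ z hz (mem_cent.1 (h'.QZ hz') t ht)

theorem Lc.dec (h : Lc q B Q Z) (h' : Lc q B Q' Z') (h2 : ¬ Z' ≤ Q) {s : G} (hs : s ∈ B) :
    ∃ z ∈ Z, ∃ y ∈ Q', s = z * y := by
  have : Finite Z := Finite.of_injective _ (inclusion_injective h.ZB.le)
  refine exists_mul_of_relIndex_le h.ZB.le ?_ hs
  rw [h'.qe, ← inf_relIndex_right Q']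
  exact h.b.trans (relIndex_le_of_le_left (fun z hz => ⟨h.ZB.le hz.2, h.inf_le h' h2 hz.2 hz.1⟩)
    FiniteIndex.index_ne_zero)

theorem Lc.sq (h : Lc q B Q Z) (h' : Lc q B Q' Z') (h2 : ¬ Z' ≤ Q) {s : G} (hs : s ∈ Q) :
    ∃ y ∈ Q', s * s = y * y := by
  obtain ⟨z, hz, y, hy, rfl⟩ := h.dec h' h2 (h.QB.le hs)
  have h1 := mem_cent.1 (h.QZ ((Q.mul_mem_cancel_left (h.ZQ hz)).1 hs)) z hz
  exact ⟨y, hy, by rw [mul_assoc, ← mul_assoc y, ← h1, ← mul_assoc, ← mul_assoc, h.el z hz, one_mul]⟩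

theorem Lc.cent (h : Lc q B Q Z) (h' : Lc q B Q' Z') (h2 : ¬ Z' ≤ Q) {x : G} (hx : x ∈ Q)
    (hx' : x ∈ 𝒞(Q')) : x ∈ 𝒞(B) := mem_cent.2 fun s hs => by
  obtain ⟨z, hz, y, hy, rfl⟩ := h.dec h' h2 hs
  rw [mul_assoc, mem_cent.1 hx' y hy, ← mul_assoc, mem_cent.1 (h.QZ hx) z hz, mul_assoc]

theorem Lc.eq (h : Lc q B Q Z) (h' : Lc q B Q' Z') (h2 : ¬ Z' ≤ Q) (he : El Q') : Z = Q := by
  refine le_antisymm h.ZQ fun s hs => ?_
  obtain ⟨z, hz, y, hy, rfl⟩ := h.dec h' h2 (h.QB.le hs)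
  have h1 := (Q.mul_mem_cancel_left (h.ZQ hz)).1 hs
  exact Z.mul_mem hz (h.oz ⟨h.QB.le h1, he y hy,
    h.cent h' h2 h1 (mem_cent.2 fun a ha => he.comm ha hy)⟩)

omit [Finite B] in
theorem comm_mem_left {a b : G} (h : NormalIn Z B) (ha : a ∈ Z) (hb : b ∈ B) : ⁅a, b⁆ ∈ Z := by
  rw [commutatorElement_def, mul_assoc, mul_assoc, ← mul_assoc b]
  exact Z.mul_mem ha (conj_mem_of_mem_normalizer (h.norm hb) (Z.inv_mem ha))

omit [Finite B] in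
theorem comm_mem_right {a b : G} (h : NormalIn Z B) (ha : a ∈ B) (hb : b ∈ Z) : ⁅a, b⁆ ∈ Z := by
  rw [← commutatorElement_inv]
  exact Z.inv_mem (comm_mem_left h hb ha)

end

variable {Ω : Type*} [Group Ω] {S : Subgroup Ω} {F : FusionSystem S}

theorem relIndex_img {B P A : Subgroup Ω} {f : Ω → Ω} (hf : F.IsMor B f) (hP : P ≤ B) (hA : A ≤ B) :
    (img P f).relIndex (img A f) = P.relIndex A := by
  rw [← map_subgroupOf_eq_img hP (φ := hf.isHomOn.toHom) fun _ _ => rfl,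
    ← map_subgroupOf_eq_img hA (φ := hf.isHomOn.toHom) fun _ _ => rfl,
    relIndex_map_map_of_injective _ _ fun a b e => Subtype.ext (hf.inj a.2 b.2 e),
    relIndex_subgroupOf hA]

theorem cent_iff {B : Subgroup Ω} {f : Ω → Ω} (hf : F.IsIso B B f) {x : Ω} (hx : x ∈ B) :
    f x ∈ 𝒞(B) ↔ x ∈ 𝒞(B) :=
  ⟨fun h => mem_cent.2 fun s hs => (comm_img hf.mor.isHomOn hf.mor.injOn hs hx).1
    (mem_cent.1 h _ (hf.mapsTo s hs)), hf.map_mem_centralizer hf.mor le_rfl hx⟩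

theorem normalIn_img {B P : Subgroup Ω} {f : Ω → Ω} (hf : F.IsIso B B f) (h : NormalIn P B) :
    NormalIn (img P f) B :=
  ⟨img_le_iff.2 fun x hx => hf.mapsTo x (h.le hx), fun s hs => by
    obtain ⟨s, hs0, rfl⟩ := hf.surj s hs
    exact (hf.mor.isIso_img_of_le h.le).map_mem_normalizer hf.mor h.le hs0 (h.norm hs0)⟩

theorem Lc.img {q : ℕ} {B Q Z : Subgroup Ω} {f : Ω → Ω} (h : Lc q B Q Z) (hf : F.IsIso B B f) :
    Lc q B (img Q f) (img Z f) := by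
  have iQ := hf.mor.isIso_img_of_le h.QB.le
  have iZ := hf.mor.isIso_img_of_le h.ZB.le
  have hh := hf.mor.isHomOn
  have hi := hf.mor.injOn
  refine ⟨normalIn_img hf h.QB, fun e => h.ne fun s hs => (iQ.mem_iff hf.mor h.QB.le hs).1
    (e (hf.mapsTo s hs)), normalIn_img hf h.ZB, (el_img hh hi h.ZB.le).2 h.el, img_mono _ h.ZQ,
    img_le_iff.2 fun x hx => iZ.map_mem_centralizer hf.mor h.ZB.le (h.QB.le hx) (h.QZ hx), ?_,
    fun s hs hsQ z hz e => ?_, ?_, ?_⟩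
  · have := img_OZ hh hi
    rw [hf.img_eq] at this
    exact this ▸ img_mono _ h.oz
  · obtain ⟨s, hs0, rfl⟩ := hf.surj s hs
    obtain ⟨z, hz0, rfl⟩ := iZ.surj z hz
    exact (cent_iff hf (h.ZB.le hz0)).2 (h.a s hs0 (fun e => hsQ (iQ.mapsTo s e)) z hz0
      ((comm_img hh hi hs0 (h.ZB.le hz0)).1 e))
  · have := relIndex_img hf.mor h.QB.le le_rfl
    rw [hf.img_eq] at this
    exact this.trans h.qe
  · have h1 : FusionSystem.img (centralizerIn B B) f = centralizerIn B B := by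
      ext y
      rw [(hh.mono centralizerIn_le).mem_img]
      refine ⟨?_, fun hy => ?_⟩
      · rintro ⟨x, hx, rfl⟩
        exact ⟨hf.mapsTo x hx.1, (cent_iff hf hx.1).2 hx.2⟩
      · obtain ⟨x, hx, rfl⟩ := hf.surj y hy.1
        exact ⟨x, ⟨hx, (cent_iff hf hx).1 hy.2⟩, rfl⟩
    have := relIndex_img hf.mor (centralizerIn_le : centralizerIn B B ≤ B) h.ZB.le
    rw [h1] at this
    exact this ▸ h.b

variable [Finite S] {T Q Z R : Subgroup Ω} {γ α : Ω → Ω}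

omit [Finite S] in
theorem PUF.lc (h : PUF F T Q Z R γ α) : Lc (Q.relIndex (Bm T)) (Bm T) Q Z :=
  ⟨h.QB, h.ne, h.ZB, h.el, h.ZQ, h.QZ, h.oz, h.a, rfl, h.b.trans (le_of_eq (by
    rw [← inf_relIndex_right, ← inf_relIndex_right (centralizerIn _ _)]
    congr 1
    exact le_antisymm (le_inf (le_inf (inf_le_right.trans h.ZB.le) inf_le_left) inf_le_right)
      (inf_le_inf_right _ inf_le_right)))⟩

theorem PUF.elQ (hS : IsPGroup 2 S) (hF : F.IsSaturated 2) (hm : Min F) (h : PUF F T Q Z R γ α) :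
    El Q := by
  have hB : Bm T ≤ S := (Bm_le T).trans h.le
  have := finite_of_le hB
  have := finite_of_le h.iso.le_left
  have l := h.lc
  have l' := l.img h.αB
  have n1 : ¬ img Z α ≤ Q := fun e => let ⟨z, hz, h1⟩ := h.αZ; h1 (e (mem_img_of_mem α hz))
  have n2 := l.crit l' n1
  have iQ := h.αB.mor.isIso_img_of_le h.QB.le
  have iZ := h.αB.mor.isIso_img_of_le h.ZB.le
  set N := Subgroup.closure {y : Ω | ∃ s ∈ Q, y = s * s} with hN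
  have hs : {y : Ω | ∃ s ∈ Q, y = s * s} ⊆ Q := by rintro _ ⟨s, hs, rfl⟩; exact Q.mul_mem hs hs
  have hNQ : N ≤ Q := (closure_le _).2 hs
  have hNQ' : N ≤ img Q α := (closure_le _).2 (by
    rintro _ ⟨s, hs, rfl⟩
    obtain ⟨y, hy, e⟩ := l.sq l' n1 hs
    exact e ▸ mul_mem hy hy)
  have k : ∀ {f}, IsHomOn Q f → (∀ s ∈ Q, ∃ y ∈ Q, f s * f s = y * y) → ∀ x ∈ N, f x ∈ N :=
    fun hf e => hf.mapsTo_closure hs (by
      rintro _ ⟨s, hs, rfl⟩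
      obtain ⟨y, hy, e⟩ := e s hs
      rw [hf.map_mul hs hs, e]
      exact subset_closure ⟨y, hy, rfl⟩)
  by_contra hne
  have hN0 : N ≠ ⊥ := fun e => hne fun s hs => mem_bot.1 (e ▸ subset_closure ⟨s, hs, rfl⟩)
  obtain ⟨⟨x, hxN, hx0, hxQ⟩, hx1⟩ := ne_bot_iff_exists_ne_one.1 (inf_centralizerIn_ne_bot
    (hS.to_le h.iso.le_left) hNQ (le_norm_of_cj fun a ha => H6.cj_le_iff.2 (k (isHomOn_conj Q a)
      fun s hs => ⟨_, Q.mul_mem (Q.mul_mem ha hs) (Q.inv_mem ha), rfl⟩)) hN0)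
  have hfix := h.fix (N ⊓ 𝒞(Bm T)) (inf_le_left.trans hNQ) (fun n hn => by
    have h1 := k h.iso.mor.isHomOn (fun s hs => ⟨_, h.iso.mapsTo s hs, rfl⟩) n hn.1
    exact ⟨h1, l'.cent l n2 (hNQ' h1) (h.iso.map_mem_centralizer h.iso.mor le_rfl (hNQ hn.1)
      (centralizer_le h.QB.le hn.2))⟩) inf_le_right
  have hxB := l'.cent l n2 (hNQ' hxN) hxQ
  have hαN := k iQ.mor.isHomOn (fun s hs => l'.sq l n2 (iQ.mapsTo s hs)) x hxN
  have hαB := (cent_iff h.αB (h.QB.le (hNQ hxN))).2 hxB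
  obtain ⟨β, b1, b2, b3⟩ := iQ.exists_symm
  have hC : ∀ {X}, X ≤ Bm T → X ≤ S ⊓ 𝒞[α x] := fun e => le_inf (e.trans hB)
    (le_cent1_iff.2 (centralizer_le e hαB))
  refine hm.kill hS hF (x := α x) (fun e => hx1 (Subtype.ext ((iQ.mor.eq_one_iff (hNQ hxN)).1 e)))
    (D := 𝒞(Bm T)) (hC h.ZB.le) (hC l'.ZB.le) h.iso.mor (iQ.comp' (h.iso.comp' b1)).mor (hNQ hαN)
    (iQ.mapsTo x (hNQ hxN)) (hfix _ ⟨hαN, hαB⟩) (by rw [b2 x (hNQ hxN), hfix x ⟨hxN, hxB⟩])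
    l.not_cent l'.not_cent fun a ha ha' b hb hb' => ?_
  have c1 := comm_mem_left h.ZB ha (l'.ZB.le hb)
  have c2 := comm_mem_right l'.ZB (h.ZB.le ha) hb
  have c3 : ⁅a, b⁆ ≠ 1 := fun e => ha' (h.a b (l'.ZB.le hb) (fun e => hb' (l'.inf_le l n2 hb e)) a ha
    (commutatorElement_eq_one_iff_mul_comm.1 e).symm)
  refine ⟨h.ZQ c1, l'.ZQ c2, h.γZ _ c1, fun e => c3 (h.d a ha b (l'.ZB.le hb) e), ?_⟩
  obtain ⟨b, hb0, rfl⟩ := iZ.surj b hb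
  replace hb := hb0
  obtain ⟨a, ha0, rfl⟩ := h.αB.surj a (h.ZB.le ha)
  have c4 := comm_mem_right h.ZB ha0 hb
  rw [← h.αB.mor.map_commutatorElement ha0 (h.ZB.le hb)] at c3 ⊢
  rw [b2 _ (h.ZQ c4)]
  refine ⟨iZ.mapsTo _ (h.γZ _ c4), fun e => c3 ?_⟩
  rw [cent_iff h.αB (h.ZB.le (h.γZ _ c4)), ← commutatorElement_inv,
    h.iso.mor.map_inv (h.ZQ (comm_mem_left h.ZB hb ha0)), inv_mem_iff] at e
  rw [← commutatorElement_inv, h.d b hb a ha0 e, inv_one, h.αB.mor.map_one]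

theorem PUF.pre (hS : IsPGroup 2 S) (hF : F.IsSaturated 2) (hm : Min F) {T Q Z R : Subgroup Ω}
    {γ α : Ω → Ω} (h : PUF F T Q Z R γ α) : Pre F Q (img Q α) := by
  have hB : Bm T ≤ S := (Bm_le T).trans h.le
  have := finite_of_le hB
  have := finite_of_le h.le
  have := finite_of_le h.iso.le_left
  have l := h.lc
  have l' := l.img h.αB
  have n1 : ¬ img Z α ≤ Q := fun e => let ⟨z, hz, h1⟩ := h.αZ; h1 (e (mem_img_of_mem α hz))
  have n2 := l.crit l' n1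
  have iQ := h.αB.mor.isIso_img_of_le h.QB.le
  have e1 := h.elQ hS hF hm
  have e2 := (el_img h.αB.mor.isHomOn h.αB.mor.injOn h.QB.le).2 e1
  obtain rfl := l.eq l' n1 e2
  have := finite_of_le iQ.le_right
  have hsup : Z ⊔ img Z α = Bm T := le_antisymm (sup_le h.QB.le l'.QB.le) fun s hs => by
    obtain ⟨z, hz, y, hy, rfl⟩ := l.dec l' n1 hs
    exact mul_mem_sup hz hy
  have pr : Pair S Z (img Z α) := ⟨h.iso.le_left, iQ.le_right, e1, e2, fun e => n1 e.ge, iQ.card_eq,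
    fun a ha b hb => ⟨comm_mem_left h.ZB ha (l'.ZB.le hb), comm_mem_right l'.ZB (h.ZB.le ha) hb⟩,
    fun a ha b hb e => or_iff_not_imp_right.2 fun hb' =>
      l'.oz ⟨h.ZB.le ha, e1 a ha, h.a b (l'.ZB.le hb) hb' a ha e.symm⟩⟩
  have hZT : Z ≤ T := h.ZB.le.trans (Bm_le T)
  have hZT' : img Z α ≤ T := l'.ZB.le.trans (Bm_le T)
  have hM : ∀ A ∈ MaxE T, A = Z ∨ A = img Z α := fun A hA =>
    (pr.le_or_le (hsup ▸ (le_Je hA).trans (Je_le_Bm T)) hA.2.1).imp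
      (fun e => eq_of_le_of_card_ge e (hA.2.2 _ hZT e1))
      fun e => eq_of_le_of_card_ge e (hA.2.2 _ hZT' e2)
  have hM' : ∀ A ≤ T, El A → Nat.card Z ≤ Nat.card A → A ∈ MaxE T := fun A h1 h2 h3 => by
    obtain ⟨A0, h0⟩ := exists_maxE T
    refine ⟨h1, h2, fun A' h4 h5 => (h0.2.2 A' h4 h5).trans (le_trans ?_ h3)⟩
    rcases hM A0 h0 with rfl | rfl
    exacts [le_rfl, pr.card.ge]
  have m1 := hM' Z hZT e1 le_rfl
  have m2 := hM' _ hZT' e2 pr.card.le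
  have hD : Z ⊓ img Z α ≤ 𝒞(Bm T) := fun z hz => l.inf_le l' n1 hz.1 hz.2
  obtain ⟨z, hz, hγ⟩ := h.mv
  have hT : T ≤ 𝒩(Z) := fun t ht => by
    have h1 : cj t Z ∈ MaxE T := by
      have := (cj_mem_maxE (g := t)).2 m1
      rwa [H6.cj_eq_self_iff.2 (le_normalizer ht)] at this
    rcases hM _ h1 with e | e
    · exact H6.cj_eq_self_iff.1 e
    · refine absurd (h.fix R h.RQ h.γR (le_trans (le_inf h.RQ ?_) hD) z (h.zR hz)) hγ
      rw [← e, ← H6.cj_eq_self_iff.2 (h.RT ht)]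
      exact H6.cj_mono t h.RQ
  obtain ⟨g1, g2⟩ := h.g1 hT
  have hZJ : ZJ T ≤ Z ⊓ img Z α := le_inf (ZJ_le m1) (ZJ_le m2)
  refine ⟨pr, g2, fun A h1 h2 h3 => hM A (hM' A (g1 ▸ h1) h2 h3), fun u hu hc => ?_,
    ⟨γ, h.iso, ?_⟩, fun b hb h1 b' hb' h1' => ?_, α, hsup ▸ h.αB, iQ.mapsTo⟩
  · rw [hsup]
    exact ⟨g1 ▸ hu, mem_cent.2 fun d hd => (hc d (hZJ hd)).symm⟩
  · by_contra hn
    push Not at hn
    exact hγ (h.fix _ inf_le_left (fun n h1 => ⟨h.iso.mapsTo n h1.1, hn n h1⟩) hD z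
      (hZJ (OZ_le_ZJ T hz)))
  · rw [hsup]
    exact h.e b (l'.ZB.le hb) h1 b' (l'.ZB.le hb') h1'

end Cfsg.Agent.PU
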