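import Cfsg.Agent.Lib.PU.Outer2

/-!
The automizer of `C₄ ∘ D₈`.
-/

set_option autoImplicit false

namespace Cfsg.Agent.PU

open Cfsg Cfsg.FusionSystem Subgroup Cfsg.Agent.FT
open Cfsg.Agent.H6 (cj RealizedIn SylIn)
open Cfsg.Agent.H9 (U4)
open Cfsg.Agent.SP (sA sB sZ sX)
open scoped commutatorElement

theorem le_of_card_48 {G : Type*} [Group G] [Finite G] {P A A' : Subgroup G}
    (hG : Nat.card G ≤ 48) (h : SylIn 2 P A) (h' : SylIn 2 P A') (h8 : 8 ≤ Nat.card P)
    (hne : ¬ A' ≤ P) : A ≤ A' := by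
  have a1 := h'.not_dvd_relIndex
  have a2 : P.relIndex A' ≠ 1 := fun e => hne (relIndex_eq_one.1 e)
  have a3 : Nat.card P * P.relIndex A' = Nat.card A' := by
    rw [← relIndex_bot_left, ← relIndex_bot_left, relIndex_mul_relIndex _ _ _ bot_le h'.le]
  have a4 : 3 ≤ P.relIndex A' := by omega
  have a5 := A'.card_mul_index
  have a6 : 24 ≤ Nat.card A' := by nlinarith
  have a7 : A'.index ≤ 2 := by nlinarith
  have a8 : A'.relIndex A ≤ A'.relIndex ⊤ :=
    relIndex_le_of_le_right le_top (by rw [relIndex_top_right]; exact A'.index_ne_zero_of_finite)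
  rw [relIndex_top_right] at a8
  have a9 : ¬ 2 ∣ A'.relIndex A := fun e =>
    h.not_dvd_relIndex (e.trans (relIndex_dvd_of_le_left _ h'.le))
  exact relIndex_eq_one.1 (by omega)

namespace Q2

/-- Coordinates on the group of order 16. -/
abbrev M : Type := ZMod 2 × ZMod 2 × ZMod 2 × Bool

/-- The multiplication in coordinates. -/
def mm (a b : M) : M :=
  (a.1 + (if a.2.2.2 then b.2.1 + b.2.2.1 else b.1) + a.2.2.1 * b.2.2.1,
    a.2.1 + (if a.2.2.2 then b.1 + b.2.2.1 else b.2.1) + a.2.2.1 * b.2.2.1,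
    a.2.2.1 + b.2.2.1, xor a.2.2.2 b.2.2.2)

/-- The identity. -/
def o : M := (0, 0, 0, false)

theorem c24 : Fintype.card {p : M × M // mm p.1 p.1 = o ∧ mm p.2 p.2 = o ∧
    mm p.1 p.2 ≠ mm p.2 p.1} = 24 := by decide +kernel

theorem c2 : Fintype.card {a : M // (∀ b, mm a b = mm b a) ∧ mm a a ≠ o} = 2 := by decide +kernel

theorem c4 : Fintype.card {a : M // ∀ b, mm a b = mm b a} = 4 := by decide +kernel

/-- generators -/
def g1 : M := (0, 0, 0, true)
/-- generators -/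
def g2 : M := (1, 0, 0, false)
/-- generators -/
def g3 : M := (1, 0, 1, false)

theorem gen (P : M → Prop) (hm : ∀ a b, P a → P b → P (mm a b)) (h1 : P g1) (h2 : P g2)
    (h3 : P g3) (a : M) : P a := by
  have k : ∀ a : M, ∃ x ∈ [g1, mm g1 g1], ∃ y ∈ [g2, mm g2 g2],
      ∃ z ∈ [g3, mm g3 g3, mm g3 (mm g3 g3), mm g1 g1], a = mm x (mm y z) := by decide +kernel
  obtain ⟨x, hx, y, hy, z, hz, rfl⟩ := k a
  refine hm _ _ ?_ (hm _ _ ?_ ?_)
  · simp only [List.mem_cons, List.not_mem_nil, or_false] at hx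
    rcases hx with rfl | rfl
    exacts [h1, hm _ _ h1 h1]
  · simp only [List.mem_cons, List.not_mem_nil, or_false] at hy
    rcases hy with rfl | rfl
    exacts [h2, hm _ _ h2 h2]
  · simp only [List.mem_cons, List.not_mem_nil, or_false] at hz
    rcases hz with rfl | rfl | rfl | rfl
    exacts [h3, hm _ _ h3 h3, hm _ _ h3 (hm _ _ h3 h3), hm _ _ h1 h1]

theorem rel : mm g1 g1 = o ∧ mm g2 g2 = o ∧ mm g1 g2 ≠ mm g2 g1 ∧ (∀ b, mm g3 b = mm b g3) ∧
    mm g3 g3 ≠ o ∧ mm o o = o := by decide +kernel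

theorem card_aut {Q : Type*} [Group Q] (e : M ≃ Q) (he : ∀ a b, e (mm a b) = e a * e b) :
    Nat.card (MulAut Q) ≤ 48 := by
  obtain ⟨r1, r2, r3, r4, r5, r6⟩ := rel
  let φ : MulAut Q → M → M := fun α a => e.symm (α (e a))
  have h1 : ∀ α a b, φ α (mm a b) = mm (φ α a) (φ α b) := fun α a b => e.injective (by
    simp only [φ, he, map_mul, Equiv.apply_symm_apply])
  have h0 : e o = 1 := by
    have := he o o
    rwa [r6, left_eq_mul] at this
  have h2 : ∀ α, φ α o = o := fun α => e.injective (by simp only [φ, h0, map_one,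
    Equiv.apply_symm_apply])
  have h3 : ∀ α, Function.Bijective (φ α) := fun α =>
    e.symm.bijective.comp (α.bijective.comp e.bijective)
  have c := congrArg₂ (· * ·) c24 c2
  simp only [← Nat.card_eq_fintype_card, ← Nat.card_prod] at c
  rw [show 48 = 24 * 2 from rfl, ← c]
  refine Nat.card_le_card_of_injective (fun α => (⟨(φ α g1, φ α g2), by rw [← h1, r1, h2],
    by rw [← h1, r2, h2], by rw [← h1, ← h1]; exact fun e => r3 ((h3 α).1 e)⟩,
    ⟨φ α g3, fun b => by obtain ⟨b, rfl⟩ := (h3 α).2 b; rw [← h1, ← h1, r4],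
      by rw [← h1, ← h2 α]; exact fun e => r5 ((h3 α).1 e)⟩)) fun α β h => ?_
  simp only [Prod.mk.injEq, Subtype.mk.injEq] at h
  have := gen (fun a => φ α a = φ β a) (fun a b ha hb => by rw [h1, h1, ha, hb]) h.1.1 h.1.2 h.2
  ext x
  obtain ⟨a, rfl⟩ := e.surjective x
  exact e.symm.injective (this a)

end Q2

variable {Ω : Type*} [Group Ω] {S : Subgroup Ω} [Finite S] {F F' : FusionSystem S}
  {K : Type*} [Field K] [Fintype K] [CharP K 2] {sp : Bool} {σ : K ≃+* K}
  {Y : Subgroup (Tor K)} {w : U4 K →* Ω} {t : Ω}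


omit [Finite S] in
theorem Fr.exists_Q2 (h : Fr F true σ Y w t) (h2 : Nat.card K = 2) :
    ∃ e : Q2.M ≃ QQ σ w t, ∀ a b, e (Q2.mm a b) = e a * e b := by
  let c : ZMod 2 →+* K := ZMod.castHom (dvd_refl 2) K
  have hc : Function.Bijective c := c.injective.bijective_of_nat_card_le (by rw [h2]; simp)
  have hσ : ∀ (ρ : K ≃+* K) a, ρ (c a) = c a := fun ρ a =>
    DFunLike.congr_fun (RingHom.ext_zmod ((ρ : K →+* K).comp c) c) a
  have two : (2 : K) = 0 := CharTwo.two_eq_zero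
  have sq : ∀ a, c a * c a = c a := fun a => by
    rw [← map_mul]; congr 1; revert a; decide
  let j : Q2.M → U4 K × Bool := fun a => (⟨c a.1, c a.2.1, c a.2.2.1, c a.2.2.1⟩, a.2.2.2)
  let e : Q2.M → Ω := fun a => w (j a).1 * if (j a).2 then t else 1
  have he : ∀ a b, e (Q2.mm a b) = e a * e b := fun a b => by
    refine Eq.trans ?_ (h.par.2.2 (j a) (j b)).symm
    refine h.par.2.1 _ _ |>.2 ⟨congrArg w ?_, rfl⟩
    obtain ⟨x, y, i, b1⟩ := a
    obtain ⟨x', y', i', b2⟩ := b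
    cases b1
    · simp only [j, Q2.mm, U4.mul_def, map_add, map_mul, two, pow_two, sq, Bool.false_eq_true,
        if_false]
      ext <;> simp only <;> ring
    · simp only [j, Q2.mm, U4.mul_def, map_add, map_mul, two, pow_two, sq, if_true, sw, hσ]
      ext <;> simp only <;> ring
  have hi : Function.Injective e := fun a b hab => by
    obtain ⟨h1, h3⟩ := (h.par.2.1 (j a) (j b)).1 hab
    obtain ⟨k1, -, k2, k3⟩ := h.ker.eq_iff.1 h1
    exact Prod.ext (hc.1 (k3 rfl)) (Prod.ext (hc.1 k1) (Prod.ext (hc.1 k2) h3))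
  have hm : ∀ a, e a ∈ QQ σ w t := fun a => mul_mem (mem_sup_left ⟨_, (hσ σ _).symm, rfl⟩) (by
    split_ifs
    exacts [mem_sup_right (mem_zpowers t), one_mem _])
  have h0 : e Q2.o = 1 := by simp [e, j, Q2.o, ← U4.one_def]
  let R : Subgroup Ω :=
    { carrier := Set.range e
      one_mem' := ⟨_, h0⟩
      mul_mem' := by rintro _ _ ⟨a, rfl⟩ ⟨b, rfl⟩; exact ⟨_, he a b⟩
      inv_mem' := by
        rintro _ ⟨a, rfl⟩
        obtain ⟨b, hb⟩ := (by decide +kernel : ∀ a, ∃ b, Q2.mm a b = Q2.o) a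
        exact ⟨b, eq_inv_of_mul_eq_one_right (by rw [← he, hb, h0])⟩ }
  have hR : QQ σ w t ≤ R := by
    refine sup_le ?_ (zpowers_le.2 ⟨Q2.g1, by simp [e, j, Q2.g1, ← U4.one_def]⟩)
    rintro _ ⟨u, hu, rfl⟩
    obtain ⟨x, hx⟩ := hc.2 u.x
    obtain ⟨y, hy⟩ := hc.2 u.y
    obtain ⟨i, hi⟩ := hc.2 u.i
    refine ⟨(x, y, i, false), ?_⟩
    simp only [e, j, Bool.false_eq_true, if_false, mul_one]
    congr 1
    exact U4.ext hx hy (by rw [mem_sR.1 hu, ← hi, hσ]) hi
  exact ⟨Equiv.ofBijective (fun a => ⟨e a, hm a⟩) ⟨fun a b hab => hi (congrArg Subtype.val hab),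
    fun x => (hR x.2).imp fun a ha => Subtype.ext ha⟩, fun a b => Subtype.ext (he a b)⟩

theorem Fr.autQ2 (h : Fr F true σ Y w t) (h' : Fr F' true σ Y w t) (hp : Par true σ Y)
    (hF : F.IsSaturated 2) (hF' : F'.IsSaturated 2) (h2 : Nat.card K = 2)
    (hE : F.IsEssential 2 (QQ σ w t)) (hE' : F'.IsEssential 2 (QQ σ w t)) {f : Ω → Ω}
    (hf : F.IsIso (QQ σ w t) (QQ σ w t) f) : F'.IsMor (QQ σ w t) f := by
  obtain ⟨e, he⟩ := h.exists_Q2 h2
  have hS := h.isPGroup
  have := finite_of_le hE.le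
  have k : ∀ {F : FusionSystem S}, F.IsSaturated 2 → F.IsEssential 2 (QQ σ w t) →
      SylIn 2 (autInducedBy S (QQ σ w t)) (F.autGroup (QQ σ w t)) := fun hF hE =>
    have hs := hF.sylowIn hS hE.isFullyNormalized
    ⟨hs.le, hs.isPGroup, fun Q a b c => hs.eq_of_le a b c⟩
  have hlt := lt_normalizerIn hS (hE.lt hF hS)
  have := finite_of_le (normalizerIn_le : normalizerIn S (QQ σ w t) ≤ S)
  have c1 := card_lt_of_lt hlt
  have c2 : Nat.card (QQ σ w t) = 16 := by rw [← Nat.card_congr e]; simp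
  have c3 : Nat.card (centralizerIn S (QQ σ w t)) ≤ 4 := by
    rw [← Q2.c4, ← Nat.card_eq_fintype_card]
    refine Nat.card_le_card_of_injective (fun x => ⟨e.symm ⟨x, hE.isCentric.centralizerIn_le x.2⟩,
      fun b => e.injective (Subtype.ext ?_)⟩) fun x y hxy => ?_
    · simp only [he, Equiv.apply_symm_apply, Subgroup.coe_mul]
      exact (x.2.2 _ (e b).2).symm
    · exact Subtype.ext (congrArg Subtype.val (e.symm.injective (congrArg Subtype.val hxy)) :)
  rw [card_normalizerIn, c2] at c1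
  obtain ⟨n, hn⟩ := IsPGroup.iff_card.1 (k hF hE).isPGroup
  have c4 : 8 ≤ Nat.card (autInducedBy S (QQ σ w t)) := by
    rw [hn] at c1 ⊢
    have : 4 < 2 ^ n := by nlinarith
    exact Nat.pow_le_pow_right (n := 2) two_pos (show 3 ≤ n from
      (Nat.pow_lt_pow_iff_right (a := 2) one_lt_two).1 this)
  have hle := le_of_card_48 (Q2.card_aut e he) (k hF hE) (k hF' hE') c4 fun hle => by
    obtain ⟨s, hs, hs'⟩ := SetLike.exists_of_lt hlt
    refine hs' ((hE.isCentric.conjAut_mem_inn_iff hs.1 hs.2).1 ?_)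
    rw [← (hE'.isRadical hS).pCoreIn_eq]
    exact H7.le_pCoreIn ((k hF' hE').isPGroup.to_le hle) le_rfl le_normalizer
      (F'.conjAut_mem_autGroup hE.le hs.1 hs.2)
  exact (autGroup_le_iff hE.le hE.le).1 hle f hf

end Cfsg.Agent.PU
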