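import Cfsg.Agent.Lib.PU.Half1
import Cfsg.Agent.Lib.H6.SE

/-!
Counting lemmas for the automizer of `2^{1+4}_-`.
-/

set_option autoImplicit false

namespace Cfsg.Agent.PU

open Cfsg Cfsg.FusionSystem Subgroup Cfsg.Agent.FT
open Cfsg.Agent.H6 (cj RealizedIn SylIn)
open Cfsg.Agent.H9 (U4)
open Cfsg.Agent.SP (sA sB sZ sX)
open scoped commutatorElement

theorem le_of_index_two {G : Type*} [Group G] [Finite G] {P A A' : Subgroup G}
    (h : SylIn 2 P A) (h' : P ≤ A') (hG : Nat.card G ≤ 2 * Nat.card A') : A ≤ A' := by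
  have a5 := A'.card_mul_index
  have a6 : 0 < Nat.card A' := Nat.card_pos
  have a7 : A'.index ≤ 2 := by nlinarith
  have a8 : A'.relIndex A ≤ A'.relIndex ⊤ :=
    relIndex_le_of_le_right le_top (by rw [relIndex_top_right]; exact A'.index_ne_zero_of_finite)
  rw [relIndex_top_right] at a8
  have a9 : ¬ 2 ∣ A'.relIndex A := fun e =>
    h.not_dvd_relIndex (e.trans (relIndex_dvd_of_le_left _ h'))
  exact relIndex_eq_one.1 (by omega)

theorem se_four {O : Type*} [Group O] [Finite O] {V M : Subgroup O} (hV : SylIn 2 V ⊤) (he : El V)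
    (hM : IsStronglyEmbedded M) (hVM : V ≤ M) {s t : O} (hs : s ∈ V) (ht : t ∈ V) (s1 : s ≠ 1)
    (t1 : t ≠ 1) (st : s ≠ t) : 60 ≤ Nat.card O ∧ ∃ n ∈ 𝒩(V), n * s * n⁻¹ ≠ s := by
  classical
  have o2 : ∀ v ∈ V, v ≠ 1 → orderOf v = 2 := fun v hv h1 =>
    orderOf_eq_prime (by rw [sq, he v hv]) h1
  obtain ⟨g, hg⟩ := isConj_iff.1 (H6.se_isConj hM (o2 s hs s1) (o2 t ht t1))
  have c1 : V ≤ 𝒞[t] := fun v hv => mem_centralizer_singleton_iff.2 (he.comm hv ht)
  have c2 : cj g V ≤ 𝒞[t] := fun v hv => mem_centralizer_singleton_iff.2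
    ((he.cj g).comm hv (hg ▸ H6.conj_mem_cj hs))
  obtain ⟨c, hc, e⟩ := (hV.mono c1 le_top).exists_cj_eq
    ((hV.cj_of_mem (g := g) (le_normalizer (mem_top g))).mono c2 le_top)
  have hn : c * g ∈ 𝒩(V) := H6.cj_eq_self_iff.1 (by rw [← H6.cj_cj, e])
  have e1 : c * g * s * (c * g)⁻¹ = t := by
    rw [show c * g * s * (c * g)⁻¹ = c * (g * s * g⁻¹) * c⁻¹ by group, hg,
      mem_centralizer_singleton_iff.1 hc, mul_inv_cancel_right]
  refine ⟨?_, _, hn, by rw [e1]; exact st.symm⟩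
  have v4 : 4 ≤ Nat.card V := by
    have := Fintype.ofFinite V
    have a1 : 2 < Nat.card V := by
      rw [Nat.card_eq_fintype_card]
      exact Fintype.two_lt_card_iff.2 ⟨1, ⟨s, hs⟩, ⟨t, ht⟩, fun e => s1 (congrArg Subtype.val e).symm,
        fun e => t1 (congrArg Subtype.val e).symm, fun e => st (congrArg Subtype.val e)⟩
    have a2 : 2 ∣ Nat.card V := o2 s hs s1 ▸ orderOf_dvd_natCard V hs
    omega
  have hnM : c * g ∈ M := H6.se_normalizer_le hM hVM
    (even_iff_two_dvd.2 (o2 s hs s1 ▸ orderOf_dvd_natCard V hs)) hn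
  have a1 := (hV.mono hVM le_top).not_dvd_relIndex
  have a2 : V.relIndex M ≠ 1 := fun e => st (by
    rw [← e1, he.comm (relIndex_eq_one.1 e hnM) hs, mul_inv_cancel_right])
  have a3 : Nat.card V * V.relIndex M = Nat.card M := by
    rw [← relIndex_bot_left, ← relIndex_bot_left, relIndex_mul_relIndex _ _ _ bot_le hVM]
  have a4 : 3 ≤ V.relIndex M := by omega
  obtain ⟨u, -, hu⟩ := SetLike.exists_of_lt (lt_top_iff_ne_top.2 hM.1)
  have f1 : ∀ v ∈ V, v • (QuotientGroup.mk 1 : O ⧸ M) = QuotientGroup.mk 1 := fun v hv =>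
    H6.smul_mk_one_eq_iff.2 (hVM hv)
  have f2 : (QuotientGroup.mk u : O ⧸ M) ≠ QuotientGroup.mk 1 := fun e =>
    hu (by simpa using QuotientGroup.eq.1 e)
  have a5 : Nat.card (Option V) ≤ M.index := by
    refine Nat.card_le_card_of_injective (fun o => o.elim (QuotientGroup.mk 1)
      fun v => (v : O) • (QuotientGroup.mk u : O ⧸ M)) ?_
    have k : ∀ v : V, (v : O) • (QuotientGroup.mk u : O ⧸ M) ≠ QuotientGroup.mk 1 := fun v e =>
      f2 (by rw [← inv_smul_smul (v : O) (QuotientGroup.mk u : O ⧸ M), e, f1 _ (V.inv_mem v.2)])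
    rintro (_ | v) (_ | v') e
    · rfl
    · exact (k v' e.symm).elim
    · exact (k v e).elim
    · by_contra hne
      have hv := V.mul_mem (V.inv_mem v'.2) v.2
      refine f2 (H6.se_fix_unique hM (o2 _ hv fun e1 => hne ?_) ?_ (f1 _ hv))
      · rw [inv_mul_eq_one] at e1
        exact congrArg some (Subtype.ext e1.symm)
      · rw [mul_smul, inv_smul_eq_iff]
        exact e
  rw [Finite.card_option] at a5
  rw [← M.card_mul_index, ← a3]
  calc 60 = 4 * 3 * 5 := rfl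
    _ ≤ _ := Nat.mul_le_mul (Nat.mul_le_mul v4 a4) (by omega)

namespace Q4

/-- Coordinates on the group of order 32. -/
abbrev M : Type := ZMod 2 × ZMod 2 × ZMod 2 × ZMod 2 × Bool

instance instDecEqM : DecidableEq M := inferInstance

/-- The multiplication in coordinates. -/
def mm : M → M → M
  | (y0, y1, i0, i1, b), (y0', y1', i0', i1', b') =>
    (y0 + (if b then y0' + y1' + i0' + i0' * i1' + i1' else y0') + i0 * i0' + i0 * i1' + i1 * i1',
      y1 + y1' + i0 * i1' + i1 * i0', i0 + i0', i1 + i1', xor b b')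

/-- The identity. -/
def o : M := (0, 0, 0, 0, false)

/-- The noncentral involutions. -/
def L : List M := [(0, 1, 0, 0, false), (1, 1, 0, 0, false), (0, 0, 0, 0, true), (1, 0, 0, 0, true),
  (0, 0, 1, 0, true), (1, 0, 1, 0, true), (0, 0, 0, 1, true), (1, 0, 0, 1, true), (0, 0, 1, 1, true),
  (1, 0, 1, 1, true)]

/-- Noncommuting elements. -/
def nc (a b : M) : Bool := decide (mm a b ≠ mm b a)

/-- The possible images of the generators. -/
def T : List (M × M × M × M) := L.flatMap fun a => (L.filter (nc a)).flatMap fun b =>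
  ((L.filter (nc a)).filter (nc b)).flatMap fun c =>
    (((L.filter (nc a)).filter (nc b)).filter (nc c)).map fun d => (a, b, c, d)

theorem len_T : T.length = 1920 := by decide +kernel

set_option synthInstance.maxSize 4000 in
theorem mem_L : ∀ a b, mm a a = o → mm a b ≠ mm b a → a ∈ L := by decide +kernel

theorem mem_T {a b c d : M} (ha : mm a a = o) (hb : mm b b = o) (hc : mm c c = o) (hd : mm d d = o)
    (ab : mm a b ≠ mm b a) (ac : mm a c ≠ mm c a) (ad : mm a d ≠ mm d a) (bc : mm b c ≠ mm c b)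
    (bd : mm b d ≠ mm d b) (cd : mm c d ≠ mm d c) : (a, b, c, d) ∈ T := by
  simp only [T, List.mem_flatMap, List.mem_filter, List.mem_map, nc, decide_eq_true_eq]
  exact ⟨a, mem_L a b ha ab, b, ⟨mem_L b a hb ab.symm, ab⟩, c, ⟨⟨mem_L c a hc ac.symm, ac⟩, bc⟩, d,
    ⟨⟨⟨mem_L d a hd ad.symm, ad⟩, bd⟩, cd⟩, rfl⟩

theorem c2 : Fintype.card {a : M // ∀ b, mm a b = mm b a} = 2 := by decide +kernel

/-- generators -/
def g1 : M := (0, 0, 0, 0, true)
/-- generators -/
def g2 : M := (0, 0, 1, 0, true)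
/-- generators -/
def g3 : M := (0, 0, 0, 1, true)
/-- generators -/
def g4 : M := (0, 1, 0, 0, false)

theorem gen (P : M → Prop) (hm : ∀ a b, P a → P b → P (mm a b)) (h1 : P g1) (h2 : P g2)
    (h3 : P g3) (h4 : P g4) (a : M) : P a := by
  have k : ∀ a : M, ∃ x ∈ [g1, mm g1 g1], ∃ y ∈ [g2, mm g1 g1], ∃ z ∈ [g3, mm g1 g1],
      ∃ u ∈ [g4, mm g1 g1], ∃ v ∈ [mm (mm g1 g2) (mm g1 g2), mm g1 g1],
        a = mm x (mm y (mm z (mm u v))) := by decide +kernel
  have l : ∀ {g x}, P g → x ∈ [g, mm g1 g1] → P x := fun hg hx => by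
    simp only [List.mem_cons, List.not_mem_nil, or_false] at hx
    rcases hx with rfl | rfl
    exacts [hg, hm _ _ h1 h1]
  obtain ⟨x, hx, y, hy, z, hz, u, hu, v, hv, rfl⟩ := k a
  exact hm _ _ (l h1 hx) (hm _ _ (l h2 hy) (hm _ _ (l h3 hz) (hm _ _ (l h4 hu)
    (l (hm _ _ (hm _ _ h1 h2) (hm _ _ h1 h2)) hv))))

set_option synthInstance.maxSize 4000 in
theorem rel : (mm g1 g1 = o ∧ mm g2 g2 = o ∧ mm g3 g3 = o ∧ mm g4 g4 = o ∧ mm o o = o) ∧
    mm g1 g2 ≠ mm g2 g1 ∧ mm g1 g3 ≠ mm g3 g1 ∧ mm g1 g4 ≠ mm g4 g1 ∧ mm g2 g3 ≠ mm g3 g2 ∧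
      mm g2 g4 ≠ mm g4 g2 ∧ mm g3 g4 ≠ mm g4 g3 := by decide +kernel

theorem inv : ∀ a, ∃ b, mm a b = o := by decide +kernel

theorem card_aut {Q : Type*} [Group Q] (e : M ≃ Q) (he : ∀ a b, e (mm a b) = e a * e b) :
    Nat.card (MulAut Q) ≤ 1920 := by
  classical
  obtain ⟨⟨r1, r2, r3, r4, r6⟩, n12, n13, n14, n23, n24, n34⟩ := rel
  let φ : MulAut Q → M → M := fun α a => e.symm (α (e a))
  have h1 : ∀ α a b, φ α (mm a b) = mm (φ α a) (φ α b) := fun α a b => e.injective (by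
    simp only [φ, he, map_mul, Equiv.apply_symm_apply])
  have h0 : e o = 1 := by
    have := he o o
    rwa [r6, left_eq_mul] at this
  have h2 : ∀ α, φ α o = o := fun α => e.injective (by simp only [φ, h0, map_one,
    Equiv.apply_symm_apply])
  have h3 : ∀ α, Function.Injective (φ α) := fun α =>
    e.symm.injective.comp (α.injective.comp e.injective)
  have k1 : ∀ α {g}, mm g g = o → mm (φ α g) (φ α g) = o := fun α g r => by rw [← h1, r, h2]
  have k2 : ∀ α {g g'}, mm g g' ≠ mm g' g → mm (φ α g) (φ α g') ≠ mm (φ α g') (φ α g) :=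
    fun α g g' r => by rw [← h1, ← h1]; exact fun e => r (h3 α e)
  refine le_trans (Nat.card_le_card_of_injective (β := T.toFinset)
    (fun α => ⟨(φ α g1, φ α g2, φ α g3, φ α g4), List.mem_toFinset.2 (mem_T (k1 α r1) (k1 α r2)
      (k1 α r3) (k1 α r4) (k2 α n12) (k2 α n13) (k2 α n14) (k2 α n23) (k2 α n24) (k2 α n34))⟩)
    fun α β h => ?_) ?_
  · simp only [Prod.mk.injEq, Subtype.mk.injEq] at h
    have := gen (fun a => φ α a = φ β a) (fun a b ha hb => by rw [h1, h1, ha, hb]) h.1 h.2.1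
      h.2.2.1 h.2.2.2
    ext x
    obtain ⟨a, rfl⟩ := e.surjective x
    exact e.symm.injective (this a)
  · rw [Nat.card_eq_fintype_card, Fintype.card_coe, ← len_T]
    exact List.toFinset_card_le T

end Q4

section F4
variable {K : Type*} [Field K] [Fintype K] [CharP K 2]

theorem f4_sq (h4 : Nat.card K = 4) {x : K} (h0 : x ≠ 0) (h1 : x ≠ 1) : x * x = x + 1 := by
  have two : (2 : K) = 0 := CharTwo.two_eq_zero
  have e := FiniteField.pow_card x
  rw [← Nat.card_eq_fintype_card, h4] at e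
  have : x * ((x - 1) * (x * x - (x + 1))) = 0 := by linear_combination e + (x - x ^ 3) * two
  exact sub_eq_zero.1 ((mul_eq_zero.1 ((mul_eq_zero.1 this).resolve_left h0)).resolve_left
    (sub_ne_zero.2 h1))

theorem f4_cases (h4 : Nat.card K = 4) {a : K} (ha : a * a = a + 1) (x : K) :
    x = 0 ∨ x = 1 ∨ x = a ∨ x = a + 1 := by
  have two : (2 : K) = 0 := CharTwo.two_eq_zero
  refine or_iff_not_imp_left.2 fun h0 => or_iff_not_imp_left.2 fun h1 => ?_
  have : (x - a) * (x - (a + 1)) = 0 := by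
    linear_combination f4_sq h4 h0 h1 + ha + (a + 1 - a * x) * two
  exact (mul_eq_zero.1 this).imp sub_eq_zero.1 sub_eq_zero.1

theorem f4_aut (h4 : Nat.card K = 4) (ρ : K ≃+* K) : ρ * ρ = 1 := by
  have two : (2 : K) = 0 := CharTwo.two_eq_zero
  ext x
  change ρ (ρ x) = x
  by_cases h0 : x = 0
  · simp [h0]
  by_cases h1 : x = 1
  · simp [h1]
  rcases f4_cases h4 (f4_sq h4 h0 h1) (ρ x) with e | e | e | e
  · exact (h0 (by simpa using e)).elim
  · exact (h1 (ρ.injective (by simpa using e))).elim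
  · rw [e, e]
  · rw [e, map_add, e, map_one]; linear_combination two

theorem f4_omega (h4 : Nat.card K = 4) {σ : K ≃+* K} (hσ : σ ≠ 1) :
    ∃ a : K, a ≠ 0 ∧ a ≠ 1 ∧ a * a = a + 1 ∧ σ a = a + 1 := by
  obtain ⟨a, ha⟩ : ∃ a, σ a ≠ a := not_forall.1 fun h => hσ (RingEquiv.ext h)
  have h0 : a ≠ 0 := fun e => ha (by simp [e])
  have h1 : a ≠ 1 := fun e => ha (by simp [e])
  refine ⟨a, h0, h1, f4_sq h4 h0 h1, ?_⟩
  rcases f4_cases h4 (f4_sq h4 h0 h1) (σ a) with e | e | e | e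
  exacts [(h0 (by simpa using e)).elim, (h1 (σ.injective (by simpa using e))).elim, (ha e).elim, e]

end F4

end Cfsg.Agent.PU
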