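import Cfsg.Agent.Lib.PU.Outer2
import Cfsg.Agent.Lib.PU.QL4a

/-!
The automizer of `2^{1+4}_-`.
-/

set_option autoImplicit false

namespace Cfsg.Agent.PU

open Cfsg Cfsg.FusionSystem Subgroup Cfsg.Agent.FT
open Cfsg.Agent.H6 (cj RealizedIn SylIn)
open Cfsg.Agent.H9 (U4)
open Cfsg.Agent.SP (sA sB sZ sX)
open scoped commutatorElement

variable {Ω : Type*} [Group Ω] {S : Subgroup Ω} [Finite S] {F F' : FusionSystem S}
  {K : Type*} [Field K] [Fintype K] [CharP K 2] {sp : Bool} {σ : K ≃+* K}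
  {Y : Subgroup (Tor K)} {w : U4 K →* Ω} {t : Ω}


omit [Finite S] in
theorem Fr.exists_Q4 (h : Fr F false σ Y w t) (h4 : Nat.card K = 4) (hσ : σ ≠ 1) :
    ∃ e : Q4.M ≃ QQ σ w t, ∀ a b, e (Q4.mm a b) = e a * e b := by
  obtain ⟨ω, o0, o1, o2, o3⟩ := f4_omega h4 hσ
  let c : ZMod 2 →+* K := ZMod.castHom (dvd_refl 2) K
  have hσ : ∀ a, σ (c a) = c a := fun a =>
    DFunLike.congr_fun (RingHom.ext_zmod ((σ : K →+* K).comp c) c) a
  have hi : ∀ x, σ⁻¹ x = σ x := fun x => by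
    rw [inv_eq_of_mul_eq_one_right (f4_aut h4 σ)]
  have two : (2 : K) = 0 := CharTwo.two_eq_zero
  have sq : ∀ a, c a * c a = c a := fun a => by
    rw [← map_mul]; congr 1; revert a; decide
  have inj : ∀ a b a' b', c a + c b * ω = c a' + c b' * ω → a = a' ∧ b = b' := fun a b a' b' e => by
    have o4 : ω + 1 ≠ 0 := fun e => o1 (by linear_combination e - two)
    have hb : b = b' := by
      by_contra hb
      have k : ∀ a a' b b' : ZMod 2, b ≠ b' → b + b' = 1 ∧ (a + a' = 0 ∨ a + a' = 1) := by decide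
      obtain ⟨k1, k2 | k2⟩ := k a a' b b' hb <;>
      · have k3 := congrArg c k1
        have k4 := congrArg c k2
        simp only [map_add, map_one, map_zero] at k3 k4
        first
        | exact o0 (by linear_combination e - ω * k3 - k4 + (c a' + c b' * ω) * two)
        | exact o4 (by linear_combination e - ω * k3 - k4 + (c a' + c b' * ω) * two)
    subst hb
    exact ⟨c.injective (add_right_cancel e), rfl⟩
  have sur : ∀ x, ∃ a b, c a + c b * ω = x := fun x => by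
    rcases f4_cases h4 o2 x with rfl | rfl | rfl | rfl
    exacts [⟨0, 0, by simp⟩, ⟨1, 0, by simp⟩, ⟨0, 1, by simp⟩, ⟨1, 1, by simp [add_comm]⟩]
  let j : Q4.M → U4 K × Bool := fun a => (⟨0, c a.1 + c a.2.1 * ω,
    c a.2.2.1 + c a.2.2.2.1 * (ω + 1), c a.2.2.1 + c a.2.2.2.1 * ω⟩, a.2.2.2.2)
  let e : Q4.M → Ω := fun a => w (j a).1 * if (j a).2 then t else 1
  have he : ∀ a b, e (Q4.mm a b) = e a * e b := fun a b => by
    refine Eq.trans ?_ (h.par.2.2 (j a) (j b)).symm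
    refine h.par.2.1 _ _ |>.2 ⟨h.ker.eq_iff.2 ?_, rfl⟩
    obtain ⟨y0, y1, i0, i1, b1⟩ := a
    obtain ⟨y0', y1', i0', i1', b2⟩ := b
    cases b1
    · simp only [j, Q4.mm, U4.mul_def, map_add, map_mul, Bool.false_eq_true, if_false]
      refine ⟨?_, by ring, by ring, False.elim⟩
      linear_combination (-c i1 * c i1') * o2 - (c i1 * c i1' * ω) * two
    · simp only [j, Q4.mm, U4.mul_def, map_add, map_mul, Bool.false_eq_true, if_false, if_true, sw,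
        hσ, hi, o3, map_one]
      refine ⟨?_, by ring, by linear_combination (-c i1') * two, False.elim⟩
      linear_combination (-c i1 * c i1' - c i1' * c i1') * o2 - sq i0' - sq i1' -
        (c i1 * c i1' * ω + c i0' * c i1' * ω + c i0' * c i1' + c i1' * c i1' * (2 * ω + 1)) * two
  have hj : Function.Injective e := fun a b hab => by
    obtain ⟨h1, h3⟩ := (h.par.2.1 (j a) (j b)).1 hab
    obtain ⟨k1, -, k2, -⟩ := h.ker.eq_iff.1 h1
    exact Prod.ext (inj _ _ _ _ k1).1 (Prod.ext (inj _ _ _ _ k1).2 (Prod.ext (inj _ _ _ _ k2).1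
      (Prod.ext (inj _ _ _ _ k2).2 h3)))
  have hm : ∀ a, e a ∈ QQ σ w t := fun a => mul_mem (mem_sup_left ⟨_, by
    simp only [j, SetLike.mem_coe, mem_sR, map_add, map_mul, hσ, o3], rfl⟩) (by
    split_ifs
    exacts [mem_sup_right (mem_zpowers t), one_mem _])
  have h0 : e Q4.o = 1 := by simp [e, j, Q4.o, ← U4.one_def]
  let R : Subgroup Ω :=
    { carrier := Set.range e
      one_mem' := ⟨_, h0⟩
      mul_mem' := by rintro _ _ ⟨a, rfl⟩ ⟨b, rfl⟩; exact ⟨_, he a b⟩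
      inv_mem' := by
        rintro _ ⟨a, rfl⟩
        obtain ⟨b, hb⟩ := Q4.inv a
        exact ⟨b, eq_inv_of_mul_eq_one_right (by rw [← he, hb, h0])⟩ }
  have hR : QQ σ w t ≤ R := by
    refine sup_le ?_ (zpowers_le.2 ⟨Q4.g1, by simp [e, j, Q4.g1, ← U4.one_def]⟩)
    rintro _ ⟨u, hu, rfl⟩
    obtain ⟨y0, y1, hy⟩ := sur u.y
    obtain ⟨i0, i1, hi⟩ := sur u.i
    refine ⟨(y0, y1, i0, i1, false), ?_⟩
    simp only [e, j, Bool.false_eq_true, if_false, mul_one]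
    exact h.ker.eq_iff.2 ⟨hy, by rw [mem_sR.1 hu, ← hi, map_add, map_mul, hσ, hσ, o3], hi,
      fun e => absurd e Bool.false_ne_true⟩
  exact ⟨Equiv.ofBijective (fun a => ⟨e a, hm a⟩) ⟨fun a b hab => hj (congrArg Subtype.val hab),
    fun x => (hR x.2).imp fun a ha => Subtype.ext ha⟩, fun a b => Subtype.ext (he a b)⟩

theorem ess_four {Q : Subgroup Ω} (hS : IsPGroup 2 S) (hF : F.IsSaturated 2)
    (hE : F.IsEssential 2 Q) (hn : S ≤ 𝒩(Q)) (hsq : ∀ s ∈ S, s * s ∈ Q) {s s' : Ω} (hs : s ∈ S)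
    (hs' : s' ∈ S) (s1 : s ∉ Q) (s2 : s' ∉ Q) (s3 : s⁻¹ * s' ∉ Q) :
    60 * Nat.card (Inn Q) ≤ Nat.card (F.autGroup Q) ∧ ∃ g, F.IsIso S S g ∧ g s * s⁻¹ ∉ Q := by
  have := finite_of_le hE.le
  let ι : S →* F.autGroup Q := (Q.normalizerMonoidHom.comp (inclusion hn)).codRestrict _
    fun a => F.conjAut_mem_autGroup hE.le a.2 (hn a.2)
  let π : S →* F.OutF Q := (QuotientGroup.mk' _).comp ι
  have p1 : ∀ a : S, π a = 1 ↔ (a : Ω) ∈ Q := fun a =>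
    (mk_eq_one_iff_mem_inn (ι a)).trans (hE.isCentric.conjAut_mem_inn_iff a.2 (hn a.2))
  have hI := inn_le_autInducedBy hE.le
  have p2 : ∀ a : S, π a ∈ F.outImage Q (autInducedBy S Q) := fun a =>
    (mk_mem_outImage_iff hI (ι a)).2 (conjAut_mem_autInducedBy a.2 (hn a.2))
  have hV := (hF.isFullyAutomized hS hE.isFullyNormalized).sylowIn_outImage
  obtain ⟨-, -, E, hE1⟩ := isEssential_iff.1 hE
  obtain ⟨M, hM, hVM⟩ := H7.spe_exists_ge hE1 hV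
  obtain ⟨m1, m2, m3⟩ := H7.isStronglyPEmbedded_iff.1 hM
  have hM' : IsStronglyEmbedded M := H6.se_of_mem m1 (by
    obtain ⟨x, hx⟩ := exists_prime_orderOf_dvd_card' 2 m2
    exact ⟨x, x.2, by rw [orderOf_coe, hx]⟩) fun x g hx hxM hg =>
      m3 x hxM (fun e => by simp [e] at hx) ⟨1, by rw [pow_one, ← hx, pow_orderOf_eq_one]⟩ g hg
  have he : El (F.outImage Q (autInducedBy S Q)) := fun v hv => by
    obtain ⟨α, rfl⟩ := QuotientGroup.mk_surjective v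
    obtain ⟨a, ha, e⟩ := mem_autInducedBy_iff.1 ((mk_mem_outImage_iff hI α).1 hv)
    rw [show α = ι ⟨a, ha⟩ from Subtype.ext (MulEquiv.ext fun x => Subtype.ext (e x))]
    exact (map_mul π _ _).symm.trans ((p1 _).2 (hsq a ha))
  obtain ⟨c1, n, hn1, hn2⟩ := se_four ⟨hV.le, hV.isPGroup, fun _ a b c => hV.eq_of_le a b c⟩ he hM' hVM
    (p2 ⟨s, hs⟩) (p2 ⟨s', hs'⟩) (mt (p1 _).1 s1) (mt (p1 _).1 s2) fun e => s3 ((p1 (⟨s, hs⟩⁻¹ * ⟨s', hs'⟩)).1 (by
      rw [map_mul, map_inv, e, inv_mul_cancel]))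
  refine ⟨?_, ?_⟩
  · rw [card_eq_card_quotient_mul_card_subgroup ((Inn Q).subgroupOf (F.autGroup Q)),
      Nat.card_congr (subgroupOfEquivOfLe (F.inn_le_autGroup hE.le)).toEquiv]
    exact Nat.mul_le_mul_right _ c1
  obtain ⟨α, rfl⟩ := QuotientGroup.mk_surjective n
  obtain ⟨g, hg, e⟩ := (hF.isReceptive hS hE.isFullyNormalized).exists_ext_aut α.2
    (R := S) (le_inf le_rfl hn) fun a ha => (mk_mem_outImage_iff hI (α * ι ⟨a, ha⟩ * α⁻¹)).1
      (conj_mem_of_mem_normalizer hn1 (p2 ⟨a, ha⟩))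
  rw [sup_eq_right.2 hE.le] at hg
  refine ⟨g, hg.isIso_top, fun h => hn2 ?_⟩
  have e1 : α * ι ⟨s, hs⟩ * α⁻¹ = ι ⟨g s, hg.mem hs⟩ := Subtype.ext (MulEquiv.ext fun x =>
    Subtype.ext (conj_conjAut hg hE.le e hs (fun _ => rfl) x))
  have e2 := (p1 (⟨g s, hg.mem hs⟩ * ⟨s, hs⟩⁻¹)).2 h
  rw [map_mul, map_inv, mul_inv_eq_one] at e2
  exact (congrArg QuotientGroup.mk e1).trans e2

theorem Fr.le_normQ (h : Fr F sp σ Y w t) : S ≤ 𝒩(QQ σ w t) := fun s hs => by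
  have k : ∀ b ∈ w.range, b ∈ 𝒩(QQ σ w t) := fun b hb => mem_norm_of_kk h.ab.Q_le fun x hx =>
    mem_sup_left (h.ab.kk_B hb (h.ab.Q_le hx))
  obtain hb | ⟨b, hb, rfl⟩ := h.ab.mem s hs
  exacts [k s hb, mul_mem (k b hb) (le_normalizer (mem_sup_right (mem_zpowers t)))]

theorem Fr.sq_memQ (h : Fr F sp σ Y w t) : ∀ s ∈ S, s * s ∈ QQ σ w t := fun s hs => by
  have ht : t ∈ QQ σ w t := mem_sup_right (mem_zpowers t)
  obtain hb | ⟨b, hb, rfl⟩ := h.ab.mem s hs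
  · exact mem_sup_left (h.ab.DR (h.ab.sq s hb))
  · rw [show b * t * (b * t) = b * t * b⁻¹ * (b * b) * t by group]
    exact mul_mem (mul_mem (conj_mem_of_mem_normalizer (h.le_normQ (h.ab.BS hb)) ht)
      (mem_sup_left (h.ab.DR (h.ab.sq b hb)))) ht

theorem Fr.mem_Q (h : Fr F sp σ Y w t) {u : U4 K} : w u ∈ QQ σ w t ↔ u.z = σ u.i :=
  ⟨fun e => h.ker.mem_sR.1 (h.ab.Q_inf e ⟨u, rfl⟩), fun e => mem_sup_left ⟨u, e, rfl⟩⟩

theorem Fr.four (h : Fr F false σ Y w t) (hF : F.IsSaturated 2) (h4 : Nat.card K = 4) (hσ : σ ≠ 1)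
    (hE : F.IsEssential 2 (QQ σ w t)) :
    60 * Nat.card (Inn (QQ σ w t)) ≤ Nat.card (F.autGroup (QQ σ w t)) ∧
      ∃ g, F.IsIso S S g ∧ g (w ⟨0, 0, 0, 1⟩) * (w ⟨0, 0, 0, 1⟩)⁻¹ ∉ QQ σ w t := by
  obtain ⟨ω, o0, o1, -, -⟩ := f4_omega h4 hσ
  refine ess_four h.isPGroup hF hE h.le_normQ h.sq_memQ (h.wS _) (h.wS ⟨0, 0, 0, ω⟩) ?_ ?_ ?_
  · rw [h.mem_Q]; simp
  · rw [h.mem_Q]; exact fun e => o0 (σ.injective (e.symm.trans (map_zero σ).symm))
  · rw [← map_inv, ← map_mul, h.mem_Q, SP.mul_z, SP.mul_i, SP.inv_z, SP.inv_i]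
    refine fun e => o1 (neg_add_eq_zero.1 (σ.injective ?_)).symm
    rw [← e, map_zero]; simp

theorem Fr.autQ4 (h : Fr F false σ Y w t) (h' : Fr F' false σ Y w t) (hp : Par false σ Y)
    (hF : F.IsSaturated 2) (hF' : F'.IsSaturated 2) (h4 : Nat.card K = 4) (hσ : σ ≠ 1)
    (hE : F.IsEssential 2 (QQ σ w t)) (hE' : F'.IsEssential 2 (QQ σ w t)) {f : Ω → Ω}
    (hf : F.IsIso (QQ σ w t) (QQ σ w t) f) : F'.IsMor (QQ σ w t) f := by
  obtain ⟨e, he⟩ := h.exists_Q4 h4 hσ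
  have hS := h.isPGroup
  have := finite_of_le hE.le
  have c1 := card_normalizerIn (QQ σ w t) (QQ σ w t)
  have c2 : Nat.card (QQ σ w t) = 32 := by rw [← Nat.card_congr e]; simp
  have c3 : Nat.card (centralizerIn (QQ σ w t) (QQ σ w t)) ≤ 2 := by
    rw [← Q4.c2, ← Nat.card_eq_fintype_card]
    refine Nat.card_le_card_of_injective (fun x => ⟨e.symm ⟨x, x.2.1⟩,
      fun b => e.injective (Subtype.ext ?_)⟩) fun x y hxy => ?_
    · simp only [he, Equiv.apply_symm_apply, Subgroup.coe_mul]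
      exact (x.2.2 _ (e b).2).symm
    · exact Subtype.ext (congrArg Subtype.val (e.symm.injective (congrArg Subtype.val hxy)) :)
  rw [show normalizerIn (QQ σ w t) (QQ σ w t) = QQ σ w t from inf_of_le_left le_normalizer, c2,
    ← inn_eq_autInducedBy] at c1
  have c4 := (h'.four hF' h4 hσ hE').1
  have c5 := Q4.card_aut e he
  have hV := hF.sylowIn hS hE.isFullyNormalized
  exact (autGroup_le_iff hE.le hE.le).1 (le_of_index_two
    ⟨hV.le, hV.isPGroup, fun _ a b c => hV.eq_of_le a b c⟩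
    (F'.autInducedBy_le_autGroup hE.le le_rfl) (by nlinarith)) f hf

theorem Fr.dnS (h : Fr F sp σ Y w t) (hp : Par sp σ Y) {f : Ω → Ω} (hf : F.IsIso S S f) :
    ∃ s ∈ S, ∃ τ ∈ Y, τ.sw σ = τ ∧ ∀ u, f (w u) = s * w (dg τ u) * s⁻¹ := by
  obtain ⟨φ, hs, -⟩ := h.str hp
  have hB := fun f hf => hs.isIsoB (f := f) hf
  rw [map_sup_map] at hB
  obtain ⟨s, hs1, τ, hτ, e⟩ := h.dn f (hB f hf)
  refine ⟨s, hs1, τ, hτ, ?_, e⟩
  have f1 := ((isMor_conj F le_rfl (S.inv_mem hs1)).isIso_top).comp' hf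
  have e1 : ∀ u, s⁻¹ * f (w u) * s⁻¹⁻¹ = w (dg τ u) := fun u => by rw [e]; group
  have k : ∀ f, F.IsIso S S f → ∃ v, f t = w v * t := fun f hf =>
    ((h.mem _).1 (hf.mapsTo t h.tS)).imp fun v hv => hv.resolve_left fun e =>
      h.nt (((hB f hf).mem_iff hf.mor h.range_le h.tS).1 ⟨v, e.symm⟩)
  generalize hg : (fun x => s⁻¹ * f x * s⁻¹⁻¹) = g at f1
  replace e1 : ∀ u, g (w u) = w (dg τ u) := fun u => hg ▸ e1 u
  obtain ⟨v, hv⟩ := k g f1
  have e2 : ∀ u, w (dg τ (sw sp σ u)) = w (v * sw sp σ (dg τ u) * v⁻¹) := fun u => by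
    rw [← e1, ← h.conj', f1.mor.map_conj h.tS (h.wS u), hv, e1, map_mul, map_mul, map_inv,
      ← h.conj']
    group
  obtain ⟨-, e3, e4, -⟩ := h.ker.eq_iff.1 (e2 ⟨0, 0, 0, 1⟩)
  obtain ⟨-, -, e5, -⟩ := h.ker.eq_iff.1 (e2 ⟨0, 0, 1, 0⟩)
  rw [SP.conj_z] at e3
  rw [SP.conj_i] at e5
  exact Tor.ext (Units.ext (by simpa [sw, dg_apply, Tor.sw] using e5.symm))
    (Units.ext (by simpa [sw, dg_apply, Tor.sw] using e3.symm)) rfl

theorem Fr.mem_Y (h : Fr F false σ Y w t) (hp : Par false σ Y) (hF : F.IsSaturated 2)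
    (h4 : Nat.card K = 4) (hσ : σ ≠ 1) (hE : F.IsEssential 2 (QQ σ w t)) (τ : Tor K) :
    τ ∈ Y ↔ τ.ρ = 1 := by
  have k1 : ∀ τ ∈ Y, τ.ρ = 1 := fun τ hτ => by
    let r : Tor K →* (K ≃+* K) := ⟨⟨Tor.ρ, rfl⟩, fun _ _ => rfl⟩
    obtain ⟨n, hn⟩ := hp.odd
    have e : r (τ ^ Nat.card Y) = 1 := by
      rw [show τ ^ Nat.card Y = 1 from
        congrArg Subtype.val (pow_card_eq_one' (x := (⟨τ, hτ⟩ : Y))), map_one]
    rwa [map_pow, hn, pow_succ, pow_mul, sq, f4_aut h4, one_pow, one_mul] at e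
  refine ⟨k1 τ, fun e => ?_⟩
  have two : (2 : K) = 0 := CharTwo.two_eq_zero
  have cube : ∀ m : Kˣ, (m : K) ^ 3 = 1 := fun m => by
    have := FiniteField.pow_card_sub_one_eq_one (m : K) m.ne_zero
    rwa [← Nat.card_eq_fintype_card, h4] at this
  have k2 : ∀ m : Kˣ, (⟨m, m, 1⟩ : Tor K) ∈ Y := fun m => by
    have c : m ^ 3 = 1 := Units.ext (cube m)
    convert hp.lam (m ^ 2) using 1
    exact Tor.ext (eq_inv_of_mul_eq_one_left (by rw [← c]; group))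
      (by change m = (m ^ 2) ^ 2; rw [← pow_mul, show 2 * 2 = 3 + 1 from rfl, pow_succ, c, one_mul]) rfl
  obtain ⟨g, hg, hg'⟩ := (h.four hF h4 hσ hE).2
  obtain ⟨s, hs, ⟨a, b, ρ⟩, hτ, e1, e2⟩ := h.dnS hp hg
  obtain rfl : ρ = 1 := k1 _ hτ
  have a1 : (a : K) ≠ 1 := fun e => hg' (by
    rw [e2, show dg ⟨a, b, 1⟩ ⟨0, 0, 0, 1⟩ = ⟨0, 0, 0, 1⟩ by simp [dg_apply, e]]
    have := h.ab.kk_B ⟨⟨0, 0, 0, 1⟩, rfl⟩ (S.inv_mem hs)
    rw [kk, inv_inv, ← mul_assoc, ← mul_assoc] at this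
    exact mem_sup_left this)
  have a2 := f4_sq h4 a.ne_zero a1
  have a3 : (b : K) = a * a := by
    obtain ⟨ω, o0, o1, o2, o3⟩ := f4_omega h4 hσ
    have b1 : σ a = b := congrArg (fun τ : Tor K => (τ.b : K)) e1
    rw [← b1, a2]
    rcases f4_cases h4 o2 a with e | e | e | e
    exacts [(a.ne_zero e).elim, (a1 e).elim, by rw [e, o3], by rw [e, map_add, o3, map_one]]
  have k3 : (⟨1, a, 1⟩ : Tor K) ∈ Y := by
    convert Y.mul_mem hτ (k2 a⁻¹) using 1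
    exact Tor.ext (mul_inv_cancel a).symm (Units.ext (by simp [a3])) rfl
  have k4 : ∀ m : Kˣ, (⟨1, m, 1⟩ : Tor K) ∈ Y := fun m => by
    rcases f4_cases h4 a2 m with e | e | e | e
    · exact (m.ne_zero e).elim
    · rw [show m = 1 from Units.ext e]; exact Y.one_mem
    · rw [show m = a from Units.ext e]; exact k3
    · convert Y.mul_mem k3 k3 using 1
      exact Tor.ext (mul_one _).symm (Units.ext (e.trans a2.symm)) rfl
  convert Y.mul_mem (k2 τ.a) (k4 (τ.a⁻¹ * τ.b)) using 1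
  exact Tor.ext (mul_one _).symm (mul_inv_cancel_left _ _).symm e

end Cfsg.Agent.PU
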