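import Cfsg.Agent.Lib.PU.AutA
import Cfsg.Agent.Lib.PU.QL4
import Cfsg.Agent.Lib.PU.QL2
import Cfsg.Agent.Lib.H6.GrpFus

/-!
A frame and the flag determine the system.
-/

set_option autoImplicit false

namespace Cfsg.Agent.PU

open Cfsg Cfsg.FusionSystem Subgroup Cfsg.Agent.FT
open Cfsg.Agent.H6 (cj RealizedIn SylIn)
open Cfsg.Agent.H9 (U4)
open Cfsg.Agent.SP (sA sB sZ sX)
open scoped commutatorElement

variable {Ω : Type*} [Group Ω] {S : Subgroup Ω} [Finite S] {F F' : FusionSystem S}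
  {K : Type*} [Field K] [Fintype K] [CharP K 2] {sp : Bool} {σ : K ≃+* K}
  {Y : Subgroup (Tor K)} {w : U4 K →* Ω} {t : Ω}


theorem Fr.exc_of_not_sc (h : Fr F sp σ Y w t) (hp : Par sp σ Y) (hF : F.IsSaturated 2)
    (hc : ¬ F.StronglyClosed w.range) : F.IsEssential 2 (QQ σ w t) ∧ Exc sp σ :=
  have h1 := not_not.1 (mt (h.sc_iff hp hF).2 hc)
  ⟨h1, (h.ess_out hp hF h1 fun e => h.nt (e (mem_sup_right (mem_zpowers t)))).2⟩

theorem Fr.le (h : Fr F sp σ Y w t) (h' : Fr F' sp σ Y w t) (hp : Par sp σ Y)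
    (hF : F.IsSaturated 2) (hF' : F'.IsSaturated 2)
    (hc : F'.StronglyClosed w.range → F.StronglyClosed w.range) : F ≤ F' := by
  refine hF.isSubsystemOf_of_essential h.isPGroup ?_
  rintro P (rfl | hP) f hf
  · exact h.autS h' hp hF hf
  by_cases hle : P ≤ w.range
  · rcases h.ess_in hp hF hP hle with rfl | rfl | rfl
    exacts [h.autA1 h' hp hF hf, h.autA2 h' hp hF hf, h.autB h' hf]
  obtain ⟨rfl, he⟩ := h.ess_out hp hF hP hle
  have hP' := (h'.exc_of_not_sc hp hF' fun e => (h.sc_iff hp hF).1 (hc e) hP).1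
  rcases he with ⟨h4, rfl, hσ⟩ | ⟨h2, rfl⟩
  · exact h.autQ4 h' hp hF hF' h4 hσ hP hP' hf
  · exact h.autQ2 h' hp hF hF' h2 hP hP' hf

theorem Fr.realizedIn (h : Fr F sp σ Y w t) (hp : Par sp σ Y) (hF : F.IsSaturated 2)
    {G : Type*} [Group G] [Finite G] {U : Subgroup G} (hU : SylIn 2 U ⊤) {w' : U4 K →* G} {t' : G}
    (h' : Fr (groupFusionSystem U) sp σ Y w' t')
    (hc : F.StronglyClosed w.range ↔ (groupFusionSystem U).StronglyClosed w'.range) :
    RealizedIn F G := by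
  obtain ⟨a, b, h1, h2, h3⟩ := h.exists_grpIso h'
  obtain ⟨E, hE⟩ := F.exists_isoVia h1
  have h4 := h.of_isoVia hE h2 h3
  have h5 : img w.range a = w'.range := by
    ext y
    rw [h1.mem_img h.range_le]
    exact ⟨by rintro ⟨_, ⟨u, rfl⟩, rfl⟩; exact ⟨u, (h2 u).symm⟩,
      by rintro ⟨u, rfl⟩; exact ⟨_, ⟨u, rfl⟩, h2 u⟩⟩
  have h6 := (h5 ▸ hE.stronglyClosed_iff h.range_le).trans hc
  have hs := hE.isSaturated hF
  have hs' := H6.group_isSaturated hU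
  exact H6.realizedIn_of_isoVia hU
    (le_antisymm' (h4.le h' hp hs hs' h6.2) (h'.le h4 hp hs' hs h6.1) ▸ hE)

end Cfsg.Agent.PU
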