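import Cfsg.Agent.Lib.PU.Off4

/-!
Offenders centralize the centres, `q = 2`.
-/

set_option autoImplicit false

namespace Cfsg.Agent.PU

open Cfsg Cfsg.FusionSystem Subgroup Cfsg.Agent.FT
open Cfsg.Agent.H6 (cj RealizedIn SylIn)
open Cfsg.Agent.H9 (U4)
open Cfsg.Agent.SP (sA sB sZ sX)
open scoped commutatorElement

variable {G V : Type*} [Group G] [AddCommGroup V] [DistribMulAction G V] [Finite G] [Finite V]
  {A B K M P W X Y Z : Subgroup G} {a b g x y z : G} {u v w : V}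


theorem add_le_of_card_two {C D : AddSubgroup V} (hq : Nat.card C = 2) (hv : v ∈ C) (h0 : v ≠ 0)
    (hD : v ∈ D) : C ≤ D := fun u hu => by
  obtain ⟨y, -, hy⟩ := (Nat.card_eq_two_iff' (0 : C)).1 hq
  by_cases h : u = 0
  · rw [h]; exact zero_mem _
  rwa [show u = v from congrArg Subtype.val ((hy ⟨u, hu⟩ fun e => h (congrArg Subtype.val e)).trans
    (hy ⟨v, hv⟩ fun e => h0 (congrArg Subtype.val e)).symm)]

namespace Geo
variable (h : Geo V A) (hq : Nat.card A = 2) (hX : Pt A X) (hY : Pt A Y) (hne : X ≠ Y)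
  (hc : Y ≤ 𝒞(X))
include h hq hX hY hne hc

theorem fix_mul (ha : a ∈ X) (hb : b ∈ Y) (e : (a * b) • v = v) : a • v = v := by
  by_contra hn
  have ha1 : a ≠ 1 := by rintro rfl; simp at hn
  refine h.centre hq hX hY hne hc ha ha1 hb (add_le_of_card_two
    (((h.pt_quad hX).card_cm ha ha1).trans ((h.pt_card hX).trans hq)) (mem_cm a v)
    (sub_ne_zero.2 hn) ⟨v, ?_⟩)
  rw [mul_smul, smul_eq_iff_eq_inv_smul, (h.pt_el hX).inv ha] at e
  rw [e]

theorem three (hZ : Pt A Z) (n1 : X ≠ Z) (n2 : Y ≠ Z) (c1 : Z ≤ 𝒞(X)) (c2 : Z ≤ 𝒞(Y)) :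
    ¬ fx V X ⊓ fx V Y ≤ fx V Z := fun hU => by
  have h1 := h.nov _ (((h.pt_el hX).sup (h.pt_el hY) hc).sup (h.pt_el hZ)
    (cent_sup.ge.trans' (le_inf c1 c2)))
  rw [fx_sup, fx_sup, inf_eq_left.2 hU, (h.pt_quad hX).card, h.comm_card hX hY hne hc, ← mul_assoc,
    ← h.pt_card hX, ← h.card_sup hX hY hne hc] at h1
  obtain ⟨z, hz, hz1⟩ := h.pt_ex hZ
  obtain ⟨a, ha, b, hb, rfl⟩ := (H1.mem_sup_of_le_normalizer (hc.trans cent_le_norm)).1
    ((eq_of_le_of_card_ge le_sup_left (Nat.le_of_mul_le_mul_right h1 Nat.card_pos)).ge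
      (mem_sup_right hz))
  refine h.centre hq hX hZ n1 c1 ha (fun e => n2 (h.eq_of_mem hY hZ hb (by simpa [e] using hz)
    (by simpa [e] using hz1))) hz ?_
  rintro _ ⟨v, rfl⟩
  obtain ⟨c, hc', d, hd, rfl⟩ := exists_add_of_sup (h.comm_sup hX hY hne hc) v
  exact ⟨d, by rw [smul_add, hc' a ha, add_sub_add_left_eq_sub, mul_smul, hd b hb]⟩

end Geo

theorem Geo.off_two (h : Geo V A) (hq : Nat.card A = 2) (hP : IsPGroup 2 P) (hX : Pt A X)
    (hXP : X ≤ P) (hB : B ≤ P) (he : El B) (ho : Nat.card V ≤ Nat.card B * Nat.card (fx V B)) :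
    B ≤ 𝒩(X) := fun b0 hb0 => by
  have m := h.toMod2
  have qX := h.pt_quad hX
  by_contra hn
  obtain ⟨a, ha, ha1⟩ := h.pt_ex hX
  have cm' : ∀ b ∈ B, ∀ c ∈ B, cj c X ≤ 𝒞(cj b X) := fun b hb c hc => h.comm_of_pgroup (hX.cj b)
    (hX.cj c) hP (H6.cj_le_of_mem (hB hb) hXP) (H6.cj_le_of_mem (hB hc) hXP)
  have cm1 : ∀ c ∈ B, cj c X ≤ 𝒞(X) := fun c hc => by
    simpa only [H6.cj_one] using cm' 1 B.one_mem c hc
  have hN : ∀ n ∈ 𝒩(X), n * a * n⁻¹ = a := fun n hn => (eq_of_card_two ((h.pt_card hX).trans hq)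
    ha ha1 (H6.conj_mem_of_mem_normalizer hn ha)).resolve_left (by simpa using ha1)
  have hN' : ∀ n, n * a * n⁻¹ ∈ X → n ∈ 𝒩(X) := fun n hn => H6.cj_eq_self_iff.1
    (h.eq_of_mem (hX.cj n) hX (H6.conj_mem_cj ha) hn (by simpa using ha1))
  have haB : a ∉ B := fun e => hn (hN' _ (by rwa [he.comm hb0 e, mul_inv_cancel_right]))
  let J := ⨆ b : B, zpowers ((b : G) * a * (b : G)⁻¹)
  have hJ : ∀ b ∈ B, b * a * b⁻¹ ∈ J := fun b hb =>
    le_iSup (fun b : B => zpowers ((b : G) * a * (b : G)⁻¹)) ⟨b, hb⟩ (mem_zpowers _)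
  have eJ : El J := fun x hx => by
    have c : J ≤ 𝒞(J) := iSup_le fun b => cent_comm.1 (iSup_le fun c => zpowers_le.2
      (cent_zpowers.ge (cent_le_cent1 (H6.conj_mem_cj ha) (cm' b b.2 c c.2 (H6.conj_mem_cj ha)))))
    refine iSup_induction' (fun b : B => zpowers ((b : G) * a * (b : G)⁻¹))
      (C := fun x _ => x * x = 1) (fun b x hx => ((h.pt_el (hX.cj b)).mono
      (zpowers_le.2 (H6.conj_mem_cj ha))) x hx) (mul_one 1) (fun x y hx hy h1 h2 => ?_) hx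
    rw [mul_assoc, ← mul_assoc y, c hx y hy, mul_assoc, h2, mul_one, h1]
  have eE : El (J ⊔ B ⊓ 𝒩(X)) := eJ.sup (he.mono inf_le_left) (cent_comm.1 (iSup_le fun b =>
    zpowers_le.2 fun n hn => by
      rw [← mul_inv_eq_iff_eq_mul, ← mul_assoc, ← mul_assoc, he.comm hn.1 b.2, mul_assoc _ _ n⁻¹,
        he.comm (B.inv_mem b.2) (B.inv_mem hn.1)]
      conv_rhs => rw [← hN n hn.2]
      group))
  obtain ⟨r, hr, hr0⟩ : ∃ r ∈ cm V a, r ≠ 0 := by
    by_contra! hn; exact ha1 (m.faith a fun v => sub_eq_zero.1 (hn _ (mem_cm a v)))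
  have c2 : Nat.card (cm V a) = 2 := (qX.card_cm ha ha1).trans ((h.pt_card hX).trans hq)
  have hrB : r ∉ fx V B := fun e => h.centre hq hX (hX.cj b0)
    (fun e => hn (H6.cj_eq_self_iff.1 e.symm)) (cm1 b0 hb0) ha ha1 (H6.conj_mem_cj ha)
    (add_le_of_card_two c2 hr hr0 (e b0 hb0 ▸ smul_mem_cm b0 hr))
  have hU : fx V B ⊓ fx V X ≤ fx V (J ⊔ B ⊓ 𝒩(X)) := fx_sup.ge.trans' (le_inf (fun v hv x hx =>
    iSup_le (a := MulAction.stabilizer G v) (fun b => zpowers_le.2 (by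
      rw [MulAction.mem_stabilizer_iff, mul_smul, mul_smul, hv.1 _ (B.inv_mem b.2), hv.2 a ha,
        hv.1 _ b.2])) hx) (inf_le_left.trans (fx_anti inf_le_left)))
  have hrE : r ∈ fx V (J ⊔ B ⊓ 𝒩(X)) := fx_sup.ge ⟨fun x hx =>
    iSup_le (a := MulAction.stabilizer G r) (fun b : B => zpowers_le.2 (cmS_le
      (fun _ => h.comm_mem hX (hX.cj b) (cm1 b b.2)) (cm_le_cmS ha hr) _ (H6.conj_mem_cj ha))) hx,
    fun n hn => by
      by_contra e
      have h1 := smul_mem_cm n hr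
      rw [hN n hn.2] at h1
      obtain ⟨k, hk⟩ := AddSubgroup.mem_zmultiples_iff.1 (add_le_of_card_two c2 (sub_mem h1 hr)
        (sub_ne_zero.2 e) (AddSubgroup.mem_zmultiples _) hr)
      have h2 : n • (n • r - r) = n • r - r := by
        rw [smul_sub, ← mul_smul, he n hn.1, one_smul, ← neg_sub, m.neg]
      exact e (by rw [← hk, smul_comm, h2])⟩
  have c3 : 2 * Nat.card (fx V B ⊓ fx V X : AddSubgroup V) ≤ Nat.card (fx V (J ⊔ B ⊓ 𝒩(X))) := by
    have := card_mul_le_of_inj (C := fx V B ⊓ fx V X) (f := fun t : Bool => if t then r else 0)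
      (D := fx V (J ⊔ B ⊓ 𝒩(X))) (by rintro (_ | _) <;> simp [hrE])
      (by rintro (_ | _) (_ | _) <;> simp [hrB])
    rwa [inf_eq_right.2 hU, Nat.card_eq_fintype_card, Fintype.card_bool] at this
  have c4 := h.nov _ eE
  have p1 := Nat.card_pos (α := B)
  have p2 := Nat.card_pos (α := fx V B)
  by_cases hA : ∃ b ∈ B, b ∉ 𝒩(X) ∧ a * (b * a * b⁻¹) ∈ B
  · obtain ⟨b, hb, h1, h2⟩ := hA
    have n1 : X ≠ cj b X := fun e => h1 (H6.cj_eq_self_iff.1 e.symm)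
    rw [inf_eq_left.2 fun v hv => qX.cen a ha ha1 v (h.fix_mul hq hX (hX.cj b) n1 (cm1 b hb) ha
      (H6.conj_mem_cj ha) (hv _ h2))] at c3
    have c5 := card_le_two_mul hb (inf_le_left : B ⊓ 𝒩(X) ≤ B) fun c hc => by
      by_contra! h3
      refine h.three hq hX (hX.cj b) n1 (cm1 b hb) (hX.cj c)
        (fun e => h3.1 ⟨hc, H6.cj_eq_self_iff.1 e.symm⟩) (fun e => h3.2 ⟨B.mul_mem hc hb,
          H6.cj_eq_self_iff.1 (by rw [he.comm hc hb, ← H6.cj_cj, ← e, H6.cj_cj, he b hb, H6.cj_one])⟩)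
        (cm1 c hc) (cm' b hb c hc) fun v hv => (qX.cj c).cen _ (H6.conj_mem_cj ha)
        (by simpa using ha1) v (h.fix_mul hq (hX.cj c) ((hX.cj b).cj c)
          (fun e => n1 (H6.cj_injective c e)) (by
            rw [H6.cj_cj]; exact cm' c hc _ (B.mul_mem hc hb))
          (H6.conj_mem_cj ha) (H6.conj_mem_cj (H6.conj_mem_cj ha)) ?_)
      rw [show c * a * c⁻¹ * (c * (b * a * b⁻¹) * c⁻¹) = c * (a * (b * a * b⁻¹)) * c⁻¹ by group,
        he.comm hc h2, mul_inv_cancel_right, mul_smul, hv.2 _ (H6.conj_mem_cj ha), hv.1 a ha]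
    obtain ⟨i, hi⟩ := St.card_pow_two (he.mono (inf_le_left : B ⊓ 𝒩(X) ≤ B)).isPGroup
    obtain ⟨j, hj⟩ := St.card_pow_two eE.isPGroup
    have c6 := St.two_mul_le_of_lt hi hj (lt_of_not_ge fun e => haB
      ((eq_of_le_of_card_ge le_sup_right e).ge (mem_sup_left (by simpa using hJ 1 B.one_mem))).1)
    have := Nat.mul_le_mul (c5.trans c6) c3
    nlinarith
  have c5 : Nat.card (fx V B) ≤ 2 * Nat.card (fx V B ⊓ fx V X : AddSubgroup V) := by
    have h1 := card_sup_mul_inf (fx V B) (fx V X)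
    have h2 := AddSubgroup.card_le_card_addGroup (fx V B ⊔ fx V X)
    rw [qX.card, h.pt_card hX, hq] at h2
    refine Nat.le_of_mul_le_mul_right ?_ (Nat.card_pos (α := fx V X))
    rw [← h1, mul_right_comm]
    exact Nat.mul_le_mul_right _ h2
  have k : ∀ b : B, ((b : B ⧸ (𝒩(X)).subgroupOf B).out : G)⁻¹ * b ∈ B ⊓ 𝒩(X) := fun b =>
    ⟨B.mul_mem (B.inv_mem (Subtype.prop _)) b.2, mem_subgroupOf.1 (QuotientGroup.eq.1
      (QuotientGroup.out_eq' (b : B ⧸ (𝒩(X)).subgroupOf B)))⟩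
  have c6 : Nat.card (Option B) ≤ Nat.card (J ⊔ B ⊓ 𝒩(X) : Subgroup G) := by
    refine Nat.card_le_card_of_injective (fun o => o.elim 1 fun b =>
      ⟨_, mul_mem_sup (hJ b b.2) (k b)⟩) ?_
    have n : ∀ b : B, (b : G) * a * (b : G)⁻¹ * (((b : B ⧸ (𝒩(X)).subgroupOf B).out : G)⁻¹ * b) ≠ 1 :=
      fun b e => haB (by
        have : (b : G) * a * (b : G)⁻¹ ∈ B := eq_inv_of_mul_eq_one_left e ▸ B.inv_mem (k b).1
        simpa [mul_assoc] using B.mul_mem (B.mul_mem (B.inv_mem b.2) this) b.2)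
    rintro (_ | b) (_ | c) e
    · rfl
    · exact (n c (congrArg Subtype.val e).symm).elim
    · exact (n b (congrArg Subtype.val e)).elim
    have e : (b : G) * a * (b : G)⁻¹ * _ = (c : G) * a * (c : G)⁻¹ * _ := congrArg Subtype.val e
    have h1 : (b : G)⁻¹ * c ∈ 𝒩(X) := by_contra fun h1 => hA ⟨_, (b⁻¹ * c).2, h1, by
      have := B.mul_mem (B.mul_mem (B.inv_mem b.2) (B.mul_mem (k b).1 (B.inv_mem (k c).1))) b.2
      rw [(eq_inv_mul_iff_mul_eq.2 e : _ = _)] at this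
      nth_rewrite 1 [← (h.pt_el hX).inv ha]
      simpa [mul_assoc] using this⟩
    have h2 : (b : B ⧸ (𝒩(X)).subgroupOf B) = c := QuotientGroup.eq.2 h1
    rw [h2, show (c : G) * a * (c : G)⁻¹ = b * a * (b : G)⁻¹ by
      conv_rhs => rw [← hN _ h1]
      group] at e
    exact congrArg some (Subtype.ext (mul_left_cancel (mul_left_cancel e)))
  rw [Finite.card_option] at c6
  have := Nat.mul_le_mul c6 (c5.trans c3)
  nlinarith

end Cfsg.Agent.PU
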