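import Cfsg.Agent.Lib.PU.Line

/-!
Best offenders, Timmesfeld replacement and the Baer lemma.
-/

set_option autoImplicit false

namespace Cfsg.Agent.PU

open Cfsg Cfsg.FusionSystem Subgroup Cfsg.Agent.FT
open Cfsg.Agent.H6 (cj RealizedIn SylIn)
open Cfsg.Agent.H9 (U4)
open Cfsg.Agent.SP (sA sB sZ sX)
open scoped commutatorElement

variable {G V : Type*} [Group G] [AddCommGroup V] [DistribMulAction G V] [Finite G] [Finite V]
  {A B K M P W X Y Z : Subgroup G} {a b g x y z : G} {u v w : V}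


variable (V) in
/-- Best offenders. -/
def Best (A : Subgroup G) : Prop :=
  ∀ A' ≤ A, Nat.card A' * Nat.card (fx V A') ≤ Nat.card A * Nat.card (fx V A)

theorem Nov.best (h : Nov V G) (hA : El A) (ho : Nat.card V ≤ Nat.card A * Nat.card (fx V A)) :
    Best V A := by
  exact fun A' h' => (h A' (hA.mono h')).trans ho

theorem Best.sub (h : Best V A) (D : AddSubgroup V) {A0 : Subgroup G} (h0 : A0 ≤ A)
    (hD : D ≤ fx V A0) :
    Nat.card D * Nat.card A0 ≤ Nat.card A * Nat.card (D ⊓ fx V A : AddSubgroup V) := by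
  have h1 := card_sup_mul_inf D (fx V A)
  have h2 : Nat.card (D ⊔ fx V A : AddSubgroup V) ≤ Nat.card (fx V A0) :=
    AddSubgroup.card_le_of_le (sup_le hD (fx_anti h0))
  refine Nat.le_of_mul_le_mul_left ?_ (Nat.card_pos (α := fx V A))
  calc _ = Nat.card A0 * Nat.card (D ⊔ fx V A : AddSubgroup V) *
        Nat.card (D ⊓ fx V A : AddSubgroup V) := by rw [mul_assoc, h1]; ring
    _ ≤ Nat.card A * Nat.card (fx V A) * Nat.card (D ⊓ fx V A : AddSubgroup V) :=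
      Nat.mul_le_mul_right _ ((Nat.mul_le_mul_left _ h2).trans (h A0 h0))
    _ = _ := by ring

theorem exists_comm_lt (m : Mod2 G V) (hP : IsPGroup 2 P) {R : AddSubgroup V} (h0 : R ≠ ⊥)
    (hR : ∀ p ∈ P, ∀ v ∈ R, p • v ∈ R) :
    ∃ C : AddSubgroup V, ¬ R ≤ C ∧ ∀ p ∈ P, ∀ v ∈ R, p • v - v ∈ C := by
  obtain ⟨C, ⟨h1, h2, h3⟩, hmax⟩ := Set.exists_max_image
    {C : AddSubgroup V | C ≤ R ∧ ¬ R ≤ C ∧ ∀ p ∈ P, ∀ v ∈ C, p • v ∈ C} (fun C => Nat.card C)
    (Set.toFinite _) ⟨⊥, bot_le, fun e => h0 (le_bot_iff.1 e), fun p _ v hv => by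
      rw [AddSubgroup.mem_bot.1 hv, smul_zero]; exact zero_mem _⟩
  obtain ⟨v, hv, hv1, hv2⟩ := exists_fix_mod m hP h2 h3 hR
  let C' : AddSubgroup V :=
    { carrier := {v | v ∈ R ∧ ∀ p ∈ P, p • v - v ∈ C}
      zero_mem' := ⟨R.zero_mem, by simp⟩
      add_mem' := fun {a b} ha hb => ⟨R.add_mem ha.1 hb.1, fun p hp => by
        rw [smul_add, add_sub_add_comm]; exact C.add_mem (ha.2 p hp) (hb.2 p hp)⟩
      neg_mem' := fun {a} ha => ⟨R.neg_mem ha.1, fun p hp => by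
        rw [smul_neg, ← neg_sub']; exact C.neg_mem (ha.2 p hp)⟩ }
  have hC : C ≤ C' := fun c hc => ⟨h1 hc, fun p hp => C.sub_mem (h3 p hp c hc) hc⟩
  refine ⟨C, h2, fun p hp u hu => ?_⟩
  by_contra hn
  refine hv1 ((add_eq_of_le_of_card hC (hmax C' ⟨fun _ h => h.1, fun e => hn ((e hu).2 p hp),
    fun q hq w hw => ?_⟩)).ge ⟨hv, hv2⟩)
  simpa using C'.add_mem (hC (hw.2 q hq)) hw

theorem Best.inf (hA : El A) (h : Best V A) {A1 A2 : Subgroup G} (l1 : A1 ≤ A) (l2 : A2 ≤ A)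
    (h1 : Nat.card A1 * Nat.card (fx V A1) = Nat.card A * Nat.card (fx V A))
    (h2 : Nat.card A2 * Nat.card (fx V A2) = Nat.card A * Nat.card (fx V A)) :
    Nat.card (A1 ⊓ A2 : Subgroup G) * Nat.card (fx V (A1 ⊓ A2)) = Nat.card A * Nat.card (fx V A) ∧
      fx V (A1 ⊓ A2) = fx V A1 ⊔ fx V A2 := by
  have e1 := card_sup_mul_inf (fx V A1) (fx V A2)
  have e2 : Nat.card (A1 ⊔ A2 : Subgroup G) * Nat.card (A1 ⊓ A2 : Subgroup G) =
      Nat.card A1 * Nat.card A2 := H1.card_sup_mul_card_inf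
        (le_trans (fun a ha => mem_cent.2 fun b hb => hA.comm (l2 hb) (l1 ha)) cent_le_norm)
  have l : fx V A1 ⊔ fx V A2 ≤ fx V (A1 ⊓ A2) := sup_le (fx_anti inf_le_left) (fx_anti inf_le_right)
  have a1 := h _ (sup_le l1 l2)
  have a2 := h _ (inf_le_left.trans l1 : A1 ⊓ A2 ≤ A)
  have a3 := AddSubgroup.card_le_of_le l
  rw [fx_sup] at a1
  have p : 0 < Nat.card A * Nat.card (fx V A) := Nat.mul_pos Nat.card_pos Nat.card_pos
  have a4 : Nat.card A * Nat.card (fx V A) ≤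
      Nat.card (A1 ⊓ A2 : Subgroup G) * Nat.card (fx V A1 ⊔ fx V A2 : AddSubgroup V) := by
    refine Nat.le_of_mul_le_mul_left ?_ p
    calc _ = Nat.card A1 * Nat.card A2 * (Nat.card (fx V A1) * Nat.card (fx V A2)) := by
          nth_rewrite 1 [← h1]; rw [← h2]; ring
      _ = Nat.card (A1 ⊔ A2 : Subgroup G) * Nat.card (fx V A1 ⊓ fx V A2 : AddSubgroup V) *
          (Nat.card (A1 ⊓ A2 : Subgroup G) * Nat.card (fx V A1 ⊔ fx V A2 : AddSubgroup V)) := by
          rw [← e1, ← e2]; ring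
      _ ≤ _ := Nat.mul_le_mul_right _ a1
  exact ⟨le_antisymm a2 (a4.trans (Nat.mul_le_mul_left _ a3)), (add_eq_of_le_of_card l
    (Nat.le_of_mul_le_mul_left (a2.trans a4) Nat.card_pos)).symm⟩

theorem Best.pt (hA : El A) (h : Best V A) (v : V) : ∃ A' ≤ A, (∀ a ∈ A, a • v - v ∈ fx V A') ∧
    Nat.card A' * Nat.card (fx V A') = Nat.card A * Nat.card (fx V A) ∧
    ∀ u ∈ fx V A', ∃ a ∈ A, a • v - v - u ∈ fx V A := by
  let A' : Subgroup G := A ⊓ ⨅ b : A, MulAction.stabilizer G ((b : G) • v - v)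
  have hA' : ∀ a, a ∈ A' ↔ a ∈ A ∧ ∀ b ∈ A, a • (b • v - v) = b • v - v := fun a => by
    simp [A', Subgroup.mem_iInf]
  have l : A' ≤ A := inf_le_left
  have hf : ∀ a ∈ A, a • v - v ∈ fx V A' := fun a ha b hb => ((hA' b).1 hb).2 a ha
  have hi : ∀ q q' : A ⧸ A'.subgroupOf A,
      ((q.out : G) • v - v) - ((q'.out : G) • v - v) ∈ fx V A → q = q' := fun q q' e => by
    rw [← q.out_eq', ← q'.out_eq', eq_comm, QuotientGroup.eq, mem_subgroupOf]
    refine (hA' _).2 ⟨(q'.out⁻¹ * q.out).2, fun b hb => ?_⟩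
    have := e b hb
    rw [sub_sub_sub_cancel_right, smul_sub, ← mul_smul, ← mul_smul, hA.comm hb q.out.2,
      hA.comm hb q'.out.2, mul_smul, mul_smul] at this
    rw [coe_mul, coe_inv, mul_smul, inv_smul_eq_iff, smul_sub, smul_sub, sub_eq_sub_iff_sub_eq_sub,
      this]
  have c1 := card_mul_le_of_inj (fun q : A ⧸ A'.subgroupOf A => hf _ q.out.2) hi
  have c2 : Nat.card A = Nat.card (A ⧸ A'.subgroupOf A) * Nat.card A' := by
    rw [card_eq_card_quotient_mul_card_subgroup (A'.subgroupOf A),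
      Nat.card_congr (subgroupOfEquivOfLe l).toEquiv]
  have c3 := h A' l
  rw [inf_eq_right.2 (fx_anti l)] at c1
  refine ⟨A', l, hf, le_antisymm c3 ?_, fun u hu => ?_⟩
  · rw [c2, mul_comm _ (Nat.card A'), mul_assoc]; exact Nat.mul_le_mul_left _ c1
  · obtain ⟨q, hq⟩ := onto_of_inj (fun q : A ⧸ A'.subgroupOf A => hf _ q.out.2) hi (by
      rw [inf_eq_right.2 (fx_anti l)]
      rw [c2, mul_comm _ (Nat.card A'), mul_assoc] at c3
      exact Nat.le_of_mul_le_mul_left c3 Nat.card_pos) hu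
    exact ⟨_, q.out.2, hq⟩

theorem Best.tim (m : Mod2 G V) (hA : El A) (h : Best V A) {D : AddSubgroup V}
    (hD : ∀ a ∈ A, ∀ v ∈ D, a • v ∈ D) (hn : ¬ D ≤ fx V A) :
    ∃ A' ≤ A, (∀ a ∈ A, ∀ v ∈ D, a • v - v ∈ fx V A') ∧ ¬ D ≤ fx V A' ∧
      Nat.card A' * Nat.card (fx V A') = Nat.card A * Nat.card (fx V A) := by
  let R : AddSubgroup V := AddSubgroup.closure {u | ∃ a ∈ A, ∃ v ∈ D, u = a • v - v}
  have hRD : R ≤ D := (AddSubgroup.closure_le _).2 (by
    rintro _ ⟨a, ha, v, hv, rfl⟩; exact D.sub_mem (hD a ha v hv) hv)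
  have hm : ∀ a ∈ A, ∀ v ∈ D, a • v - v ∈ R := fun a ha v hv =>
    AddSubgroup.subset_closure ⟨a, ha, v, hv, rfl⟩
  obtain ⟨A', ⟨l, h1, h2⟩, hmin⟩ := H7.exists_min_card (𝓒 := {A' : Subgroup G | A' ≤ A ∧
    Nat.card A' * Nat.card (fx V A') = Nat.card A * Nat.card (fx V A) ∧ fx V A' ≤ R ⊔ fx V A})
    ⟨A, le_rfl, rfl, le_sup_right⟩
  refine ⟨A', l, fun a ha v hv => ?_, fun e => ?_, h1⟩
  · obtain ⟨A2, l2, a1, a2, a3⟩ := h.pt hA v
    obtain ⟨b1, b2⟩ := h.inf hA l l2 h1 a2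
    have := eq_of_le_of_card_ge (inf_le_left : A' ⊓ A2 ≤ A') (hmin _ ⟨inf_le_left.trans l, b1,
      b2.le.trans (sup_le h2 fun u hu => by
        obtain ⟨b, hb, e⟩ := a3 u hu
        simpa using (R ⊔ fx V A).sub_mem (AddSubgroup.mem_sup_left (hm b hb v hv))
          (AddSubgroup.mem_sup_right e))⟩)
    exact fx_anti (this.ge.trans inf_le_right) (a1 a ha)
  · obtain ⟨C, c1, c2⟩ := exists_comm_lt m hA.isPGroup (R := R) (fun e => hn fun v hv a ha =>
      sub_eq_zero.1 (AddSubgroup.mem_bot.1 (e ▸ hm a ha v hv))) fun a ha v hv => by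
        simpa using R.add_mem (hm a ha v (hRD hv)) hv
    refine c1 ((AddSubgroup.closure_le _).2 ?_)
    rintro _ ⟨a, ha, v, hv, rfl⟩
    obtain ⟨r, hr, c, hc, rfl⟩ := AddSubgroup.mem_sup.1 (h2 (e hv))
    simpa [smul_add, hc a ha] using c2 a ha r hr

theorem exists_fix_inv {U : Type*} [AddCommGroup U] [Nontrivial U] (hU : ∀ u : U, u + u = 0)
    (f : U →+ U) (i : ∀ u, f (f u) = u) : ∃ u, u ≠ 0 ∧ f u = u := by
  obtain ⟨u, hu⟩ := exists_ne (0 : U)
  by_cases h : f u = u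
  · exact ⟨u, hu, h⟩
  · exact ⟨f u + u, fun e => h (add_right_cancel (e.trans (hU u).symm)), by
      rw [map_add, i, add_comm]⟩

theorem card_fix_eq {W R : Type*} [AddCommGroup W] [AddCommGroup R] [Finite W] [Finite R]
    (c : Nat.card W = Nat.card R) (β : W →+ R) (hβ : ∀ w, β w = 0 → w = 0) (fW : W →+ W)
    (fR : R →+ R) (hf : ∀ w, β (fW w) = fR (β w)) :
    Nat.card {w // fW w = w} = Nat.card {r // fR r = r} := by
  have hb := ((injective_iff_map_eq_zero β).2 hβ).bijective_of_nat_card_le c.ge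
  refine Nat.card_congr ((Equiv.ofBijective β hb).subtypeEquiv fun w => ?_)
  rw [Equiv.ofBijective_apply, ← hf, hb.1.eq_iff]

theorem card_le_fix_sq {R : Type*} [AddCommGroup R] [Finite R] (hR : ∀ r : R, r + r = 0)
    (f : R →+ R) (i : ∀ u, f (f u) = u) : Nat.card R ≤ Nat.card {r // f r = r} ^ 2 := by
  have h1 := AddSubgroup.card_mul_index (f + AddMonoidHom.id R).ker
  rw [AddSubgroup.index_ker] at h1
  rw [← h1, pow_two]
  refine Nat.mul_le_mul (Nat.card_le_card_of_injective (fun r => ⟨r.1,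
    add_right_cancel ((show f r + r = 0 from r.2).trans (hR r).symm)⟩) fun a b e =>
    Subtype.ext (congrArg Subtype.val e :)) (Nat.card_le_card_of_injective (fun r => ⟨r.1, by
      obtain ⟨_, r, rfl⟩ := r
      change f (f r + r) = f r + r
      rw [map_add, i, add_comm]⟩) fun a b e => Subtype.ext (congrArg Subtype.val e :))

theorem baer {U W R : Type*} [AddCommGroup U] [AddCommGroup W] [AddCommGroup R] [Finite U]
    [Finite W] [Finite R] [Nontrivial R] (hU : ∀ u : U, u + u = 0) (hW : ∀ w : W, w + w = 0)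
    (hR : ∀ r : R, r + r = 0) (cU : Nat.card U = Nat.card R) (cW : Nat.card W = Nat.card R)
    (β : U →+ W →+ R) (hβ : ∀ u w, β u w = 0 → u = 0 ∨ w = 0) (fU : U →+ U) (fW : W →+ W)
    (fR : R →+ R) (iU : ∀ u, fU (fU u) = u) (iW : ∀ w, fW (fW w) = w) (iR : ∀ r, fR (fR r) = r)
    (hf : ∀ u w, β (fU u) (fW w) = fR (β u w)) :
    Nat.card {u // fU u = u} = Nat.card {r // fR r = r} ∧
      Nat.card {w // fW w = w} = Nat.card {r // fR r = r} ∧ 1 < Nat.card {r // fR r = r} ∧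
      (Nat.card {r // fR r = r} = Nat.card R ∨ Nat.card {r // fR r = r} ^ 2 = Nat.card R) := by
  have n := Finite.one_lt_card (α := R)
  have : Nontrivial U := Finite.one_lt_card_iff_nontrivial.1 (cU ▸ n)
  have : Nontrivial W := Finite.one_lt_card_iff_nontrivial.1 (cW ▸ n)
  obtain ⟨u0, hu0, hu⟩ := exists_fix_inv hU fU iU
  obtain ⟨w0, hw0, hw⟩ := exists_fix_inv hW fW iW
  obtain ⟨r0, hr0, hr⟩ := exists_fix_inv hR fR iR
  have e1 := card_fix_eq cU (β.flip w0) (fun u e => (hβ u w0 e).resolve_right hw0) fU fR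
    fun u => by simpa [hw] using hf u w0
  have e2 := card_fix_eq cW (β u0) (fun w e => (hβ u0 w e).resolve_left hu0) fW fR
    fun w => by simpa [hu] using hf u0 w
  refine ⟨e1, e2, Finite.one_lt_card_iff_nontrivial.2 ⟨⟨r0, hr⟩, ⟨0, map_zero _⟩,
    fun e => hr0 (congrArg Subtype.val e)⟩, ?_⟩
  by_cases h : ∀ u, fU u = u
  · exact Or.inl (by rw [← e1, ← cU]; exact Nat.card_congr (Equiv.subtypeUnivEquiv h))
  obtain ⟨u, hu⟩ := not_forall.1 h
  refine Or.inr (le_antisymm ?_ (card_le_fix_sq hR fR iR))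
  rw [pow_two]
  nth_rewrite 1 [← e2]
  rw [← Nat.card_prod]
  refine Nat.card_le_card_of_injective (fun p => β u p.1 + p.2) ?_
  rintro ⟨w, r⟩ ⟨w', r'⟩ (e : β u w + r = β u w' + r')
  have a1 : β u (w - w') = r' - r := by rw [map_sub, sub_eq_sub_iff_add_eq_add, e, add_comm]
  have a2 : β (fU u - u) (w - w') = 0 := by
    have := hf u (w - w')
    rw [map_sub fW, w.2, w'.2, a1, map_sub fR, r.2, r'.2] at this
    rw [map_sub β, AddMonoidHom.sub_apply, this, a1, sub_self]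
  obtain rfl : w = w' := Subtype.ext (sub_eq_zero.1 ((hβ _ _ a2).resolve_left (sub_ne_zero.2 hu)))
  exact Prod.ext rfl (Subtype.ext (add_left_cancel e))

end Cfsg.Agent.PU
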