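import Cfsg.Agent.Lib.PU.G2
import Cfsg.Agent.Lib.PU.Tim

/-!
Offenders centralize the centres, `q > 2`.
-/

set_option autoImplicit false

namespace Cfsg.Agent.PU

open Cfsg Cfsg.FusionSystem Subgroup Cfsg.Agent.FT
open Cfsg.Agent.H6 (cj RealizedIn SylIn)
open Cfsg.Agent.H9 (U4)
open Cfsg.Agent.SP (sA sB sZ sX)
open scoped commutatorElement

variable {G V : Type*} [Group G] [AddCommGroup V] [DistribMulAction G V] [Finite G] [Finite V]
  {A B K M P W X Y Z : Subgroup G} {a b g x y z : G} {u v w : V}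


variable (V) in
/-- `[V,X]`. -/
def cmS (X : Subgroup G) : AddSubgroup V := ⨆ a : X, cm V (a : G)

theorem cm_le_cmS (ha : a ∈ X) : cm V a ≤ cmS V X := le_iSup (fun a : X => cm V (a : G)) ⟨a, ha⟩

theorem cmS_le {C : AddSubgroup V} (h : ∀ a ∈ X, ∀ v : V, a • v - v ∈ C) : cmS V X ≤ C :=
  iSup_le fun a => by rintro _ ⟨u, rfl⟩; exact h a a.2 u

theorem smul_mem_cmS (g : G) (h : v ∈ cmS V X) : g • v ∈ cmS V (cj g X) :=
  cmS_le (C := (cmS V (cj g X)).comap (DistribSMul.toAddMonoidHom V g))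
    (fun a ha u => cm_le_cmS (H6.conj_mem_cj ha) (smul_mem_cm g (mem_cm a u))) h

theorem smul_mem_cmS' (hg : cj g X = X) (h : v ∈ cmS V X) : g • v ∈ cmS V X := by
  have := smul_mem_cmS g h
  rwa [hg] at this

theorem card_le_two_mul (hx : x ∈ B) (hK : K ≤ B) (h : ∀ b ∈ B, b ∈ K ∨ b * x ∈ K) :
    Nat.card B ≤ 2 * Nat.card K := by
  rw [← Nat.card_eq_fintype_card.trans Fintype.card_bool, ← Nat.card_prod]
  refine Nat.card_le_card_of_surjective (fun p : Bool × K => if p.1 then ⟨p.2, hK p.2.2⟩ else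
    ⟨p.2 * x⁻¹, B.mul_mem (hK p.2.2) (B.inv_mem hx)⟩) fun b => ?_
  rcases h b b.2 with e | e
  exacts [⟨(true, ⟨_, e⟩), rfl⟩, ⟨(false, ⟨_, e⟩), Subtype.ext (by simp)⟩]

theorem mem_fx_closure (h : ∀ Z, Pt A Z → v ∈ fx V Z) : v ∈ fx V (normalClosure (A : Set G)) :=
  fun _ ha => (closure_le (MulAction.stabilizer G v)).2 (fun x hx => by
    obtain ⟨a, ha, hc⟩ := Group.mem_conjugatesOfSet_iff.1 hx
    obtain ⟨g, rfl⟩ := isConj_iff.1 hc
    exact h _ ⟨g, rfl⟩ _ (H6.conj_mem_cj ha)) ha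

namespace Geo
variable (h : Geo V A) (hq : 2 < Nat.card A) (hX : Pt A X) (hY : Pt A Y) (hl : Line V X Y)
include h hq hX hY hl

theorem cmS_zero (hE : fx V (normalClosure (A : Set G)) = ⊥) (h1 : v ∈ cmS V X)
    (h2 : v ∈ fx V Y) : v = 0 :=
  AddSubgroup.mem_bot.1 (hE.le (mem_fx_closure fun _ hZ => (h.g2 hq hX hY hl hZ).elim
    (fun o => (h.on_iff hX hY hl hZ).1 o ⟨cmS_le (h.pt_quad hX).quad h1, h2⟩) fun c =>
    cmS_le (fun _ => h.comm_mem hX hZ (cent_comm.1 (le_sup_left.trans c))) h1))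

theorem cmS_other (hZ : Pt A Z) (hne : Z ≠ X) (hc : Z ≤ 𝒞(X)) : cmS V Z ≤ fx V Y :=
  (h.g2 hq hX hY hl hZ).elim (fun o => (h.not_line hX hZ hc (hl.on_line h.toMod2 (h.pt_quad hX)
    (h.pt_quad hY) (h.pt_cc hX hY) on_left o hne.symm)).elim) fun c =>
    cmS_le fun _ => h.comm_mem hZ hY (le_sup_right.trans c)

end Geo

theorem Geo.off_big (h : Geo V A) (hq : 2 < Nat.card A)
    (hE : fx V (normalClosure (A : Set G)) = ⊥) (hP : IsPGroup 2 P) (hX : Pt A X)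
    (hXP : X ≤ P) (hB : B ≤ P) (he : El B) (ho : Nat.card V ≤ Nat.card B * Nat.card (fx V B)) :
    B ≤ 𝒩(X) := fun a ha => by
  have m := h.toMod2
  by_contra hn
  rw [← H6.cj_eq_self_iff] at hn
  obtain ⟨Y, hY, hl⟩ := h.exists_line hX
  have k : ∀ b ∈ B, cj b X ≠ X → ∀ v ∈ cmS V X, b • v ∈ fx V Y := fun b hb hn v hv =>
    h.cmS_other hq hX hY hl (hX.cj b) hn (h.comm_of_pgroup hX (hX.cj b) hP hXP
      (H6.cj_le_of_mem (hB hb) hXP)) (smul_mem_cmS b hv)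
  have k0 : ∀ v ∈ cmS V X, a • v = v → v = 0 := fun v hv e =>
    h.cmS_zero hq hX hY hl hE hv (e ▸ k a ha hn v hv)
  obtain ⟨x, hx, hx1⟩ := h.pt_ex hX
  have c1 : 2 < Nat.card (cmS V X) := (h.pt_card hX ▸ hq).trans_le
    (((h.pt_quad hX).card_cm hx hx1).ge.trans (AddSubgroup.card_le_of_le (cm_le_cmS hx)))
  have l : ∀ b ∈ B, cmS V (cj b X) ≤ ⨆ b : B, cmS V (cj (b : G) X) := fun b hb =>
    le_iSup (fun b : B => cmS V (cj (b : G) X)) ⟨b, hb⟩
  have l1 := l 1 B.one_mem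
  rw [H6.cj_one] at l1
  obtain ⟨B', hB', a1, a2, a3⟩ := (h.nov.best he ho).tim m he (D := ⨆ b : B, cmS V (cj (b : G) X))
    (fun b hb v hv => (show (⨆ b : B, cmS V (cj (b : G) X)) ≤ AddSubgroup.comap
      (DistribSMul.toAddMonoidHom V b) (⨆ b : B, cmS V (cj (b : G) X)) from iSup_le fun c u hu =>
      l _ (B.mul_mem hb c.2) (H6.cj_cj b c X ▸ smul_mem_cmS b hu)) hv) fun e => by
    rw [(AddSubgroup.eq_bot_iff_forall _).2 fun v hv => k0 v hv (e (l1 hv) a ha)] at c1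
    simp at c1
  have k1 : ∀ b ∈ B', (∀ v ∈ cmS V X, b • v = v) ∨ ∀ v ∈ cmS V X, b • v = a • v := fun b hb => by
    have e : ∀ v ∈ cmS V X, b • a • v - b • v = a • v - v := fun v hv => by
      rw [← smul_sub, a1 a ha v (l1 hv) b hb]
    by_cases h1 : cj b X = X
    · refine Or.inl fun v hv => sub_eq_zero.1 (k0 _ (sub_mem (smul_mem_cmS' h1 hv) hv) ?_)
      rw [smul_sub, ← mul_smul, he.comm ha (hB' hb), mul_smul, sub_eq_sub_iff_sub_eq_sub, e v hv]
    refine Or.inr fun v hv => ?_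
    have h2 : (b * a) • v - v = b • v - a • v := by
      rw [mul_smul, sub_eq_iff_eq_add.1 (e v hv), sub_eq_add_neg (b • v), m.neg, sub_eq_add_neg,
        sub_eq_add_neg, m.neg, add_right_comm, add_assoc (a • v), m.two, add_zero, add_comm]
    have h3 := sub_mem (k b (hB' hb) h1 v hv) (k a ha hn v hv)
    by_cases h4 : cj (b * a) X = X
    · exact sub_eq_zero.1 (h.cmS_zero hq hX hY hl hE (h2 ▸ sub_mem (smul_mem_cmS' h4 hv) hv) h3)
    · rw [h.cmS_zero hq hX hY hl hE hv (by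
        simpa only [sub_sub_cancel] using sub_mem (k _ (B.mul_mem (hB' hb) ha) h4 v hv) (h2.symm ▸ h3 :
          (b * a) • v - v ∈ fx V Y)), smul_zero, smul_zero]
  obtain ⟨b, hb, h1⟩ : ∃ b ∈ B', ∀ v ∈ cmS V X, b • v = a • v := by
    by_contra! hn
    refine a2 (iSup_le fun c v hv b hb => ?_)
    have := smul_mem_cmS (c : G)⁻¹ hv
    rw [H6.cj_inv_cj] at this
    have := (k1 b hb).resolve_right (fun e => (hn b hb).elim fun v hv => hv.2 (e v hv.1)) _ this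
    rwa [← mul_smul, he.comm (hB' hb) (inv_mem c.2), mul_smul, smul_left_cancel_iff] at this
  have c2 := card_le_two_mul hb (inf_le_left : B' ⊓ fixingSubgroup G (cmS V X : Set V) ≤ B')
    fun c hc => (k1 c hc).imp (fun e => ⟨hc, (mem_fixingSubgroup_iff _).2 e⟩) fun e =>
      ⟨B'.mul_mem hc hb, (mem_fixingSubgroup_iff _).2 fun v hv => by
        rw [he.comm (hB' hc) (hB' hb), mul_smul, e v hv, ← mul_smul, he.comm (hB' hb) ha, mul_smul,
          h1 v hv, ← mul_smul, he a ha, one_smul]⟩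
  have c3 := (h.nov.best (he.mono hB') (a3 ▸ ho)).sub (cmS V X)
    (inf_le_left : B' ⊓ fixingSubgroup G (cmS V X : Set V) ≤ B')
    fun v hv c hc => (mem_fixingSubgroup_iff _).1 hc.2 v hv
  rw [(AddSubgroup.eq_bot_iff_forall _).2 fun v (hv : v ∈ cmS V X ⊓ fx V B') =>
    k0 v hv.1 ((h1 v hv.1).symm.trans (hv.2 b hb)), AddSubgroup.card_bot, mul_one] at c3
  exact absurd (Nat.le_of_mul_le_mul_right (c3.trans c2) Nat.card_pos) (not_le.2 c1)

end Cfsg.Agent.PU
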