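import Cfsg.Agent.Lib.PU.FF1
import Cfsg.Agent.Lib.PU.Off2
import Cfsg.Agent.Lib.PU.Off4

/-!
The failure-of-factorization theorem.
-/

set_option autoImplicit false

namespace Cfsg.Agent.PU

open Cfsg Cfsg.FusionSystem Subgroup Cfsg.Agent.FT
open Cfsg.Agent.H6 (cj RealizedIn SylIn)
open Cfsg.Agent.H9 (U4)
open Cfsg.Agent.SP (sA sB sZ sX)
open scoped commutatorElement

variable {G V : Type*} [Group G] [AddCommGroup V] [DistribMulAction G V] [Finite G] [Finite V]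
  {A B K M P W X Y Z : Subgroup G} {a b g x y z : G} {u v w : V}


theorem exists_fix_ne (m : Mod2 G V) (hP : IsPGroup 2 P) {D : AddSubgroup V} (h0 : D ≠ ⊥)
    (hD : ∀ p ∈ P, ∀ v ∈ D, p • v ∈ D) : ∃ v ∈ D, v ≠ 0 ∧ v ∈ fx V P := by
  obtain ⟨v, h1, h2, h3⟩ := exists_fix_mod m hP (C := ⊥) (fun e => h0 (le_bot_iff.1 e))
    (fun p _ v hv => by rw [AddSubgroup.mem_bot.1 hv, smul_zero]; exact zero_mem _) hD
  exact ⟨v, h1, h2, fun p hp => sub_eq_zero.1 (h3 p hp)⟩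

section
variable (m : Mod2 G V) (hX : Quad V X) (hY : Quad V Y) (hc : Nat.card X = Nat.card Y)
  (h : Line V X Y) (h0 : fx V X ⊓ fx V Y = ⊥)
include m hX hY hc h h0

theorem Line.eq_one (hp : IsPGroup 2 (zpowers b)) (hn : b ∈ 𝒩(X)) (hn' : b ∈ 𝒩(Y))
    (hb : ∀ v ∈ fx V X, b • v = v) : b = 1 := by
  obtain ⟨v, h1, h2, h3⟩ := exists_fix_ne m hp (D := fx V Y)
    (fun e => h.symm.not_le m hY (e ▸ bot_le)) fun p hp v hv => smul_mem_fx (zpowers_le.2 hn' hp) hv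
  have h4 := h3 b (mem_zpowers b)
  have hc' : ∀ x ∈ X, b * x * b⁻¹ = x := fun x hx => congrArg Subtype.val
    (h.inj hX (fun e => h2 (h0.le ⟨e, h1⟩)) ⟨_, H6.conj_mem_of_mem_normalizer hn hx⟩ ⟨x, hx⟩ (by
      have := hb _ (hX.quad x hx v)
      rw [smul_sub, h4] at this
      simp [mul_smul, inv_smul_eq_iff.2 h4.symm, this]))
  obtain ⟨x, hx, hx1⟩ := (ne_bot_iff_exists_ne_one' _).1 hX.ne
  refine m.faith b fun u => ?_
  obtain ⟨d, hd, w, hw, rfl⟩ := exists_add_of_sup (h.sup m hX hY hc) u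
  rw [smul_add, hb d hd, sub_eq_zero.1 (AddSubgroup.mem_bot.1 (h0.le ⟨hX.cen x hx hx1 _ ?_,
    (fx V Y).sub_mem (smul_mem_fx hn' hw) hw⟩))]
  have := hb _ (hX.quad x hx w)
  rw [smul_sub, ← mul_smul, ← mul_inv_eq_iff_eq_mul.1 (hc' x hx)] at *
  rw [sub_eq_sub_iff_sub_eq_sub, this]

theorem Line.baer (hb : b * b = 1) (hn : b ∈ 𝒩(X)) (hv : ¬ fx V X ≤ fx V (zpowers b)) :
    ∃ r, 1 < r ∧ r ^ 2 = Nat.card X ∧ Nat.card (X ⊓ 𝒞[b] : Subgroup G) = r ∧
      Nat.card (fx V X ⊓ fx V (zpowers b) : AddSubgroup V) = r ∧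
      Nat.card (fx V (zpowers b)) ≤ r * r := by
  have c1 := h.card_inf m hX hY hc
  rw [h0, AddSubgroup.card_bot, mul_one] at c1
  have hz : ∀ v : V, v ∈ fx V (zpowers b) ↔ b • v = v := fun v => ⟨fun e => e b (mem_zpowers b),
    fun e _ h => zpowers_le.2 (show b ∈ MulAction.stabilizer G v from e) h⟩
  have : Nontrivial (fx V X) := Finite.one_lt_card_iff_nontrivial.1
    (c1 ▸ X.one_lt_card_iff_ne_bot.2 hX.ne)
  let fW : V ⧸ fx V X →+ V ⧸ fx V X := QuotientAddGroup.map _ _ (DistribSMul.toAddMonoidHom V b)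
    fun v hv => smul_mem_fx hn hv
  let fR : fx V X →+ fx V X := ((DistribSMul.toAddMonoidHom V b).comp (fx V X).subtype).codRestrict _
    fun v => smul_mem_fx hn v.2
  let fU : X →* X := ((MulAut.conj b).toMonoidHom.comp X.subtype).codRestrict X
    fun x => H6.conj_mem_of_mem_normalizer hn x.2
  let : CommGroup X := { (inferInstance : Group X) with
    mul_comm := fun a b => Subtype.ext ((hX.el m).comm a.2 b.2) }
  let β : Additive X →+ V ⧸ fx V X →+ fx V X := AddMonoidHom.mk' (fun x => QuotientAddGroup.lift _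
    ((DistribSMul.toAddMonoidHom V (x.toMul : G) - AddMonoidHom.id V).codRestrict _
      (hX.quad _ x.toMul.2)) fun v hv => Subtype.ext (sub_eq_zero.2 (hv _ x.toMul.2))) fun x y => by
    ext v
    change (x.toMul * y.toMul : G) • v - v = (x.toMul : G) • v - v + ((y.toMul : G) • v - v)
    rw [← hX.quad _ y.toMul.2 v _ x.toMul.2, smul_sub, mul_smul]; abel
  have hbb : ∀ v : V, b • b • v = v := fun v => by rw [← mul_smul, hb, one_smul]
  obtain ⟨e1, e2, e3, e4⟩ := PU.baer (U := Additive X) (W := V ⧸ fx V X) (R := fx V X)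
    (fun u => Subtype.ext (hX.el m _ u.toMul.2))
    (fun w => by obtain ⟨v, rfl⟩ := QuotientAddGroup.mk_surjective w
                 rw [← QuotientAddGroup.mk_add, m.two, QuotientAddGroup.mk_zero])
    (fun r => Subtype.ext (m.two _)) c1.symm (by
      have := AddSubgroup.card_eq_card_quotient_mul_card_addSubgroup (fx V X)
      rw [hX.card, ← c1] at this
      exact (Nat.eq_of_mul_eq_mul_right Nat.card_pos this).symm) β (fun u w e => by
      obtain ⟨v, rfl⟩ := QuotientAddGroup.mk_surjective w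
      exact or_iff_not_imp_left.2 fun hu => (QuotientAddGroup.eq_zero_iff _).2
        (hX.cen _ u.toMul.2 (fun e => hu (Subtype.ext e)) v (sub_eq_zero.1 (congrArg Subtype.val e))))
    fU.toAdditive fW fR (fun u => Subtype.ext (by
      change b * (b * u.toMul * b⁻¹) * b⁻¹ = u.toMul
      rw [inv_eq_of_mul_eq_one_right hb, ← mul_assoc, ← mul_assoc, hb, mul_assoc, hb]; simp))
    (fun w => by
      obtain ⟨v, rfl⟩ := QuotientAddGroup.mk_surjective w
      exact congrArg QuotientAddGroup.mk (hbb v))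
    (fun r => Subtype.ext (hbb r)) fun u w => by
      obtain ⟨v, rfl⟩ := QuotientAddGroup.mk_surjective w
      refine Subtype.ext ?_
      change (b * u.toMul * b⁻¹) • b • v - b • v = b • ((u.toMul : G) • v - v)
      simp [mul_smul, smul_sub]
  have e5 : Nat.card (fx V X ⊓ fx V (zpowers b) : AddSubgroup V) = Nat.card {r // fR r = r} :=
    Nat.card_congr ⟨fun v => ⟨⟨v, v.2.1⟩, Subtype.ext ((hz _).1 v.2.2)⟩,
      fun v => ⟨v.1, v.1.2, (hz _).2 (congrArg Subtype.val v.2)⟩, fun _ => rfl, fun _ => rfl⟩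
  refine ⟨_, e3, (e4.resolve_left fun e => hv (inf_eq_left.1 (add_eq_of_le_of_card inf_le_left
    (e5.trans e).ge))).trans c1, Eq.trans (Nat.card_congr (β := {u // fU.toAdditive u = u}) ⟨fun x => ⟨.ofMul ⟨x, x.2.1⟩, Subtype.ext
      (mul_inv_eq_iff_eq_mul.2 (mem_cent1.1 x.2.2).symm)⟩, fun u => ⟨u.1.toMul, u.1.toMul.2,
      mem_cent1.2 (mul_inv_eq_iff_eq_mul.1 (congrArg Subtype.val u.2 :)).symm⟩, fun _ => rfl,
      fun _ => rfl⟩) e1, e5, ?_⟩
  let π := (QuotientAddGroup.mk' (fx V X)).comp (fx V (zpowers b)).subtype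
  rw [← AddSubgroup.card_mul_index π.ker, AddSubgroup.index_ker]
  refine Nat.mul_le_mul (e5 ▸ Nat.card_le_card_of_injective (fun v => ⟨v.1.1,
    (QuotientAddGroup.eq_zero_iff _).1 v.2, v.1.2⟩) fun a b e =>
    Subtype.ext (Subtype.ext (congrArg Subtype.val e :))) (e2 ▸ Nat.card_le_card_of_injective
    (fun w => ⟨w.1, by
      obtain ⟨_, v, rfl⟩ := w
      exact congrArg QuotientAddGroup.mk ((hz _).1 v.2)⟩) fun a b e =>
    Subtype.ext (congrArg Subtype.val e :))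

theorem Line.off_le (nov : Nov V G) (he : El B) (ho : Nat.card V ≤ Nat.card B * Nat.card (fx V B))
    (hn : B ≤ 𝒩(X)) (hcen : ∀ b ∈ B, (∀ v ∈ fx V X, b • v = v) → b ∈ X) : fx V X ≤ fx V B := by
  by_contra hv
  have c1 := h.card_inf m hX hY hc
  rw [h0, AddSubgroup.card_bot, mul_one] at c1
  obtain ⟨B', l, a1, a2, a3⟩ := (nov.best he ho).tim m he
    (fun b hb v hv => smul_mem_fx (hn hb) hv) hv
  have hz : ∀ b ∈ B', ¬ fx V X ≤ fx V (zpowers b) → ∀ v ∈ fx V X, b • v = v → v ∈ fx V B' :=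
      fun b hb hv v h1 h2 => by
    obtain ⟨r, r1, r2, -, r4, -⟩ := h.baer m hX hY hc h0 (he b (l hb)) (hn (l hb)) hv
    let f : fx V X →+ V := (DistribSMul.toAddMonoidHom V b - AddMonoidHom.id V).comp (fx V X).subtype
    have c2 := AddSubgroup.card_mul_index f.ker
    rw [AddSubgroup.index_ker, c1, ← r2, pow_two] at c2
    have c3 : Nat.card f.ker ≤ r := r4 ▸ Nat.card_le_card_of_injective (fun v => ⟨v.1.1, v.1.2,
      fun _ h => zpowers_le.2 (show b ∈ MulAction.stabilizer G v.1.1 from sub_eq_zero.1 v.2) h⟩)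
      fun a b e => Subtype.ext (Subtype.ext (congrArg Subtype.val e :))
    have c4 : Nat.card f.range ≤ Nat.card (fx V X ⊓ fx V B' : AddSubgroup V) :=
      AddSubgroup.card_le_of_le (by
        rintro _ ⟨v, rfl⟩
        exact ⟨(fx V X).sub_mem (smul_mem_fx (hn (l hb)) v.2) v.2, a1 b (l hb) v v.2⟩)
    exact ((add_eq_of_le_of_card (inf_le_inf_left _ (fx_anti (zpowers_le.2 hb))) (r4.le.trans
      (Nat.le_of_mul_le_mul_left (c2.ge.trans (Nat.mul_le_mul c3 c4)) (by omega)))).ge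
      ⟨h1, fun _ h => zpowers_le.2 (show b ∈ MulAction.stabilizer G v from h2) h⟩).2
  obtain ⟨d, hd, hd'⟩ := SetLike.not_le_iff_exists.1 a2
  obtain ⟨b, hb, hb'⟩ : ∃ b ∈ B', ¬ fx V X ≤ fx V (zpowers b) := by
    by_contra! hn; exact hd' fun b hb => hn b hb hd b (mem_zpowers b)
  obtain ⟨r, r1, r2, r3, r4, r5⟩ := h.baer m hX hY hc h0 (he b (l hb)) (hn (l hb)) hb'
  have l2 := fx_anti (V := V) (zpowers_le.2 hb)
  have c2 := card_mul_le_of_inj (C := ⊥) (D := fx V X ⊓ fx V (zpowers b))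
    (fun q : B' ⧸ X.subgroupOf B' => ⟨(fx V X).sub_mem (smul_mem_fx (hn (l q.out.2)) hd) hd,
      l2 (a1 _ (l q.out.2) d hd)⟩) fun q q' e => by
    rw [← q.out_eq', ← q'.out_eq', eq_comm, QuotientGroup.eq, mem_subgroupOf]
    refine hcen _ (l (q'.out⁻¹ * q.out).2) fun v hv => by_contra fun h1 => hd' (hz _
      (q'.out⁻¹ * q.out).2 (fun e => h1 (e hv _ (mem_zpowers _))) d hd ?_)
    rw [sub_sub_sub_cancel_right, AddSubgroup.mem_bot, sub_eq_zero] at e
    rw [coe_mul, coe_inv, mul_smul, e, inv_smul_smul]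
  rw [inf_bot_eq, AddSubgroup.card_bot, mul_one, r4] at c2
  have c3 : Nat.card B' = Nat.card (B' ⧸ X.subgroupOf B') * Nat.card (X ⊓ B' : Subgroup G) := by
    rw [card_eq_card_quotient_mul_card_subgroup (X.subgroupOf B'), ← inf_subgroupOf_right,
      Nat.card_congr (subgroupOfEquivOfLe inf_le_right).toEquiv]
  have c4 : Nat.card (X ⊓ B' : Subgroup G) * Nat.card (fx V B') ≤ r * r := by
    by_cases e : X ⊓ B' = ⊥
    · rw [e, card_bot, one_mul]; exact (AddSubgroup.card_le_of_le l2).trans r5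
    obtain ⟨x, hx, hx1⟩ := (ne_bot_iff_exists_ne_one' _).1 e
    exact Nat.mul_le_mul (r3 ▸ card_le_of_le (inf_le_inf_left _ fun y hy =>
      mem_cent1.2 (he.comm (l hy) (l hb)))) (r4 ▸ AddSubgroup.card_le_of_le
      (le_inf (fun v hv => hX.cen x hx.1 hx1 v (hv x hx.2)) l2))
  rw [← a3, c3, mul_assoc, hX.card, c1, ← r2] at ho
  have := ho.trans (Nat.mul_le_mul c2 c4)
  nlinarith [Nat.mul_pos (Nat.mul_pos (one_pos.trans r1) (one_pos.trans r1)) (one_pos.trans r1)]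

end

theorem FF0.nov (h : FF0 V P B M) : Nov V G := h.geo.elim fun _ h => h.2.nov

theorem FF0.ff (h : FF0 V P B M) (𝒪 : Set (Subgroup G))
    (mem : ∀ A ∈ 𝒪, A ≤ B ∧ El A ∧ Nat.card V ≤ Nat.card A * Nat.card (fx V A))
    (ex : ∃ A ∈ 𝒪, A ≠ ⊥) (baum : ∀ v, (∀ A ∈ 𝒪, v ∈ fx V A) → v ∈ fx V B) :
    Quad V B ∧ (∀ A ∈ 𝒪, A = ⊥ ∨ A = B) ∧
      (∀ a ∈ B, a ≠ 1 → ∀ a' ∈ B, a' ≠ 1 → IsConj a a') ∧ (∃ g, cj g B ≠ B) ∧
      (∀ g, ∀ a ∈ B, a ≠ 1 → a ∈ cj g B → cj g B = B) ∧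
      ∀ g, cj g B ≠ B → Line V B (cj g B) ∧ B ⊔ cj g B = ⊤ := by
  have m := h.toMod2
  have pP := h.syl.isPGroup
  obtain ⟨A, hAP, hg⟩ := h.geo
  have hA : Pt A A := ⟨1, (H6.cj_one _).symm⟩
  have nM : ∀ N : Subgroup G, N ≠ ⊥ → IsPGroup 2 N → B ≤ 𝒩(N) → 𝒩(N) ≤ M := fun N h1 h2 h3 =>
    (h.uniq _ h3).resolve_left fun e => h1 (h.O2 N (normalizer_eq_top_iff.1 e) h2)
  have hEM : ¬ normalClosure (A : Set G) ≤ M := fun e => h.ne (eq_top_iff.2 fun g _ => by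
    have hs := h.syl.inf_of_normal (le_top : normalClosure (A : Set G) ≤ ⊤)
      (normalizer_eq_top _).ge
    obtain ⟨n, hn, h1⟩ := hs.frattini (normalizer_eq_top _).ge (mem_top g)
    exact (M.mul_mem_cancel_left (e hn)).1 (nM _ (fun e => hg.quad.ne (le_bot_iff.1
      ((le_inf hAP le_normalClosure).trans e.le))) hs.isPGroup (fun b hb => H6.cj_eq_self_iff.1 (by
      rw [H6.cj_inf, H6.cj_eq_self_of_mem (h.BP hb), H6.cj_eq_self_of_normal])) h1))
  have top : ∀ Z : Subgroup G, ¬ Z ≤ M → ∀ v ∈ fx V B, v ∈ fx V Z → v = 0 := fun Z hZ v h1 h2 =>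
    AddSubgroup.mem_bot.1 (h.fix.le (((h.uniq _ le_sup_left).resolve_right fun e =>
      hZ (le_sup_right.trans e)) ▸ fx_sup.ge ⟨h1, h2⟩))
  have hE : fx V (normalClosure (A : Set G)) = ⊥ := by_contra fun e => by
    obtain ⟨v, h1, h2, h3⟩ := exists_fix_ne m (pP.to_le h.BP) e
      fun p _ v hv => smul_mem_fx ((normalizer_eq_top _).ge trivial) hv
    exact h2 (top _ hEM v h3 h1)
  obtain ⟨Z, hZ, hZM⟩ : ∃ Z, Pt A Z ∧ ¬ Z ≤ M := by
    by_contra! hn
    refine hEM ((closure_le M).2 fun x hx => ?_)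
    obtain ⟨a, ha, hc⟩ := Group.mem_conjugatesOfSet_iff.1 hx
    obtain ⟨g, rfl⟩ := isConj_iff.1 hc
    exact hn _ ⟨g, rfl⟩ (H6.conj_mem_cj ha)
  obtain ⟨X, hX, hXP, hl⟩ : ∃ X, Pt A X ∧ X ≤ P ∧ Line V X Z := by
    by_contra! hn
    exact hZM (le_trans (cent_comm.1 (St.Wc_le_iff.2 fun g _ e => cent_comm.1 ((hg.tri ⟨g, rfl⟩
      hZ).resolve_right (hn _ ⟨g, rfl⟩ e)))) (cent_le_norm.trans (nM _ (fun e => hg.quad.ne
      (le_bot_iff.1 (((H6.cj_one _).ge.trans (St.le_Wc (mem_top 1)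
        ((H6.cj_one _).le.trans hAP))).trans e.le))) (pP.to_le (St.Wc_le _ _ _))
      (h.BP.trans (St.le_norm_Wc le_top le_normalizer)))))
  have qX := hg.pt_quad hX
  have qZ := hg.pt_quad hZ
  have cc := hg.pt_cc hX hZ
  have hq : 2 ≤ Nat.card A := A.one_lt_card_iff_ne_bot.2 hg.quad.ne
  have hr : ∀ W, Pt A W → W ≤ P → ∃ r ∈ cmS V W, r ≠ 0 ∧ r ∈ fx V B := fun W hW hWP => by
    obtain ⟨a, ha, ha1⟩ := hg.pt_ex hW
    obtain ⟨v, h1, h2, h3⟩ := exists_fix_ne m (pP.to_le (sSup_le fun O hO =>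
      (mem O hO).1.trans h.BP : sSup 𝒪 ≤ P)) (D := cmS V W) (fun e => ha1 (m.faith a fun v =>
      sub_eq_zero.1 (AddSubgroup.mem_bot.1 (e.le (cm_le_cmS ha (mem_cm a v))))))
      fun p hp v hv => smul_mem_cmS' (H6.cj_eq_self_iff.2 (sSup_le (fun O hO => hq.eq_or_lt.elim
        (fun e => hg.off_two e.symm pP hW hWP ((mem O hO).1.trans h.BP) (mem O hO).2.1
          (mem O hO).2.2) fun e => hg.off_big e hE pP hW hWP ((mem O hO).1.trans h.BP)
          (mem O hO).2.1 (mem O hO).2.2) hp)) hv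
    exact ⟨v, h1, h2, baum v fun O hO => fx_anti (le_sSup hO) h3⟩
  obtain ⟨r, r1, r2, r3⟩ := hr X hX hXP
  have all : ∀ W, Pt A W → On X Z W := fun W hW => by
    rcases hq.eq_or_lt with e | e
    · have c1 := card_sup_mul_inf (fx V B) (fx V Z)
      rw [(AddSubgroup.eq_bot_iff_forall _).2 fun v (hv : v ∈ fx V B ⊓ fx V Z) =>
        top Z hZM v hv.1 hv.2, AddSubgroup.card_bot, mul_one] at c1
      have c2 := AddSubgroup.card_le_card_addGroup (fx V B ⊔ fx V Z)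
      rw [c1, qZ.card, hg.pt_card hZ, ← e] at c2
      have c3 : Nat.card (fx V B) = 2 := le_antisymm (Nat.le_of_mul_le_mul_right c2 Nat.card_pos)
        ((fx V B).one_lt_card_iff_ne_bot.2 fun e => r2 (AddSubgroup.mem_bot.1 (e.le r3)))
      have k : ∀ W, Pt A W → ∀ a ∈ W, a ≠ 1 → cmS V W ≤ cm V a := fun W hW a ha ha1 =>
        cmS_le fun b hb v => by
          rcases eq_of_card_two ((hg.pt_card hW).trans e.symm) ha ha1 hb with rfl | rfl
          exacts [by simp, mem_cm _ _]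
      have u : ∀ W, Pt A W → W ≤ P → X = W := fun W hW hWP => by_contra fun hne => by
        obtain ⟨s, s1, s2, s3⟩ := hr W hW hWP
        obtain ⟨a, ha, ha1⟩ := hg.pt_ex hX
        obtain ⟨b, hb, hb1⟩ := hg.pt_ex hW
        exact hg.centre e.symm hX hW hne (hg.comm_of_pgroup hX hW pP hXP hWP) ha ha1 hb
          (add_le_of_card_two ((qX.card_cm ha ha1).trans ((hg.pt_card hX).trans e.symm))
            (k X hX a ha ha1 r1) r2 (add_le_of_card_two c3 s3 s2 (k W hW b hb hb1 s1) r3))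
      obtain ⟨W', h1, h2⟩ := hg.g1 hX hZ hl hW
      obtain ⟨g, -, h3⟩ := h.syl.exists_cj_le
        ((hg.pt_el hW).sup (hg.pt_el (hX.on hZ h1)) h2).isPGroup le_top
      rw [H6.cj_sup, sup_le_iff] at h3
      rwa [H6.cj_injective g ((u _ (hW.cj g) h3.1).symm.trans (u _ ((hX.on hZ h1).cj g) h3.2))]
    · have n1 : ∀ b ∈ B, cj b X = X := fun b hb => by_contra fun hn => r2
        (hg.cmS_zero e hX hZ hl hE r1 (hg.cmS_other e hX hZ hl (hX.cj b) hn (hg.comm_of_pgroup hX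
          (hX.cj b) pP hXP (H6.cj_le_of_mem (h.BP hb) hXP)) (r3 b hb ▸ smul_mem_cmS b r1)))
      have n2 := (h.uniq 𝒩(X ⊔ Z) fun b hb => H6.mem_normalizer_of_cj_le (by
        rw [H6.cj_sup, n1 b hb]
        exact sup_le le_sup_left ((hg.g2 e hX hZ hl (hZ.cj b)).resolve_right fun c => hg.not_line hX
          (hZ.cj b) (cent_comm.1 (le_sup_left.trans c)) (n1 b hb ▸ hl.cj b)).le)).resolve_right
        fun e => hZM ((le_sup_right.trans le_normalizer).trans e)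
      obtain ⟨k, rfl⟩ := hX
      obtain ⟨l, rfl⟩ := hW
      refine (hg.on_iff ⟨k, rfl⟩ hZ hl ⟨l, rfl⟩).2 (fx_sup.ge.trans (fx_anti ?_))
      rw [← H6.cj_eq_self_iff.2 (n2.ge (mem_top (l * k⁻¹))), H6.cj_sup, H6.cj_cj,
        inv_mul_cancel_right]
      exact le_sup_left
  have h0 : fx V X ⊓ fx V Z = ⊥ := le_bot_iff.1 fun v hv => hE.le (mem_fx_closure fun W hW =>
    (hg.on_iff hX hZ hl hW).1 (all W hW) hv)
  have ln : ∀ g, cj g X ≠ X → Line V X (cj g X) := fun g hn =>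
    hl.on_line m qX qZ cc on_left (all _ (hX.cj g)) hn.symm
  have hPN : ∀ b ∈ P, cj b X = X := fun b hb => by_contra fun hn => hg.not_line hX (hX.cj b)
    (hg.comm_of_pgroup hX (hX.cj b) pP hXP (H6.cj_le_of_mem hb hXP)) (ln b hn)
  have hXZ : X ≠ Z := fun e => hl.not_le m qX (e ▸ le_rfl)
  have cen : ∀ b ∈ P, (∀ v ∈ fx V X, b • v = v) → b ∈ X := fun b hb hv => by
    rcases all _ (hZ.cj b) with e | ⟨x, hx, e⟩
    · exact (hXZ (H6.cj_injective b ((hPN b hb).trans e.symm))).elim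
    have h1 := P.mul_mem (P.inv_mem (hXP hx)) hb
    rwa [← inv_mul_eq_one.1 (hl.eq_one m qX qZ cc h0 (pP.to_le (zpowers_le.2 h1))
      (H6.cj_eq_self_iff.1 (hPN _ h1)) (H6.cj_eq_self_iff.1 (by rw [← H6.cj_cj, e, H6.cj_inv_cj]))
      fun v h => by rw [mul_smul, hv v h, h _ (inv_mem hx)])]
  have hO : ∀ O ∈ 𝒪, fx V X ≤ fx V O := fun O hO => hl.off_le m qX qZ cc h0 hg.nov (mem O hO).2.1
    (mem O hO).2.2 (fun b hb => H6.cj_eq_self_iff.1 (hPN b (h.BP ((mem O hO).1 hb))))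
    fun b hb => cen b (h.BP ((mem O hO).1 hb))
  have hBX : B ≤ X := fun b hb => cen b (h.BP hb) fun v hv => baum v (fun O h => hO O h hv) b hb
  have hO' : ∀ O ∈ 𝒪, O = ⊥ ∨ O = X := fun O hO => or_iff_not_imp_left.2 fun hn => by
    obtain ⟨a, ha, ha1⟩ := (ne_bot_iff_exists_ne_one' _).1 hn
    exact eq_of_le_of_card_ge ((mem O hO).1.trans hBX) (Nat.le_of_mul_le_mul_right
      (qX.card.ge.trans ((mem O hO).2.2.trans (Nat.mul_le_mul_left _ (AddSubgroup.card_le_of_le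
        fun v hv => qX.cen a (hBX ((mem O hO).1 ha)) ha1 v (hv a ha))))) Nat.card_pos)
  obtain ⟨O, h1, h2⟩ := ex
  obtain rfl : B = X := le_antisymm hBX (((hO' O h1).resolve_left h2).ge.trans (mem O h1).1)
  refine ⟨qX, hO', fun a ha ha1 b hb hb1 => hg.isConj hX hX ha ha1 hb hb1, ?_,
    fun g a ha ha1 ha' => hg.eq_of_mem (hX.cj g) hX ha' ha ha1, fun g hn => ⟨ln g hn, ?_⟩⟩
  · obtain ⟨k, rfl⟩ := hX
    obtain ⟨l, rfl⟩ := hZ
    exact ⟨l * k⁻¹, by rw [H6.cj_cj, inv_mul_cancel_right]; exact hXZ.symm⟩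
  · rw [hg.sup_eq hX hZ hl on_left (all _ (hX.cj g)) hn.symm]
    exact (h.uniq _ le_sup_left).resolve_right fun e => hZM (le_sup_right.trans e)

end Cfsg.Agent.PU
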