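import Cfsg.Agent.Lib.PU.Tim
import Cfsg.Agent.Lib.PU.Geo

/-!
Minimal offenders.
-/

set_option autoImplicit false

namespace Cfsg.Agent.PU

open Cfsg Cfsg.FusionSystem Subgroup Cfsg.Agent.FT
open Cfsg.Agent.H6 (cj RealizedIn SylIn)
open Cfsg.Agent.H9 (U4)
open Cfsg.Agent.SP (sA sB sZ sX)
open scoped commutatorElement

variable {G V : Type*} [Group G] [AddCommGroup V] [DistribMulAction G V] [Finite G] [Finite V]
  {A B K M P W X Y Z : Subgroup G} {a b g x y z : G} {u v w : V}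


theorem fx_bot : fx V (⊥ : Subgroup G) = ⊤ := eq_top_iff.2 fun v _ a ha => by
  rw [mem_bot.1 ha, one_smul]

theorem smul_mem_fx (hn : g ∈ 𝒩(X)) (hv : v ∈ fx V X) : g • v ∈ fx V X := by
  rw [← H6.cj_eq_self_iff.2 hn]; exact smul_mem_fx_cj.2 hv

theorem Nov.uq (m : Mod2 G V) (h : Nov V G) (qX : Quad V X) (qY : Quad V Y)
    (cc : Nat.card X = Nat.card Y) (e : fx V X ≤ fx V Y) : X = Y := by
  have e' := add_eq_of_le_of_card e (qX.card_fx_eq qY cc).ge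
  have := h _ ((qX.el m).sup (qY.el m) (qX.comm_of_fx_eq m qY e'))
  rw [fx_sup, ← e', inf_idem, qX.card] at this
  have := eq_of_le_of_card_ge (le_sup_left : X ≤ X ⊔ Y) (Nat.le_of_mul_le_mul_right this Nat.card_pos)
  exact (eq_of_le_of_card_ge (le_sup_right.trans this.ge) cc.le).symm

theorem Geo.cj (h : Geo V A) (g : G) : Geo V (cj g A) := by
  obtain ⟨Y, ⟨k, rfl⟩, hl⟩ := h.exists_line ⟨g, rfl⟩
  exact ⟨h.toMod2, h.quad.cj g, h.nov, ⟨k * g⁻¹, by rwa [H6.cj_cj, inv_mul_cancel_right]⟩,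
    fun a ha ha1 b hb hb1 => h.isConj ⟨g, rfl⟩ ⟨g, rfl⟩ ha ha1 hb hb1, h.sol⟩

theorem mem_fx_Od (m : Mod2 G V) (h : ∀ l ∈ K, l • u - u ∈ fx V (St.Od K)) :
    u ∈ fx V (St.Od K) := fun a ha => (St.Od_le_iff (X := MulAction.stabilizer G u)).2
  (fun x hx ho => by
    obtain ⟨k, hk⟩ := H6.exists_sq_pow_eq_of_odd ho
    have h1 := h x hx x (St.mem_Od hx ho)
    have : x ^ 2 ∈ MulAction.stabilizer G u := by
      rw [smul_sub, sub_eq_iff_eq_add] at h1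
      rw [MulAction.mem_stabilizer_iff, pow_two, mul_smul, h1, ← sub_eq_zero,
        show x • u - u + x • u - u = (x • u - u) + (x • u - u) by abel, m.two]
    have := pow_mem this k
    rwa [← pow_mul, hk] at this) ha

/-- Elements of `K` that act trivially on `U` modulo `C`. -/
def trivMod (K : Subgroup G) (U : Set V) (C : AddSubgroup V)
    (h : ∀ k ∈ K, ∀ u ∈ U, ∀ l : G, l • u - u ∈ C → k • l • u - l • u - (k • u - u) ∈ C) :
    Subgroup G where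
  carrier := {l | l ∈ K ∧ ∀ u ∈ U, l • u - u ∈ C}
  one_mem' := ⟨K.one_mem, by simp⟩
  mul_mem' := fun {a b} ha hb => ⟨K.mul_mem ha.1 hb.1, fun u hu => by
    have := C.add_mem (C.add_mem (h a ha.1 u hu b (hb.2 u hu)) (ha.2 u hu)) (hb.2 u hu)
    rw [mul_smul]; convert this using 1; abel⟩
  inv_mem' := fun {a} ha => ⟨K.inv_mem ha.1, fun u hu => by
    have := C.neg_mem (C.add_mem (h _ (K.inv_mem ha.1) u hu a (ha.2 u hu)) (ha.2 u hu))
    rw [inv_smul_smul] at this; convert this using 1; abel⟩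

theorem conj_central (ha : a * a = 1) (hb : b * b = 1) (h : ¬ Odd (orderOf (a * b)))
    (haK : a ∈ K) (hbK : b ∈ K) : ∃ z, z ≠ 1 ∧ z * a = a * z ∧ z * b = b * z ∧
      (∃ e ∈ K, z * a = e * a * e⁻¹ ∨ z * a = e * b * e⁻¹) ∧
      ∃ e ∈ K, z * b = e * b * e⁻¹ ∨ z * b = e * a * e⁻¹ := by
  obtain ⟨m, -, h1, h2, h3⟩ := H6.exists_central_involution ha hb (Nat.not_odd_iff_even.1 h)
  refine ⟨_, H6.ne_one_of_orderOf_two h1, h2, h3, ?_⟩
  have k := fun j => K.pow_mem (K.mul_mem haK hbK) j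
  obtain ⟨j, rfl | rfl⟩ := Nat.even_or_odd' m
  · exact ⟨⟨_, k j, Or.inl (H6.pow_mul_left_even ha hb j)⟩, _, k j,
      Or.inl (H6.pow_mul_right_even ha hb j)⟩
  · exact ⟨⟨_, k _, Or.inr (H6.pow_mul_left_odd ha hb j)⟩, _, k j,
      Or.inr (H6.pow_mul_right_odd ha hb j)⟩

theorem cls_of_line {L : Subgroup G} (m : Mod2 G V) (nov : Nov V G) (hq : Quad V A) (hAM : A ≤ M)
    (hAL : A ≤ L) (hx : x ∈ L) (hxM : x ∉ M) (hl : ∀ x ∈ L, x ∉ M → Line V A (cj x A)) :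
    ∀ a ∈ A, a ≠ 1 → ∀ a' ∈ A, a' ≠ 1 → IsConj a a' := by
  have l2 : ∀ l ∈ L, ∀ k ∈ L, l⁻¹ * k ∉ M → Line V (cj l A) (cj k A) := fun l h1 k h2 h3 => by
    have := (hl _ (L.mul_mem (L.inv_mem h1) h2) h3).cj l
    rwa [H6.cj_cj, mul_inv_cancel_left] at this
  have cc : ∀ l k : G, Nat.card (cj l A) = Nat.card (cj k A) := fun l k => by
    rw [H6.card_cj, H6.card_cj]
  have di : ∀ l ∈ L, ∀ j ∈ L, ∀ k ∈ L, l⁻¹ * j ∉ M → fx V (cj l A ⊔ cj j A) ≤ fx V (cj k A) →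
      cj k A = cj l A ∨ Line V (cj l A) (cj k A) := fun l h1 j h2 k h3 h4 h5 => by
    refine or_iff_not_imp_right.2 fun hn => nov.uq m (hq.cj k) (hq.cj l) (cc _ _) fun v hv => ?_
    have h6 : l⁻¹ * k ∈ M := by_contra fun e => hn (l2 l h1 k h3 e)
    have l3 := l2 l h1 j h2 h4
    obtain ⟨W, rfl | ⟨_, ⟨s, hs, rfl⟩, rfl⟩, hv'⟩ := l3.spread m (hq.cj l) (hq.cj j) (cc _ _) v
    · exact hv'
    rw [H6.cj_cj] at hv'
    have l4 := l2 k h3 (l * s * l⁻¹ * j) (L.mul_mem (H6.cj_le_of_mem h1 hAL (H6.conj_mem_cj hs)) h2)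
      fun e => h4 (by simpa [mul_assoc] using M.mul_mem (M.inv_mem (hAM hs)) (M.mul_mem h6 e))
    have c1 := l4.card_inf m (hq.cj k) (hq.cj _) (cc _ _)
    rw [card_fx_cj, ← card_fx_cj l, l3.card_inf m (hq.cj l) (hq.cj j) (cc _ _), cc l k] at c1
    rw [fx_sup] at h5
    refine ((add_eq_of_le_of_card (le_inf h5 ?_) (Nat.eq_of_mul_eq_mul_left Nat.card_pos c1).ge).ge
      ⟨hv, hv'⟩).1
    rw [← H6.cj_cj]
    exact l3.on_le m (hq.cj l) (hq.cj j) (cc _ _) (Or.inr ⟨_, H6.conj_mem_cj hs, rfl⟩)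
  have hf : ∀ l ∈ L, ∀ j ∈ L, l⁻¹ * j ∉ M → ∀ a ∈ cj l A, a ≠ 1 → ∀ b ∈ cj j A, b ≠ 1 → ∀ z,
      z * a = a * z → (∃ e ∈ cj l A ⊔ cj j A, z * a = e * a * e⁻¹ ∨ z * a = e * b * e⁻¹) →
      z ∈ cj l A := fun l h1 j h2 h3 a ha ha1 b hb hb1 z hz ⟨e, he, h4⟩ => by
    have heL : e ∈ L := sup_le (H6.cj_le_of_mem h1 hAL) (H6.cj_le_of_mem h2 hAL) he
    obtain ⟨k, hk, h5, h6, h7⟩ : ∃ k ∈ L, fx V (cj l A ⊔ cj j A) ≤ fx V (cj k A) ∧
        z * a ∈ cj (e * k) A ∧ z * a ≠ 1 := by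
      rcases h4 with h4 | h4 <;> rw [h4]
      exacts [⟨l, h1, fx_anti le_sup_left, H6.cj_cj e l A ▸ H6.conj_mem_cj ha, by simpa using ha1⟩,
        ⟨j, h2, fx_anti le_sup_right, H6.cj_cj e j A ▸ H6.conj_mem_cj hb, by simpa using hb1⟩]
    rcases di l h1 j h2 _ (L.mul_mem heL hk) h3 (fun v hv => by
      rw [← H6.cj_cj, mem_fx_cj, hv _ (inv_mem he)]; exact h5 hv) with h8 | h8
    · exact ((cj l A).mul_mem_cancel_right ha).1 (h8 ▸ h6)
    · refine (h8.not_pgroup m (hq.cj _) (hq.cj _) ha ha1 h6 h7 ((El.sup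
        (((hq.cj l).el m).mono (zpowers_le.2 ha)) (((hq.cj _).el m).mono (zpowers_le.2 h6))
        (zpowers_le.2 (cent_zpowers.ge (mem_cent1.2 (by rw [← mul_assoc, ← hz]))))).isPGroup.to_le
        ((closure_le _).2 ?_))).elim
      rintro _ (rfl | rfl)
      exacts [mem_sup_left (mem_zpowers _), mem_sup_right (mem_zpowers _)]
  obtain ⟨b, hb, hb1⟩ := (ne_bot_iff_exists_ne_one' _).1 (hq.cj x).ne
  have ho : ∀ a ∈ A, a ≠ 1 → IsConj b a := fun a ha ha1 => by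
    rw [← H6.cj_one A] at ha
    refine H6.isConj_of_odd ((hq.cj 1).el m a ha) ((hq.cj x).el m b hb) (by_contra fun ho => ?_)
    obtain ⟨z, hz, h1, h2, h3, h4⟩ := conj_central ((hq.cj 1).el m a ha) ((hq.cj x).el m b hb) ho
      (mem_sup_left ha : a ∈ cj 1 A ⊔ cj x A) (mem_sup_right hb)
    have h5 := hf 1 L.one_mem x hx (by simpa) a ha ha1 b hb hb1 z h1 h3
    have h6 := hf x hx 1 L.one_mem (by simpa) b hb hb1 a ha ha1 z h2 (sup_comm (cj 1 A) _ ▸ h4)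
    exact (l2 1 L.one_mem x hx (by simpa)).not_pgroup m (hq.cj _) (hq.cj _) h5 hz h6 hz
      (((hq.cj x).el m).isPGroup.to_le ((closure_le _).2 (by simpa [Set.insert_subset_iff])))
  exact fun a ha ha1 a' ha' ha1' => (ho a ha ha1).symm.trans (ho a' ha' ha1')

theorem geo_of_LL {L T : Subgroup G} (m : Mod2 G V) (h : St.LL L M A T) (hA : El A)
    (hq : ∀ a ∈ A, ∀ v : V, a • v - v ∈ fx V A)
    (hmax : ∀ X : Subgroup G, El X → Nat.card X * Nat.card (fx V X) ≤ Nat.card A * Nat.card (fx V A))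
    (hmin : ∀ A0 ≤ A, Nat.card A * Nat.card (fx V A) ≤ Nat.card A0 * Nat.card (fx V A0) →
      A0 = ⊥ ∨ A0 = A) (hO : ¬ fx V T ≤ fx V (St.Od L)) (sol : Sol (⊤ : Subgroup G)) :
    Geo V A := by
  have hAL := h.A_le.trans h.M_le
  have hY : ∀ l ∈ L, ∀ v ∈ fx V (St.Od L), l • v ∈ fx V (St.Od L) := fun l hl v hv =>
    smul_mem_fx ((St.Od_normal L).norm hl) hv
  obtain ⟨U, ⟨hUT, hU, hUO⟩, hm⟩ := Set.exists_min_image {U : AddSubgroup V | U ≤ fx V T ∧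
    (∀ l ∈ L, ∀ u ∈ U, l • u ∈ U) ∧ ¬ U ≤ fx V (St.Od L)} (fun U => Nat.card U) (Set.toFinite _)
    ⟨_, le_rfl, fun l hl u hu => smul_mem_fx (h.T_norm.norm hl) hu, hO⟩
  have k1 : ∀ l ∈ L, ∀ u ∈ fx V T, (∀ a ∈ cj l A, a • u - u ∈ fx V (St.Od L)) → ∀ s ∈ L,
      s • u - u ∈ fx V (St.Od L) → u ∈ fx V (St.Od L) ∨ s ∈ cj l M := fun l hl u hu h1 s hs h2 => by
    let S := trivMod L {u} (fx V (St.Od L)) fun k hk u _ l h => by
      have := sub_mem (hY k hk _ h) h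
      rw [smul_sub] at this; convert this using 1; abel
    refine (h.min (cj l⁻¹ S) (H6.cj_le_iff_le_cj.1 fun a ha => ⟨H6.cj_le_of_mem hl hAL ha, by
      simpa using h1 a ha⟩) (H6.cj_le_iff_le_cj.1 ((h.T_norm.cj_eq hl).le.trans fun t ht =>
      ⟨h.T_norm.le ht, by simp [hu t ht]⟩)) (H6.cj_le_of_mem (inv_mem hl) fun _ h => h.1)).imp
      (fun e => mem_fx_Od m fun k hk => ?_) fun e => ?_
    · exact (((H6.cj_eq_self_of_mem hl).ge.trans (H6.cj_le_iff_le_cj.2 e.ge)) hk).2 u rfl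
    · have := H6.cj_le_iff_le_cj.1 e
      rw [inv_inv] at this
      exact this ⟨hs, by simpa using h2⟩
  have dec : ∀ x ∈ L, x ∉ M → U ≤ U ⊓ fx V A ⊔ U ⊓ fx V (cj x A) := fun x hx hxM => by
    have l : U ⊓ fx V A ⊔ U ⊓ fx V (cj x A) ≤ U := sup_le inf_le_left inf_le_left
    let S : Subgroup G :=
      { carrier := {l | l ∈ L ∧ ∀ u ∈ U, l • u - u ∈ U ⊓ fx V A ⊔ U ⊓ fx V (cj x A)}
        one_mem' := ⟨L.one_mem, by simp⟩
        mul_mem' := fun {a b} ha hb => ⟨L.mul_mem ha.1 hb.1, fun u hu => by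
          simpa [mul_smul] using add_mem (ha.2 _ (hU b hb.1 u hu)) (hb.2 u hu)⟩
        inv_mem' := fun {a} ha => ⟨L.inv_mem ha.1, fun u hu => by
          simpa using neg_mem (ha.2 _ (hU _ (L.inv_mem ha.1) u hu))⟩ }
    have e : S = L := (h.min S (fun a ha => ⟨hAL ha, fun u hu => AddSubgroup.mem_sup_left
      ⟨U.sub_mem (hU a (hAL ha) u hu) hu, hq a ha u⟩⟩) (fun t ht => ⟨h.T_norm.le ht, fun u hu => by
      simp [hUT hu t ht]⟩) fun _ h => h.1).resolve_right fun e => h.ti x hx hxM (le_trans (b := S)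
      (fun a ha => ⟨H6.cj_le_of_mem hx hAL ha, fun u hu => AddSubgroup.mem_sup_right
        ⟨U.sub_mem (hU a (H6.cj_le_of_mem hx hAL ha) u hu) hu, mem_fx_cj.2 (by
          simpa [smul_sub, mul_smul] using hq _ (H6.mem_cj.1 ha) (x⁻¹ • u))⟩⟩) e)
    exact (add_eq_of_le_of_card l (hm _ ⟨l.trans hUT, fun k hk u hu => by
      simpa using add_mem ((e.ge hk).2 u (l hu)) hu, fun e' => hUO fun u hu =>
      mem_fx_Od m fun k hk => e' ((e.ge hk).2 u hu)⟩)).ge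
  have fixm : ∀ a ∈ A, a ∉ T → ∀ u ∈ U, a • u - u ∈ fx V (St.Od L) →
      u ∈ fx V A ⊔ fx V (St.Od L) := fun a ha haT u hu h1 => by
    obtain ⟨x, hx, h2⟩ : ∃ x ∈ L, a ∉ cj x M := by
      by_contra! hn; exact haT (h.core a ha hn)
    obtain ⟨w, hw, w', hw', rfl⟩ := AddSubgroup.mem_sup.1 (dec x hx (fun e => h2
      ((H6.cj_eq_self_of_mem e).ge (h.A_le ha))) hu)
    exact AddSubgroup.add_mem_sup hw.2 ((k1 x hx w' (hUT hw'.1) (fun s hs => by simp [hw'.2 s hs])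
      a (hAL ha) (by simpa [smul_add, hw.2 a ha] using h1)).resolve_right h2)
  have both : ∀ x ∈ L, x ∉ M → ∀ w ∈ U, w ∈ fx V (cj x A) → w ∈ fx V A ⊔ fx V (St.Od L) →
      w ∈ fx V (St.Od L) := fun x hx hxM w hw h1 h2 => by
    obtain ⟨s, hs, hsM⟩ := SetLike.not_le_iff_exists.1 (h.ti x hx hxM)
    obtain ⟨d, hd, y, hy, rfl⟩ := AddSubgroup.mem_sup.1 h2
    refine (k1 1 L.one_mem _ (hUT hw) (fun a ha => ?_) s (H6.cj_le_of_mem hx hAL hs)
      (by simp [h1 s hs])).resolve_right (by rwa [H6.cj_one])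
    rw [H6.cj_one] at ha
    simpa [smul_add, hd a ha] using sub_mem (hY a (hAL ha) y hy) hy
  obtain ⟨x, hx, hxM⟩ := SetLike.not_le_iff_exists.1 h.ne
  obtain ⟨u, hu, hu'⟩ : ∃ u ∈ U, u ∉ fx V A ⊔ fx V (St.Od L) := by
    by_contra! hn
    refine hUO ((dec x hx hxM).trans (sup_le (fun w hw => ?_)
      fun w hw => both x hx hxM w hw.1 hw.2 (hn w hw.1)))
    simpa using hY _ (inv_mem hx) _ (both x hx hxM _ (hU x hx w hw.1) (smul_mem_fx_cj.2 hw.2)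
      (hn _ (hU x hx w hw.1)))
  have c1 := card_mul_le_of_inj (C := fx V A ⊔ fx V (St.Od L)) (fun q : A ⧸ T.subgroupOf A =>
    hU x hx _ (sub_mem (hU _ (hAL q.out.2) u hu) hu)) fun q q' e => by
      have h2 := (fx V A).sub_mem (hq _ q.out.2 u) (hq _ q'.out.2 u)
      rw [← smul_sub] at e
      have h3 := hY _ (inv_mem hx) _ (both x hx hxM _ (hU x hx _ (sub_mem (sub_mem
        (hU _ (hAL q.out.2) u hu) hu) (sub_mem (hU _ (hAL q'.out.2) u hu) hu)))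
        (smul_mem_fx_cj.2 h2) e)
      rw [inv_smul_smul, ← h2 _ (A.inv_mem q'.out.2)] at h3
      rw [← q.out_eq', ← q'.out_eq', eq_comm, QuotientGroup.eq, mem_subgroupOf]
      by_contra hn
      exact hu' (fixm _ (q'.out⁻¹ * q.out).2 hn u hu (by simpa [smul_sub, mul_smul] using h3))
  have c2 : Nat.card A = Nat.card (A ⧸ T.subgroupOf A) * Nat.card (T ⊓ A : Subgroup G) := by
    rw [card_eq_card_quotient_mul_card_subgroup (T.subgroupOf A), ← inf_subgroupOf_right,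
      Nat.card_congr (subgroupOfEquivOfLe inf_le_right).toEquiv]
  have hU0 : U ≤ fx V (T ⊓ A) := hUT.trans (fx_anti inf_le_left)
  have c3 := Best.sub (fun A' h' => hmax A' (hA.mono h')) U inf_le_right hU0
  have l : U ⊓ fx V A ≤ U ⊓ (fx V A ⊔ fx V (St.Od L)) := inf_le_inf_left _ le_sup_left
  have e1 := add_eq_of_le_of_card l (by
    rw [c2, mul_right_comm] at c3
    exact Nat.le_of_mul_le_mul_left (c1.trans (Nat.le_of_mul_le_mul_right c3 Nat.card_pos))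
      Nat.card_pos)
  have c4 : Nat.card A * Nat.card (fx V A) ≤
      Nat.card (T ⊓ A : Subgroup G) * Nat.card (U ⊔ fx V A : AddSubgroup V) := by
    refine Nat.le_of_mul_le_mul_right ?_ (Nat.card_pos (α := (U ⊓ fx V A : AddSubgroup V)))
    rw [mul_assoc _ (Nat.card (U ⊔ fx V A : AddSubgroup V)), card_sup_mul_inf, c2]
    rw [← e1] at c1
    calc _ = Nat.card (T ⊓ A : Subgroup G) * (Nat.card (A ⧸ T.subgroupOf A) *
          Nat.card (U ⊓ fx V A : AddSubgroup V) * Nat.card (fx V A)) := by ring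
      _ ≤ _ := by gcongr
  have e2 := (hmin _ inf_le_right (c4.trans (Nat.mul_le_mul_left _ (AddSubgroup.card_le_of_le
    (sup_le hU0 (fx_anti inf_le_right)))))).resolve_right fun e => h.not_le (e ▸ inf_le_left)
  have c5 := hmax ⊥ fun _ h => by simp [mem_bot.1 h]
  rw [fx_bot, card_bot, one_mul, AddSubgroup.card_top] at c5
  rw [e2, card_bot, one_mul] at c4
  have e3 := add_eq_top_of_card (c5.trans c4)
  have c6 := le_antisymm c5 (by rwa [e3, AddSubgroup.card_top] at c4)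
  have fix : ∀ a ∈ A, a ≠ 1 → ∀ v : V, (a • v - v ∈ U → a • v - v ∈ fx V (St.Od L)) →
      v ∈ fx V A := fun a ha h1 v hv => by
    obtain ⟨u, hu, d, hd, rfl⟩ := exists_add_of_sup e3 v
    rw [smul_add, hd a ha, add_sub_add_right_eq_sub] at hv
    exact add_mem (e1.ge ⟨hu, fixm a ha (fun e => h1 (mem_bot.1 (e2.le ⟨e, ha⟩))) u hu
      (hv (sub_mem (hU a (hAL ha) u hu) hu))⟩).2 hd
  have q : Quad V A := ⟨fun e => h.not_le (e ▸ bot_le), c6,
    fun a ha h1 v hv => fix a ha h1 v fun _ => by simp [hv], hq⟩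
  have ll : ∀ x ∈ L, x ∉ M → ∀ a ∈ A, ∀ v : V, a • v - v ∈ fx V (cj x A) → a • v = v :=
      fun x hx hxM a ha v hv => by
    by_cases h1 : a = 1
    · rw [h1, one_smul]
    exact fix a ha h1 v (fun e => both x hx hxM _ e hv (AddSubgroup.mem_sup_left (hq a ha v))) a ha
  have hl : ∀ x ∈ L, x ∉ M → Line V A (cj x A) := fun x hx hxM => ⟨ll x hx hxM, fun a ha v hv => by
    have := ll _ (inv_mem hx) (by simpa) _ (H6.mem_cj.1 ha) (x⁻¹ • v) (by
      rw [mul_smul, mul_smul, smul_inv_smul, ← smul_sub]; exact smul_mem_fx_cj.2 hv)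
    rwa [mul_smul, mul_smul, smul_inv_smul, smul_left_cancel_iff] at this⟩
  have nov : Nov V G := fun X hX => c6 ▸ hmax X hX
  exact ⟨m, q, nov, ⟨x, hl x hx hxM⟩, cls_of_line m nov q h.A_le hAL hx hxM hl, sol⟩

theorem FF0.geo (h : FF0 V P B M) : ∃ A ≤ P, Geo V A := by
  have m := h.toMod2
  obtain ⟨A1, ⟨e1, n1⟩, hmax⟩ := Set.exists_max_image {X : Subgroup G | El X ∧ X ≠ ⊥}
    (fun X => Nat.card X * Nat.card (fx V X)) (Set.toFinite _) (h.off.imp fun _ h => ⟨h.2.1, h.2.2.1⟩)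
  have hmax' : ∀ X : Subgroup G, El X →
      Nat.card X * Nat.card (fx V X) ≤ Nat.card A1 * Nat.card (fx V A1) := fun X hX => by
    by_cases e : X = ⊥
    · obtain ⟨A, -, a1, a2, a3⟩ := h.off
      rw [e, fx_bot, card_bot, one_mul, AddSubgroup.card_top]
      exact a3.trans (hmax A ⟨a1, a2⟩)
    exact hmax X ⟨hX, e⟩
  obtain ⟨A2, ⟨e2, n2, c2⟩, hmin⟩ := H7.exists_min_card (𝓒 := {X : Subgroup G | El X ∧ X ≠ ⊥ ∧
    Nat.card X * Nat.card (fx V X) = Nat.card A1 * Nat.card (fx V A1)}) ⟨A1, e1, n1, rfl⟩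
  have ec : ∀ g, El (cj g A2) := fun g a ha => by
    obtain ⟨a, ha, rfl⟩ := ha; exact H6.conj_mul_self (e2 a ha) g
  obtain ⟨k, -, hk⟩ := h.syl.exists_cj_le e2.isPGroup le_top
  obtain ⟨g, -, L, -, T, -, hL⟩ := St.exists_LL (syl_iff_sylIn.2 h.syl) h.PM le_top
    (fun e => h.ne (top_le_iff.1 e)) hk (Q := ⊥) ⟨bot_le, by rw [norm_bot]⟩ IsPGroup.of_bot (by
      refine inf_le_right.trans ((h.uniq _ (h.BP.trans (St.le_norm_Wc le_top le_normalizer))).resolve_left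
        fun e => n2 (H6.cj_eq_bot_iff.1 (le_bot_iff.1 ((H6.cj_one _).ge.trans
          ((St.le_Wc (mem_top 1) ((H6.cj_one _).le.trans hk)).trans (h.O2 _ (normalizer_eq_top_iff.1 e)
            (h.syl.isPGroup.to_le (St.Wc_le _ _ _))).le))))))
  refine ⟨_, hk, H6.cj_inv_cj g (cj k A2) ▸ Geo.cj ?_ g⁻¹⟩
  rw [H6.cj_cj] at hL ⊢
  have c3 : Nat.card (cj (g * k) A2) * Nat.card (fx V (cj (g * k) A2)) =
      Nat.card A1 * Nat.card (fx V A1) := by rw [H6.card_cj, card_fx_cj, c2]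
  have hm : ∀ A0 ≤ cj (g * k) A2, Nat.card (cj (g * k) A2) * Nat.card (fx V (cj (g * k) A2)) ≤
      Nat.card A0 * Nat.card (fx V A0) → A0 = ⊥ ∨ A0 = cj (g * k) A2 := fun A0 l c =>
    or_iff_not_imp_left.2 fun n => eq_of_le_of_card_ge l ((H6.card_cj _ _).le.trans
      (hmin _ ⟨(ec _).mono l, n, le_antisymm (hmax' _ ((ec _).mono l)) (c3 ▸ c)⟩))
  have hn' : ¬ ⊤ ≤ fx V (cj (g * k) A2) := fun e => n2 (H6.cj_eq_bot_iff.1 ((eq_bot_iff_forall _).2
    fun a ha => h.faith a fun v => e trivial a ha))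
  obtain ⟨A', l, a1, a2, a3⟩ := Best.tim m (ec (g * k)) (fun X hX => c3 ▸ hmax' X ((ec _).mono hX))
    (D := ⊤) (fun _ _ _ _ => trivial) hn'
  rw [(hm A' l a3.ge).resolve_left fun e => a2 (by rw [e, fx_bot])] at a1
  refine geo_of_LL m hL (ec _) (fun a ha v => a1 a ha v trivial) (c3 ▸ hmax') hm (fun e => ?_) h.sol
  obtain ⟨n, hn, h1⟩ := (h.syl.mono h.PM le_top).exists_cj_le
    (H6.isPGroup_sup_of_le_normalizer hL.A_p hL.T_p ((hL.A_le.trans hL.M_le).trans hL.T_norm.norm))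
    ((sup_le hL.A_le hL.T_le).trans inf_le_right)
  obtain ⟨v, -, h2, h3⟩ := exists_fix_mod m h.syl.isPGroup (C := ⊥) (D := ⊤)
    (fun e => hn' fun v hv a _ => by rw [AddSubgroup.mem_bot.1 (e hv), smul_zero])
    (fun p _ v hv => by rw [AddSubgroup.mem_bot.1 hv, smul_zero]; exact zero_mem _)
    fun _ _ _ _ => trivial
  have h4 : v ∈ fx V P := fun p hp => sub_eq_zero.1 (h3 p hp)
  have h5 := mem_fx_cj.1 (fx_anti h1 h4)
  have h6 : L ≤ MulAction.stabilizer G (n⁻¹ • v) := ((hL.min (St.Od L ⊔ (cj (g * k) A2 ⊔ T))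
    (le_sup_left.trans le_sup_right) (le_sup_right.trans le_sup_right) (sup_le (St.Od_le _)
      ((sup_le hL.A_le hL.T_le).trans hL.M_le))).resolve_right fun e =>
      hL.Od_not_le (le_sup_left.trans e)).ge.trans (sup_le (e (fx_anti le_sup_right h5)) h5)
  rcases h.uniq (MulAction.stabilizer G v) (h.BP.trans h4) with h7 | h7
  · exact h2 (h.fix.le fun a _ => h7.ge trivial)
  · refine hL.ne (le_inf le_rfl fun l hl => ?_)
    have := h7 (show n * l * n⁻¹ ∈ MulAction.stabilizer G v by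
      rw [MulAction.mem_stabilizer_iff, mul_smul, mul_smul, h6 hl, smul_inv_smul])
    simpa [mul_assoc] using M.mul_mem (M.mul_mem (M.inv_mem hn) this) hn

end Cfsg.Agent.PU
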