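import Cfsg.Agent.Lib.PU.Fr2

/-!
The frame.
-/

set_option autoImplicit false

namespace Cfsg.Agent.PU

open Cfsg Cfsg.FusionSystem Subgroup Cfsg.Agent.FT
open Cfsg.Agent.H6 (cj RealizedIn SylIn)
open Cfsg.Agent.H9 (U4)
open Cfsg.Agent.SP (sA sB sZ sX)
open scoped commutatorElement

variable {Ω : Type*} [Group Ω] {S : Subgroup Ω} [Finite S] {F F' : FusionSystem S}
  {A1 A2 : Subgroup Ω} {t : Ω} {φ : Ω → Ω}


omit [Finite S] in
theorem mul_mem_of_two {D A : Subgroup Ω} (h : D.relIndex A = 2) {a b : Ω} (ha : a ∈ A)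
    (hb : b ∈ A) (ha' : a ∉ D) (hb' : b ∉ D) : a * b ∈ D :=
  (mul_mem_iff_of_index_two h (a := ⟨a, ha⟩) (b := ⟨b, hb⟩)).2 (iff_of_false ha' hb')

theorem Str.two (h : Str F A1 A2 t φ) (hS : IsPGroup 2 S) (hF : F.IsSaturated 2)
    (i1 : (A1 ⊓ A2).relIndex A1 = 2) : ∃ c1 c2, c1 ∈ Cn F A1 A2 ∧ c2 ∈ Cn F A2 A1 ∧ c1 ≠ 1 ∧
      c2 ≠ 1 ∧ ((∀ c ∈ Cn F A1 A2, c = 1 ∨ c = c1) ∧ ∀ c ∈ Cn F A2 A1, c = 1 ∨ c = c2) ∧
      (∀ d ∈ A1 ⊓ A2, d = 1 ∨ d = c1 ∨ d = c2 ∨ d = c1 * c2) ∧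
      ∀ s ∈ S, s ∉ A1 ⊔ A2 → s * c1 * s⁻¹ = c2 ∧ s * c2 * s⁻¹ = c1 := by
  have j1 := (h.sd hS hF).s3.trans i1
  have j2 := (h.symm.sd hS hF).s3.trans (inf_comm A1 A2 ▸ h.toPair.relIndex_eq.trans i1)
  have l1 := h.toPair.cn_le (F := F)
  have l2 := h.symm.toPair.cn_le (F := F)
  have hi := h.cn_inf hS hF
  obtain ⟨c1, h1, h2⟩ : ∃ c ∈ Cn F A1 A2, c ≠ 1 := (bot_or_exists_ne_one _).resolve_left fun e => by
    have e1 := card_relIndex_inf (A1 ⊓ A2) A1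
    have e2 := card_relIndex_inf (Cn F A1 A2) (A1 ⊓ A2)
    rw [j1, e, bot_inf_eq, card_bot] at e2
    rw [i1, inf_of_le_left inf_le_left, e2] at e1
    exact h.big.ne' e1
  have n : ∀ c ∈ Cn F A1 A2, c ≠ 1 → c ∉ Cn F A2 A1 := fun c h1 h2 h3 => h2 (hi.le ⟨h1, h3⟩)
  have k1 : ∀ c ∈ Cn F A1 A2, c = 1 ∨ c = c1 := fun c hc => or_iff_not_imp_left.2 fun e =>
    (eq_inv_of_mul_eq_one_left (hi.le ⟨Subgroup.mul_mem _ hc h1, mul_mem_of_two j2 (l1 hc).symm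
      (l1 h1).symm (n c hc e) (n c1 h1 h2)⟩)).trans (h.el1.inv (l1 h1).1)
  obtain ⟨t1, t2⟩ := h.cj_cn h.tS h.not_mem
  have h3 : t * c1 * t⁻¹ ∈ Cn F A2 A1 := t1 ▸ H6.conj_mem_cj h1
  have h4 : t * c1 * t⁻¹ ≠ 1 := mt conj_eq_one_iff.1 h2
  have k2 : ∀ c ∈ Cn F A2 A1, c = 1 ∨ c = t * c1 * t⁻¹ := fun c hc => by
    rw [← t1, H6.mem_cj] at hc
    refine (k1 _ hc).imp (fun e => conj_eq_one_iff.1 (by rwa [inv_inv])) fun e => by rw [← e]; group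
  refine ⟨c1, _, h1, h3, h2, h4, ⟨k1, k2⟩, fun d hd => ?_, fun s hs hs' => ?_⟩
  · by_cases e : d ∈ Cn F A1 A2
    · exact (k1 d e).imp_right .inl
    refine .inr (.inr ((k1 _ (mul_mem_of_two j1 hd (l2 h3).symm e fun e => n _ e h4 h3)).imp
      (fun e => ?_) fun e => ?_)) <;> rw [← h.el1.inv (l2 h3).2]
    exacts [eq_inv_of_mul_eq_one_left e, eq_mul_inv_of_mul_eq e]
  · obtain ⟨s1, s2⟩ := h.cj_cn hs hs'
    exact ⟨(k2 _ (s1 ▸ H6.conj_mem_cj h1)).resolve_left (mt conj_eq_one_iff.1 h2),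
      (k1 _ (s2 ▸ H6.conj_mem_cj h3)).resolve_left (mt conj_eq_one_iff.1 h4)⟩

theorem Str.exists_inv (h : Str F A1 A2 t φ) {c1 c2 : Ω} (d1 : c1 ∈ A1) (d2 : c2 ∈ A1)
    (hne : c1 ≠ c2) (hD : ∀ d ∈ A1 ⊓ A2, d = 1 ∨ d = c1 ∨ d = c2 ∨ d = c1 * c2)
    (hs : ∀ s ∈ S, s ∉ A1 ⊔ A2 → s * c1 * s⁻¹ = c2 ∧ s * c2 * s⁻¹ = c1) :
    ∃ u ∈ S, u ∉ A1 ⊔ A2 ∧ u * u = 1 := by
  obtain ⟨a, ha, b, hb, e⟩ := h.toPair.exists_mul (h.mul_mem h.tS h.not_mem h.tS h.not_mem)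
  obtain ⟨s, hs'⟩ : ∃ s, s = t * a := ⟨_, rfl⟩
  have h1 : s ∈ S := hs' ▸ S.mul_mem h.tS (h.le1 ha)
  have h2 : s ∉ A1 ⊔ A2 := hs' ▸ mt ((A1 ⊔ A2).mul_mem_cancel_right (mem_sup_left ha)).1 h.not_mem
  have h3 : s * s ∈ A2 := by
    rw [show s * s = t * a * t⁻¹ * (a * b * a⁻¹) by rw [← e, h.el1.inv ha, hs']; group]
    exact A2.mul_mem (h.t1 ▸ H6.conj_mem_cj ha)
      (conj_mem_of_mem_normalizer (h.toPair.symm.norm1 (mem_sup_right ha)) hb)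
  have h4 : s * (s * s) * s⁻¹ = s * s := by group
  obtain ⟨h5, h6⟩ := hs s h1 h2
  rcases hD _ ⟨h4 ▸ (h.swap h1 h2).2 ▸ H6.conj_mem_cj h3, h3⟩ with e | e | e | e
  · exact ⟨s, h1, h2, e⟩
  · exact (hne (by rw [← h5, ← e, h4])).elim
  · exact (hne (by rw [← h6, ← e, h4])).elim
  · refine ⟨s * c1, S.mul_mem h1 (h.le1 d1),
      mt ((A1 ⊔ A2).mul_mem_cancel_right (mem_sup_left d1)).1 h2, ?_⟩
    rw [show s * c1 * (s * c1) = s * c1 * s⁻¹ * (s * s) * c1 by group, h5, e, mul_assoc, mul_assoc,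
      ← mul_assoc]
    exact h.el1 _ (A1.mul_mem d2 d1)

theorem Str.frame_two (h : Str F A1 A2 t φ) (hS : IsPGroup 2 S) (hF : F.IsSaturated 2)
    (K : Type*) [Field K] [Fintype K] [CharP K 2] (hK : Fintype.card K = (A1 ⊓ A2).relIndex A1)
    (hq : Fintype.card K = 2) :
    ∃ (w : U4 K →* Ω) (t' : Ω), Par true (1 : K ≃+* K) ⊥ ∧ Fr F true 1 ⊥ w t' ∧
      w.range = A1 ⊔ A2 := by
  classical
  have h01 : ∀ x : K, x = 0 ∨ x = 1 := fun x => by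
    obtain ⟨y, -, hy⟩ := (Nat.card_eq_two_iff' (0 : K)).1 (Nat.card_eq_fintype_card.trans hq)
    exact or_iff_not_imp_left.2 fun e => (hy x e).trans (hy 1 one_ne_zero).symm
  have sq : ∀ x : K, x ^ 2 = x := fun x => by rcases h01 x with rfl | rfl <;> simp
  have hu1 : ∀ l : Kˣ, l = 1 := fun l => Units.ext ((h01 l).resolve_left l.ne_zero)
  have i1 : (A1 ⊓ A2).relIndex A1 = 2 := hK ▸ hq
  obtain ⟨c1, c2, h1, h2, h3, h4, h5, hD, hs⟩ := h.two hS hF i1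
  obtain ⟨H, t', hd⟩ := h.exists_HD hS hF
  obtain ⟨ci, cy, ζ, sd⟩ := h.side hS hF hd K hK
  obtain ⟨l, l1, l2, l3⟩ := sd.low 1
  have d1 := h.toPair.cn_le h1
  have d2 := (inf_comm A2 A1).le (h.symm.toPair.cn_le h2)
  have n2 : c2 ∉ Cn F A1 A2 := fun e => h4 ((h.cn_inf hS hF).le ⟨e, h2⟩)
  obtain ⟨u, hu, uB, uu⟩ := h.exists_inv d1.1 d2.1 (fun e => n2 (e ▸ h1)) hD hs
  obtain ⟨k1, k2⟩ := (sd.cn _ d1.1).1 h1
  have k3 := (sd.ci_zero _ d2.1).2 d2.2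
  have k4 : cy c2 = 1 := (h01 _).resolve_left fun e => n2 ((sd.cn _ d2.1).2 ⟨k3, e⟩)
  have m1 := l1.mapsTo _ d2.1
  obtain ⟨x, hx⟩ : ∃ x, x = l c2 * c2 * c1 := ⟨_, rfl⟩
  have x1 : x ∈ A1 := hx ▸ A1.mul_mem (A1.mul_mem m1 d2.1) d1.1
  have x2 : x ∉ A2 := fun e => one_ne_zero (α := K) (by
    rw [← (sd.ci_zero x x1).2 e, hx, sd.ci_mul _ (A1.mul_mem m1 d2.1) _ d1.1, sd.ci_mul _ m1 _ d2.1,
      (l3 _ d2.1).2, k1, k3, k4]; simp)
  have x3 : l x = x := l2 x x1 (by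
    rw [hx, sd.cy_mul _ (A1.mul_mem m1 d2.1) _ d1.1, sd.cy_mul _ m1 _ d2.1, (l3 _ d2.1).1, k2, k4,
      CharTwo.add_self_eq_zero, add_zero])
  obtain ⟨s1, s2⟩ := h.swap hu uB
  obtain ⟨y, hy⟩ : ∃ y, y = u * x * u⁻¹ := ⟨_, rfl⟩
  have y2 : y ∈ A2 := hy ▸ s1 ▸ H6.conj_mem_cj x1
  have y1 : y ∉ A1 := fun e => x2 (by rwa [hy, ← s2, H6.conj_mem_cj_iff] at e)
  have ui : u⁻¹ = u := inv_eq_of_mul_eq_one_right uu
  have xy : ⁅x, y⁆ = c1 * c2 := by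
    have n1 : ⁅x, y⁆ ≠ 1 := fun e => (h.nons x x1 y y2
      (commutatorElement_eq_one_iff_mul_comm.1 e)).elim x2 y1
    rcases hD _ (h.comm x x1 y y2) with e | e | e | e
    · exact (n1 e).elim
    · exact (n1 ((h.sd hS hF).s2 x1 y2 (e ▸ h1))).elim
    · have := (h.symm.sd hS hF).s2 y2 x1 (by
        rw [← commutatorElement_inv, e]; exact inv_mem h2)
      exact (n1 (by rw [← commutatorElement_inv, this, inv_one])).elim
    · exact e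
  let P : Ω → K → Ω := fun g k => if k = 0 then 1 else g
  have P0 : ∀ g, P g 0 = 1 := fun g => if_pos rfl
  have P1 : ∀ g, P g 1 = g := fun g => if_neg one_ne_zero
  have Pm : ∀ {g} {A : Subgroup Ω}, g ∈ A → ∀ k, P g k ∈ A := fun hg k => by
    rcases h01 k with rfl | rfl
    exacts [P0 _ ▸ one_mem _, (P1 _).symm ▸ hg]
  have Pa : ∀ {g}, g * g = 1 → ∀ k k', P g (k + k') = P g k * P g k' := fun hg k k' => by
    rcases h01 k with rfl | rfl <;> rcases h01 k' with rfl | rfl <;>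
      simp [P0, P1, hg, CharTwo.add_self_eq_zero]
  have Pc : ∀ g k, u * P g k * u⁻¹ = P (u * g * u⁻¹) k := fun g k => by
    rcases h01 k with rfl | rfl <;> simp [P0, P1]
  have Pz : ∀ {g} {A : Subgroup Ω}, g ∉ A → ∀ k, P g k ∈ A → k = 0 := fun hg k e =>
    (h01 k).resolve_right fun e' => hg (by rwa [e', P1] at e)
  have cen : ∀ {g}, g ∈ A1 ⊔ A2 → ∀ {d}, d ∈ A1 ⊓ A2 → ∀ k k' r,
      P g k * (P d k' * r) = P d k' * (P g k * r) := fun hg _ hd k k' r => by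
    rw [← mul_assoc, ← h.toPair.cent (Pm hg k) _ (Pm hd k'), mul_assoc]
  have a1 := Pa (h.el1 _ d1.1)
  have a2 := Pa (h.el1 _ d2.1)
  have a3 := Pa (h.el2 _ y2)
  have a4 := Pa (h.el1 _ x1)
  have b21 := cen (mem_sup_left d2.1) d1
  have b31 := cen (mem_sup_right y2) d1
  have b41 := cen (mem_sup_left x1) d1
  have b32 := cen (mem_sup_right y2) d2
  have b42 := cen (mem_sup_left x1) d2
  have b43 : ∀ i z r, P x i * (P y z * r) = P c1 (i * z) * (P c2 (i * z) * (P y z * (P x i * r))) :=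
    fun i z r => by
      rcases h01 i with rfl | rfl <;> rcases h01 z with rfl | rfl <;> simp [P0, P1]
      rw [← mul_assoc c1, ← xy, commutatorElement_def]
      group
  let w : U4 K →* Ω := MonoidHom.mk' (fun v => P c1 v.x * (P c2 v.y * (P y v.z * P x v.i)))
    fun v v' => by
      simp only [U4.mul_def, CharTwo.two_eq_zero, zero_mul, add_zero, sq, a1, a2, a3, a4, mul_assoc,
        b21, b31, b41, b32, b42, b43]
  have hw : ∀ v, w v = P c1 v.x * (P c2 v.y * (P y v.z * P x v.i)) := fun _ => rfl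
  have r1 : A1 ⊓ A2 ≤ w.range := fun d hd => by
    rcases hD d hd with rfl | rfl | rfl | rfl
    exacts [one_mem _, ⟨⟨1, 0, 0, 0⟩, by simp [hw, P0, P1]⟩, ⟨⟨0, 1, 0, 0⟩, by simp [hw, P0, P1]⟩,
      ⟨⟨1, 1, 0, 0⟩, by simp [hw, P0, P1]⟩]
  have i2 : (A1 ⊓ A2).relIndex A2 = 2 := h.toPair.relIndex_eq.trans i1
  have r2 : ∀ {A : Subgroup Ω}, (A1 ⊓ A2).relIndex A = 2 → ∀ x ∈ A, x ∉ A1 ⊓ A2 → x ∈ w.range →
      A ≤ w.range := fun i x hx hx' hr a ha => by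
    by_cases e : a ∈ A1 ⊓ A2
    · exact r1 e
    · exact (w.range.mul_mem_cancel_right hr).1 (r1 (mul_mem_of_two i ha hx e hx'))
  have hr : w.range = A1 ⊔ A2 := le_antisymm (fun _ ⟨v, e⟩ => e ▸ Subgroup.mul_mem _
    (Pm (mem_sup_left d1.1) _) (Subgroup.mul_mem _ (Pm (mem_sup_left d2.1) _) (Subgroup.mul_mem _
      (Pm (mem_sup_right y2) _) (Pm (mem_sup_left x1) _))))
    (sup_le (r2 i1 x x1 (fun e => x2 e.2) ⟨⟨0, 0, 0, 1⟩, by simp [hw, P0, P1]⟩)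
      (r2 i2 y y2 (fun e => y1 e.1) ⟨⟨0, 0, 1, 0⟩, by simp [hw, P0, P1]⟩))
  have hB : w.range ≤ S := hr ▸ sup_le h.le1 h.le2
  have wB : (sB K).map w ≤ A1 := fun _ ⟨v, hv, e⟩ => e ▸ A1.mul_mem (Pm d1.1 _) (A1.mul_mem
    (Pm d2.1 _) (A1.mul_mem (by rw [show v.z = 0 from hv, P0]; exact one_mem _) (Pm x1 _)))
  have dg1 : ∀ v : U4 K, dg 1 v = v := fun v => by rw [map_one]; rfl
  refine ⟨w, u, ⟨fun x => (sq x).symm, by simp, fun s hs => ?_, fun l => ?_, .inl rfl⟩,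
    ⟨fun v => ⟨fun e => ?_, fun ⟨e1, e2, e3, e4⟩ => by simp [hw, e1, e2, e3, e4 rfl, P0]⟩,
    fun g => ⟨fun hg => ?_, ?_⟩, hr ▸ uB, uu, fun v => ?_, fun f hf => ?_, ?_, ?_, fun s => ?_⟩, hr⟩
  · rw [mem_bot.1 hs]
    exact Tor.ext (hu1 _) (hu1 _) rfl
  · exact Tor.ext (hu1 _) (hu1 _) rfl
  · rw [hw] at e
    have e4 : v.i = 0 := Pz x2 _ (by
      rw [← A2.mul_mem_cancel_left (Pm y2 v.z), ← A2.mul_mem_cancel_left (Pm d2.2 v.y),
        ← A2.mul_mem_cancel_left (Pm d1.2 v.x), e]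
      exact one_mem _)
    rw [e4, P0, mul_one] at e
    have e3 : v.z = 0 := Pz y1 _ (by
      rw [← A1.mul_mem_cancel_left (Pm d2.1 v.y), ← A1.mul_mem_cancel_left (Pm d1.1 v.x), e]
      exact one_mem _)
    rw [e3, P0, mul_one] at e
    have e2 : v.y = 0 := Pz n2 _ (by
      rw [← (Cn F A1 A2).mul_mem_cancel_left (Pm h1 v.x), e]
      exact one_mem _)
    rw [e2, P0, mul_one] at e
    exact ⟨e2, e3, e4, fun _ => Pz (A := ⊥) h3 _ e⟩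
  · by_cases e : g ∈ A1 ⊔ A2
    · obtain ⟨v, hv⟩ := hr.ge e
      exact ⟨v, .inl hv.symm⟩
    · obtain ⟨v, hv⟩ := hr.ge (h.mul_mem hg e hu uB)
      exact ⟨v, .inr (by rw [hv, mul_assoc, uu, mul_one])⟩
  · rintro ⟨v, rfl | rfl⟩
    exacts [hB ⟨v, rfl⟩, S.mul_mem (hB ⟨v, rfl⟩) hu]
  · have e : u * y * u⁻¹ = x := by rw [hy, ui, ← mul_assoc, ← mul_assoc, uu, mul_assoc _ u, uu]; simp
    rw [show u * w v * u = u * w v * u⁻¹ by rw [ui], hw, hw, ← conj_mul, ← conj_mul, ← conj_mul, Pc,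
      Pc, Pc, Pc, (hs u hu uB).1, (hs u hu uB).2, e, ← hy, ← mul_one (P y v.i), b43, mul_one]
    simp only [sw, RingAut.one_apply, inv_one, if_true, sq, a1, a2, mul_assoc, b21,
      mul_comm v.z]
  · rw [hr] at hf
    obtain ⟨s, hs, α, hα, e⟩ := hd.dec f hf
    have hi := isIso_of_mem_autGroup (sup_le h.le1 h.le2) (hd.le hα)
    obtain ⟨j1, j2⟩ := (h.toPair.iso_cases hi).resolve_right fun e =>
      h.toPair.not_le fun a ha => by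
        obtain ⟨a, ha', rfl⟩ := ((hi.mor.mono le_sup_left).isIso_self (hd.pres α hα)).surj a ha
        exact e.1.mapsTo a ha'
    have f1 : equivFun α c1 = c1 := (h5.1 _ (cn_map j1 h1)).resolve_left
      (mt (j1.mor.eq_one_iff d1.1).1 h3)
    have f2 : equivFun α c2 = c2 := (h5.2 _ (cn_map j2 h2)).resolve_left
      (mt (j1.mor.eq_one_iff d2.1).1 h4)
    have j3 := IsIso.inf hi.mor le_sup_left le_sup_right j1 j2
    have k : ∀ {A : Subgroup Ω}, (A1 ⊓ A2).relIndex A = 2 → A ≤ A1 ⊔ A2 →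
        F.IsIso A A (equivFun α) → ∀ a ∈ A, a⁻¹ * equivFun α a ∈ A1 ⊓ A2 := fun i hA j a ha => by
      by_cases e : a ∈ A1 ⊓ A2
      · exact Subgroup.mul_mem _ (inv_mem e) (j3.mapsTo a e)
      · exact mul_mem_of_two i (inv_mem ha) (j.mapsTo a ha) (mt (inv_mem_iff).1 e)
          (mt (j3.mem_iff hi.mor inf_le_sup (hA ha)).1 e)
    have := finite_of_le (sup_le h.le1 h.le2)
    obtain ⟨n, hn⟩ := H7.exists_pow_eq_one_of_two_step (hS.to_le (sup_le h.le1 h.le2))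
      (Q := A1 ⊓ A2) (α := α) (fun d _ hd => by
        rcases hD d hd with rfl | rfl | rfl | rfl
        exacts [j1.mor.map_one, f1, f2, by rw [j1.mor.map_mul d1.1 d2.1, f1, f2]]) fun g hg => by
        obtain ⟨a, ha, b, hb, rfl⟩ := h.toPair.exists_mul hg
        have e := k i1 le_sup_left j1 a ha
        rw [hi.mor.map_mul (mem_sup_left ha) (mem_sup_right hb), mul_inv_rev, mul_assoc,
          ← mul_assoc a⁻¹, ← mul_assoc, ← h.toPair.cent (inv_mem (mem_sup_right hb)) _ e, mul_assoc]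
        exact Subgroup.mul_mem _ e (k i2 le_sup_right j2 b hb)
    obtain rfl : α = 1 := orderOf_eq_one_iff.1 (Nat.eq_one_of_dvd_coprimes
      ((Nat.coprime_two_left.2 hd.odd).pow_left n) (orderOf_dvd_of_pow_eq_one hn)
      (H.orderOf_dvd_natCard hα))
    exact ⟨s, hs, 1, one_mem _, fun v => by
      rw [e _ (hr.le ⟨v, rfl⟩), equivFun_one (hr.le ⟨v, rfl⟩), dg1]⟩
  · rintro _ rfl
    exact ⟨id, isMor_id F hB, fun v => congrArg w (dg1 v).symm⟩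
  · rintro _ rfl -
    exact ⟨id, isMor_id F le_rfl, fun v => congrArg w (dg1 v).symm, rfl⟩
  · rcases h01 s with rfl | rfl
    · exact ⟨id, isMor_id F (wB.trans h.le1), fun v hv =>
        congrArg w (U4.ext (by simp [low]) rfl hv (by simp [low]))⟩
    refine ⟨l, l1.mor.mono wB, fun v hv => ?_⟩
    have q1 : ∀ {g}, g ∈ A1 → l g = g → ∀ k, l (P g k) = P g k := fun hg e k => by
      rcases h01 k with rfl | rfl
      exacts [by rw [P0, l1.mor.map_one], by rw [P1, e]]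
    have q2 : ∀ k, l (P c2 k) = P c1 k * (P c2 k * P x k) := fun k => by
      rcases h01 k with rfl | rfl
      · simp [P0, l1.mor.map_one]
      · rw [P1, P1, P1, ← mul_assoc, ← h.el1.comm x1 (A1.mul_mem d1.1 d2.1), hx, mul_assoc,
          mul_assoc, ← mul_assoc c1, h.el1 _ d1.1, one_mul, h.el1 _ d2.1, mul_one]
    rw [hw, hw, show v.z = 0 from hv, P0, one_mul, l1.mor.map_mul (Pm d1.1 _) (A1.mul_mem (Pm d2.1 _)
      (Pm x1 _)), l1.mor.map_mul (Pm d2.1 _) (Pm x1 _), q1 d1.1 (l2 _ d1.1 k2), q1 x1 x3, q2]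
    simp only [low, one_mul, sq, a1, P0, mul_assoc, add_comm v.i, a4]

theorem Str.frame (h : Str F A1 A2 t φ) (hS : IsPGroup 2 S) (hF : F.IsSaturated 2)
    (K : Type*) [Field K] [Fintype K] [CharP K 2] (hK : Fintype.card K = (A1 ⊓ A2).relIndex A1) :
    ∃ (sp : Bool) (σ : K ≃+* K) (Y : Subgroup (Tor K)) (w : U4 K →* Ω) (t' : Ω),
      Par sp σ Y ∧ Fr F sp σ Y w t' ∧ w.range = A1 ⊔ A2 := by
  rcases Nat.eq_or_lt_of_le (Fintype.one_lt_card (α := K)) with e | e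
  · obtain ⟨w, t', h⟩ := h.frame_two hS hF K hK e.symm
    exact ⟨_, _, _, w, t', h⟩
  · exact h.frame_big hS hF K hK e

end Cfsg.Agent.PU
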