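import Cfsg.Agent.Lib.PU.GS
import Cfsg.Agent.Lib.H8.F4
import Cfsg.Agent.Lib.H8.Cover2

/-!
A coding of the extension of a group by an involutive automorphism.
-/

set_option autoImplicit false

namespace Cfsg.Agent.PU

open Cfsg Subgroup Cfsg.Agent.H2
open Cfsg.Agent.H8.J3 (frc frc_eq)

variable {X : Type*} [Group X]

/-- The homomorphism defined by an involution. -/
def sgnH (τ : X) (h : τ * τ = 1) : ℤˣ →* X :=
  MonoidHom.mk' (fun u => if u = 1 then 1 else τ) fun a b => by
    rcases Int.units_eq_one_or a with rfl | rfl <;> rcases Int.units_eq_one_or b with rfl | rfl <;>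
      simp [h]

theorem sgnH_neg {τ : X} (h : τ * τ = 1) : sgnH τ h (-1) = τ :=
  if_neg (c := (-1 : ℤˣ) = 1) (t := 1) (by decide)

/-- Triples. -/
def pk (K e a b : ℕ) : ℕ := Nat.add e (Nat.mul 2 (Nat.add a (Nat.shiftLeft b K)))
/-- First component. -/
def sdP1 (K c : ℕ) : ℕ := Nat.mod (Nat.div c 2) (Nat.shiftLeft 1 K)
/-- Second component. -/
def sdP2 (K c : ℕ) : ℕ := Nat.shiftRight (Nat.div c 2) K

theorem pk_spec {K e a b : ℕ} (he : e < 2) (ha : a < 2 ^ K) :
    Nat.mod (pk K e a b) 2 = e ∧ sdP1 K (pk K e a b) = a ∧ sdP2 K (pk K e a b) = b := by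
  have h1 : Nat.div (pk K e a b) 2 = a + b * 2 ^ K := by
    change (e + 2 * (a + b <<< K)) / 2 = _
    rw [Nat.shiftLeft_eq]; omega
  refine ⟨?_, ?_, ?_⟩
  · change (e + 2 * _) % 2 = _
    omega
  · rw [sdP1, h1]
    change _ % (1 <<< K) = _
    rw [Nat.one_shiftLeft, Nat.add_mul_mod_self_right, Nat.mod_eq_of_lt ha]
  · rw [sdP2, h1]
    change _ >>> K = _
    rw [Nat.shiftRight_eq_div_pow, Nat.add_mul_div_right _ _ (by positivity), Nat.div_eq_of_lt ha,
      zero_add]

/-- The product. -/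
noncomputable def sdMul (mul : ℕ → ℕ → ℕ) (K c d : ℕ) : ℕ :=
  frc c fun c => frc d fun d => frc (sdP1 K c) fun c1 => frc (sdP2 K c) fun c2 =>
    frc (sdP1 K d) fun d1 => frc (sdP2 K d) fun d2 => cond (Nat.beq (Nat.mod c 2) 0)
      (pk K (Nat.mod d 2) (mul c1 d1) (mul c2 d2)) (pk K (Nat.sub 1 (Nat.mod d 2)) (mul c1 d2) (mul c2 d1))

/-- The coding of the extension. -/
noncomputable def sdCod (C : Coding X) (K : ℕ) (hK : ∀ x, C.code x < 2 ^ K) (τ : MulAut X)
    (h : τ * τ = 1) : Coding (X ⋊[sgnH τ h] ℤˣ) where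
  code x := pk K (if x.right = 1 then 0 else 1) (C.code x.left) (C.code (τ x.left))
  inj x y e := by
    have h1 := pk_spec (b := C.code (τ x.left)) (e := if x.right = 1 then 0 else 1)
      (by split_ifs <;> decide) (hK x.left)
    have h2 := pk_spec (b := C.code (τ y.left)) (e := if y.right = 1 then 0 else 1)
      (by split_ifs <;> decide) (hK y.left)
    rw [show pk K _ _ _ = pk K _ _ _ from e] at h1
    refine SemidirectProduct.ext (C.inj (h1.2.1.symm.trans h2.2.1)) ?_
    have h3 := h1.1.symm.trans h2.1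
    rcases Int.units_eq_one_or x.right with a | a <;> rcases Int.units_eq_one_or y.right with b | b <;>
      simp_all
  mul := sdMul C.mul K
  code_mul x y := by
    have h1 := pk_spec (b := C.code (τ x.left)) (e := if x.right = 1 then 0 else 1)
      (by split_ifs <;> decide) (hK x.left)
    have h2 := pk_spec (b := C.code (τ y.left)) (e := if y.right = 1 then 0 else 1)
      (by split_ifs <;> decide) (hK y.left)
    have h3 : τ (τ y.left) = y.left := by rw [← MulAut.mul_apply, h, MulAut.one_apply]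
    simp only [sdMul, frc_eq, h1, h2, ← C.code_mul, SemidirectProduct.mul_left,
      SemidirectProduct.mul_right]
    rcases Int.units_eq_one_or x.right with a | a <;> rcases Int.units_eq_one_or y.right with b | b <;>
      simp [a, b, sgnH_neg, h3, show Nat.beq 1 0 = false from rfl]
  one := pk K 0 C.one C.one
  code_one := by simp [C.code_one]

theorem card_sd {τ : MulAut X} (h : τ * τ = 1) : Nat.card (X ⋊[sgnH τ h] ℤˣ) = Nat.card X * 2 := by
  rw [Nat.card_congr SemidirectProduct.equivProd, Nat.card_prod, Nat.card_eq_fintype_card (α := ℤˣ),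
    Fintype.card_units_int]

theorem exists_list_slp (C : Coding X) (L : List (ℕ × List ℕ)) (K : List X)
    (h : H8.slp C.mul C.one L (K.map C.code) = true) : ∃ l : List X, l.map C.code = L.map Prod.fst := by
  have := H8.slp_sound C (G := ⊤) L _ (fun c hc => let ⟨g, _, e⟩ := List.mem_map.1 hc; ⟨g, trivial, e⟩) h
  refine (C.exists_list (G := ⊤) (memG := inL (L.map Prod.fst)) (fun c hc => ?_)
    (allL_iff.2 fun a ha => anyL_iff.2 ⟨a, ha, Nat.beq_refl a⟩)).imp fun _ h => h.1
  obtain ⟨a, ha, e⟩ := anyL_iff.1 hc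
  exact Nat.eq_of_beq_eq_true e ▸ this a ha

theorem sd_list (C : Coding X) (K : ℕ) (hK : ∀ x, C.code x < 2 ^ K) {τ : MulAut X} (h : τ * τ = 1)
    (L : List (ℕ × List ℕ)) {a a' b b' : X} (ha : τ a = a') (hb : τ b = b')
    (hL : H8.slp (sdMul C.mul K) (pk K 0 C.one C.one) L [pk K 0 (C.code a) (C.code a'),
      pk K 0 (C.code b) (C.code b'), pk K 1 C.one C.one] = true) :
    ∃ l : List (X ⋊[sgnH τ h] ℤˣ), l.map (sdCod C K hK τ h).code = L.map Prod.fst :=
  exists_list_slp _ L [.inl a, .inl b, .inr (-1)] (by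
    subst ha hb
    simpa [sdCod, C.code_one] using hL)

theorem code_lt {α : Type*} {k m n : ℕ} (N : Numbering α k m n) (g : Equiv.Perm α) :
    N.code g < 2 ^ (k * n) := mkN_lt fun _ _ => (N.ix_lt _).trans_le N.le

theorem comap_lt {α : Type*} {k m n K : ℕ} (N : Numbering α k m n) (f : X →* Equiv.Perm α)
    (hf : Function.Injective f) (hK : k * n = K) (x : X) : (codComap N.coding f hf).code x < 2 ^ K :=
  hK ▸ code_lt N (f x)

theorem sd_perm {α : Type*} {k m n K : ℕ} (N : Numbering α k m n) (f : X →* Equiv.Perm α)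
    (hf : Function.Injective f) (hK : k * n = K) {τ : MulAut X} (h : τ * τ = 1) :
    (sdCod _ K (comap_lt N f hf hK) τ h).mul = sdMul (mulP k m n) K ∧
      (sdCod _ K (comap_lt N f hf hK) τ h).one = pk K 0 (mkN k id n) (mkN k id n) := ⟨rfl, rfl⟩

end Cfsg.Agent.PU
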