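import Cfsg.Agent.Lib.PU.Defs
import Cfsg.Agent.Lib.H2.SLFus
import Cfsg.Agent.Lib.H2.Herm4

/-!
Simplicity of `PSL₃(K)` and of `PSp₄(K)` in characteristic two.
-/

set_option autoImplicit false
set_option linter.unusedSectionVars false

namespace Cfsg.Agent.PU

open Cfsg Cfsg.FusionSystem Subgroup Cfsg.Agent.FT
open Cfsg.Agent.H6 (cj RealizedIn SylIn)
open Cfsg.Agent.H9 (U4)
open Cfsg.Agent.SP (sA sB sZ sX)
open scoped commutatorElement

section SL
open Matrix Matrix.SpecialLinearGroup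

theorem sl3_gen {K : Type*} [Field K] (H : Subgroup (Matrix.SpecialLinearGroup (Fin 3) K))
    (h : ∀ (i j : Fin 3) (hij : i ≠ j) (a : K), transvection hij a ∈ H) : H = ⊤ := by
  refine eq_top_iff.2 fun M _ => diagonal_transvection_induction' (· ∈ H) M (fun i j hij c hc => ?_) h
    fun _ _ => H.mul_mem
  have : diag2n hij c hc = transvection hij c * transvection hij.symm (-c⁻¹) * transvection hij c *
      (transvection hij (-1) * transvection hij.symm 1 * transvection hij (-1)) := by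
    ext a b
    fin_cases i <;> fin_cases j <;> (try exact absurd rfl hij) <;> fin_cases a <;> fin_cases b <;>
      simp [diag2n_coe, transvection_coe, Matrix.mul_apply, Fin.sum_univ_three, Matrix.one_apply,
        Matrix.single_apply, hc]
  rw [this]
  exact mul_mem (mul_mem (mul_mem (h ..) (h ..)) (h ..)) (mul_mem (mul_mem (h ..) (h ..)) (h ..))

theorem sl3_perfect (K : Type*) [Field K] :
    commutator (Matrix.SpecialLinearGroup (Fin 3) K) = ⊤ := sl3_gen _ fun i j hij a => by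
  obtain ⟨k, h1, h2⟩ : ∃ k, i ≠ k ∧ k ≠ j := by revert i j; decide
  have : transvection hij a = ⁅transvection h1 a, transvection h2 (1 : K)⁆ := by
    rw [commutatorElement_def, transvection_inv, transvection_inv]
    ext x y
    fin_cases i <;> fin_cases j <;> (try exact absurd rfl hij) <;> fin_cases k <;>
      (try exact absurd rfl h1) <;> (try exact absurd rfl h2) <;> fin_cases x <;> fin_cases y <;>
      simp [transvection_coe, Matrix.mul_apply, Fin.sum_univ_three, Matrix.one_apply,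
        Matrix.single_apply]
  rw [this]
  exact commutator_mem_commutator (mem_top _) (mem_top _)

end SL

open scoped LinearAlgebra.Projectivization in
open Matrix.SpecialLinearGroup in
theorem simple_PSL3 (K : Type*) [Field K] [Finite K] :
    IsSimpleGroup (Matrix.ProjectiveSpecialLinearGroup (Fin 3) K) := by
  refine MulAction.IwasawaStructure.isSimpleGroup (α := ℙ K (Fin 3 → K)) ?_
    ⟨PSL.iwasawaT, fun p => ?_, fun g p => ?_, ?_⟩ inferInstance
  · haveI : Group.IsPerfect (Matrix.SpecialLinearGroup (Fin 3) K) := ⟨sl3_perfect K⟩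
    exact (inferInstance : Group.IsPerfect
      (Matrix.ProjectiveSpecialLinearGroup (Fin 3) K)).commutator_eq_top
  · have hSL : IsMulCommutative (lineStab (F := K) (ι := Fin 3) p.submodule) := by
      rw [← Projectivization.mk_rep p, Projectivization.submodule_mk]
      exact lineStab_isMulCommutative_of_span p.rep p.rep_nonzero
    exact Subgroup.map_isMulCommutative _ _
  · obtain ⟨g, rfl⟩ := QuotientGroup.mk_surjective g
    rw [Matrix.ProjectiveSpecialLinearGroup.smul_proj_mk]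
    change Subgroup.map _ _ = _
    rw [PSL.smul_submodule, lineStab_smul, PSL.iwasawaT_map_conj]
  · rw [← Subgroup.map_iSup, sl3_gen (⨆ p : ℙ K (Fin 3 → K), lineStab p.submodule) fun i j hij a =>
      mem_iSup_of_mem (Projectivization.mk K (Pi.single i 1) (by simp))
        (SL2Gen.transvection_mem_lineStab hij a)]
    exact Subgroup.map_top_of_surjective _ (QuotientGroup.mk'_surjective _)

section Sp
open Cfsg.Agent.H2 Cfsg.Agent.H2.Herm

variable {K V : Type*} [Field K] [CharP K 2] [AddCommGroup V] [Module K V] {H : Herm K V}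
  (hσ : ∀ a, H.σ a = a) (h0 : ∀ x, H.B x x = 0)
include hσ h0

theorem eich_mem {z u : V} (hu : H.B u z = 0) (c : K) : H.eich z u c ∈ H.R z :=
  eich_mem_R (p := 2) (h0 z) hu (by rw [hσ, h0, sub_self])

theorem exists_one {v : V} (hv : v ≠ 0) : ∃ x, H.B x v = 1 := by
  obtain ⟨y, hy⟩ := H.nondeg v hv
  exact ⟨(H.B y v)⁻¹ • y, by rw [H.smul_left, inv_mul_cancel₀ (symm_ne hy)]⟩

theorem eq_one_of_comm {g : V ≃ₗ[K] V} (hg : g ∈ H.G)
    (h : ∀ v, g * H.eich v 0 1 * g⁻¹ = H.eich v 0 1) : g = 1 := by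
  ext v
  by_cases hv : v = 0
  · simp [hv]
  obtain ⟨x, hx⟩ := exists_one hσ h0 hv
  have e := LinearEquiv.congr_fun (h v) x
  rw [eich_conj hg (h0 v) (H.zero_left v), map_zero, eich_apply (h0 _) (H.zero_left _),
    eich_apply (h0 _) (H.zero_left _), hx] at e
  simp only [smul_zero, add_zero, zero_right, one_mul, zero_add, one_smul, add_right_inj] at e
  have e1 := hx
  rw [← e, smul_right, hσ, mul_self_eq_one_iff, CharTwo.neg_eq, or_self] at e1
  rwa [e1, one_smul] at e

theorem sp_normal [Finite K] [Finite V] (h4 : 4 ≤ Module.finrank K V) (hq : 2 < Nat.card K)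
    {N : Subgroup (V ≃ₗ[K] V)} (hN : N ≤ H.G) (hn : ∀ x ∈ N, ∀ y ∈ H.G, y * x * y⁻¹ ∈ N)
    (h1 : N ≠ ⊥) : H.G ≤ N := by
  obtain ⟨S, hS⟩ := H7.exists_sylowIn 2 H.G
  obtain ⟨v, f, e, g, C⟩ := exists_conf h4 hS
  have hc : ∀ x ∈ N, ∀ y ∈ H.G, x * y * x⁻¹ * y⁻¹ ∈ N := fun x hx y hy => by
    simpa [mul_assoc] using N.mul_mem hx (hn _ (N.inv_mem hx) y hy)
  obtain ⟨⟨a, ha⟩, ha1⟩ := (ne_bot_iff_exists_ne_one).1 h1
  obtain ⟨u, hu⟩ := not_forall.1 fun h => ha1 (Subtype.ext (eq_one_of_comm hσ h0 (hN ha) h))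
  obtain ⟨w, hw0, hw⟩ : ∃ w, w ≠ 0 ∧ H.B w u = 0 ∧ H.B w (a u) = 0 := by
    have := LinearMap.ker_ne_bot_of_finrank_lt (f := (H.dual u).prod (H.dual (a u))) (by simp; omega)
    obtain ⟨w, h1, h2⟩ := (Submodule.ne_bot_iff _).1 this
    exact ⟨w, h2, congrArg Prod.fst h1, congrArg Prod.snd h1⟩
  obtain ⟨b, hb, hb1, hbw⟩ : ∃ b ∈ N, b ≠ 1 ∧ b w = w := by
    refine ⟨_, hc a ha _ (eich_mem hσ h0 (H.zero_left u) 1).1, fun h => hu (mul_inv_eq_one.1 h), ?_⟩
    rw [eich_conj (hN ha) (h0 u) (H.zero_left u), eich_inv (h0 u) (H.zero_left u),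
      LinearEquiv.mul_apply, eich_apply (h0 u) (by simp), eich_apply (h0 _) (by simp)]
    simp [hw.1, hw.2]
  obtain ⟨r, hr, hr1, hrw⟩ : ∃ r ∈ N, r ≠ 1 ∧ r ∈ H.R w := by
    by_cases h : ∀ r ∈ H.R w, b * r * b⁻¹ = r
    · refine ⟨b, hb, hb1, hN hb, fun x hx => ?_, fun y hy => ?_⟩
      · obtain ⟨c, rfl⟩ := Submodule.mem_span_singleton.1 hx
        rw [map_smul, hbw]
      · have hy' := mem_perp_span.1 hy
        obtain ⟨x, hx⟩ := exists_one hσ h0 hw0
        have e := LinearEquiv.congr_fun (h _ (eich_mem hσ h0 hy' 0)) x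
        rw [eich_conj (hN hb) (h0 w) hy', hbw, eich_apply (h0 _) hy',
          eich_apply (h0 _) (by rw [← hbw, (hN hb).1, hy']), hx] at e
        refine Submodule.mem_span_singleton.2 ⟨H.B x y - H.B x (b y), ?_⟩
        linear_combination (norm := module) -e
    · push Not at h
      obtain ⟨r, h2, h3⟩ := h
      exact ⟨_, hc b hb r h2.1, fun h => h3 (mul_inv_eq_one.1 h),
        mul_mem (hbw ▸ conj_mem_R (hN hb) h2) (inv_mem h2)⟩
  have key : ∀ x y : V, x ≠ 0 → y ≠ 0 → ∃ t ∈ H.G, ∀ r ∈ H.R x, t * r * t⁻¹ ∈ H.R y :=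
    fun x y hx hy => by
    obtain ⟨t, ht, c, hc, e⟩ := H.nd_top.exists_E_point (p := 2) Submodule.mem_top Submodule.mem_top hx hy
      (h0 x) (h0 y)
    have ht' := (E_le_supp _ ht).1
    exact ⟨t, ht', fun r hr => R_smul (H := H) hc ▸ e ▸ conj_mem_R ht' hr⟩
  have hS' : S ≤ N ⊓ S := C.sc (fun x hx y hy h => ⟨hn x hx.1 y hy, h⟩) (fun _ h => by
      have : Nat.card K ≤ 2 := by
        classical
        haveI := Fintype.ofFinite K
        rw [Nat.card_eq_fintype_card]
        exact (Finset.card_le_card (t := {0, 1}) fun a _ => by simpa using h a).trans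
          Finset.card_le_two
      omega) inf_le_right (by
      obtain ⟨t, ht, h⟩ := key w v hw0 C.v0
      exact (ne_bot_iff_exists_ne_one).2 ⟨⟨_, hn r hr t ht, C.Rv (h r hrw)⟩, fun e =>
        hr1 (by simpa using congrArg Subtype.val e)⟩)
  rw [← supp_top]
  refine (H.nd_top.supp_le_E (p := 2)).trans ((closure_le _).2 ?_)
  rintro x ⟨z, -, hz, -, hx, -⟩
  obtain ⟨t, ht, h⟩ := key z v hz C.v0
  simpa [mul_assoc] using hn _ (hS' (C.Rv (h x hx))).1 _ (inv_mem ht)

end Sp

open Cfsg.Agent.H2 Matrix in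
theorem range_spRep (K : Type*) [Field K] :
    (matRep (Matrix.symplecticGroup (Fin 2) K).subtype).range = (spHerm 2 K).G := by
  have key : ∀ (A : Matrix (Fin 2 ⊕ Fin 2) (Fin 2 ⊕ Fin 2) K) x y,
      (spHerm 2 K).B (A *ᵥ x) (A *ᵥ y) = x ⬝ᵥ (Aᵀ * Matrix.J (Fin 2) K * A) *ᵥ y := fun A x y => by
    change (A *ᵥ x) ⬝ᵥ _ = _
    rw [← Matrix.vecMul_transpose, ← Matrix.dotProduct_mulVec, Matrix.mulVec_mulVec,
      Matrix.mulVec_mulVec]
  refine le_antisymm ?_ fun g hg => ?_
  · rintro _ ⟨A, rfl⟩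
    refine ⟨fun x y => ?_, Or.inr fun _ => rfl⟩
    rw [matRep_apply, matRep_apply, key, Submonoid.subtype_apply, SymplecticGroup.mem_iff'.1 A.2]
    rfl
  · have h1 : ∀ x, LinearMap.toMatrix' g.toLinearMap *ᵥ x = g x := fun x => by
      rw [← Matrix.toLin'_apply, Matrix.toLin'_toMatrix']; rfl
    refine ⟨⟨LinearMap.toMatrix' g.toLinearMap, SymplecticGroup.mem_iff'.2 ?_⟩,
      LinearEquiv.ext h1⟩
    ext i j
    have h2 := hg.1 (Pi.single i 1) (Pi.single j 1)
    rw [← h1, ← h1, key] at h2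
    simpa [spHerm] using h2

theorem sp_alt (K : Type*) [Field K] (x : Fin 2 ⊕ Fin 2 → K) : (H2.spHerm 2 K).B x x = 0 := by
  simp [H2.spHerm, Matrix.J, Matrix.fromBlocks_mulVec, dotProduct, Matrix.neg_mulVec, mul_comm]

theorem center_Sp (K : Type*) [Field K] [CharP K 2] :
    center (Matrix.symplecticGroup (Fin 2) K) = ⊥ := by
  refine eq_bot_iff.2 fun z hz => H2.matRep_injective (t := (Matrix.symplecticGroup (Fin 2) K).subtype)
    Subtype.val_injective ?_
  rw [map_one]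
  refine eq_one_of_comm (H := H2.spHerm 2 K) (fun _ => rfl) (sp_alt K)
    (range_spRep K ▸ ⟨z, rfl⟩) fun v => ?_
  obtain ⟨g, hg⟩ := (range_spRep K).ge (eich_mem (H := H2.spHerm 2 K) (fun _ => rfl) (sp_alt K)
    (H2.Herm.zero_left _ v) 1).1
  rw [← hg, ← map_mul, ← mem_center_iff.1 hz, map_mul, mul_inv_cancel_right]

theorem simple_PSp (K : Type*) [Field K] [Finite K] [CharP K 2] (h : 2 < Nat.card K) :
    IsSimpleGroup (PSp 2 K) := by
  have hi := H2.matRep_injective (t := (Matrix.symplecticGroup (Fin 2) K).subtype)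
    Subtype.val_injective
  haveI : Nontrivial (Matrix.symplecticGroup (Fin 2) K) :=
    ⟨⟨⟨_, SymplecticGroup.J_mem _ _⟩, 1, fun e => by
      simpa [Matrix.J] using congrFun (congrFun (congrArg Subtype.val e) (.inl 0)) (.inl 0)⟩⟩
  haveI : IsSimpleGroup (Matrix.symplecticGroup (Fin 2) K) := ⟨fun N hN => by
    by_cases h1 : N = ⊥
    · exact .inl h1
    refine .inr (eq_top_iff.2 fun g _ => (mem_map_iff_mem hi).1 (sp_normal (H := H2.spHerm 2 K)
      (fun _ => rfl) (sp_alt K) (by simp) h (range_spRep K ▸ map_le_range _ _) ?_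
      (by rwa [Ne, map_eq_bot_iff_of_injective _ hi]) (range_spRep K ▸ ⟨g, rfl⟩)))
    rintro _ ⟨x, hx, rfl⟩ y hy
    obtain ⟨y, rfl⟩ := (range_spRep K).ge hy
    exact ⟨_, hN.conj_mem x hx y, by simp⟩⟩
  exact ((QuotientGroup.quotientMulEquivOfEq (center_Sp K)).trans
    QuotientGroup.quotientBot).isSimpleGroup

end Cfsg.Agent.PU
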