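import Cfsg.Agent.Lib.PU.Lift
import Cfsg.Agent.Lib.PU.Simp
import Cfsg.Agent.Lib.PU.SdC
import Cfsg.Agent.Lib.H6.GL2Fus

/-!
The Sylow 2-subgroup of `PSL₃(3).2`.
-/

set_option autoImplicit false

namespace Cfsg.Agent.PU

open Cfsg Cfsg.FusionSystem Subgroup Cfsg.Agent.FT
open Cfsg.Agent.H6 (cj RealizedIn SylIn)
open Cfsg.Agent.H9 (U4)
open Cfsg.Agent.SP (sA sB sZ sX)
open Cfsg.Agent.H2 Cfsg.Agent.H8
open scoped commutatorElement MatrixGroups Matrix

/-- The numbering of the vectors. -/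
def vN : Numbering (Fin 3 → ZMod 3) 5 31 27 where
  ix v := (v 0).val + 3 * (v 1).val + 9 * (v 2).val
  pt i := ![i, (i / 3 : ℕ), (i / 9 : ℕ)]
  ix_lt := by decide +kernel
  pt_ix := by decide +kernel
  ix_pt := by decide +kernel
  hm := rfl
  le := by decide

/-- The action on vectors. -/
def vP : SL(3, ZMod 3) →* Equiv.Perm (Fin 3 → ZMod 3) :=
  MonoidHom.toHomPerm
    { toFun := fun g v => g.1 *ᵥ v
      map_one' := funext Matrix.one_mulVec
      map_mul' := fun _ _ => funext fun v => (Matrix.mulVec_mulVec v _ _).symm }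

theorem vP_inj : Function.Injective vP := fun _ _ e =>
  Subtype.ext (Matrix.ext_iff_mulVec.2 (Equiv.ext_iff.1 e))

section
variable {R : Type*} [CommRing R]

/-- Transpose. -/
def tr3 (g : SL(3, R)) : SL(3, R) := ⟨g.1ᵀ, by rw [Matrix.det_transpose, g.2]⟩

theorem tr3_mul (g h : SL(3, R)) : tr3 (g * h) = tr3 h * tr3 g :=
  Subtype.ext (Matrix.transpose_mul g.1 h.1)

theorem tr3_inv (g : SL(3, R)) : tr3 g⁻¹ = (tr3 g)⁻¹ := eq_inv_of_mul_eq_one_left (by
  rw [← tr3_mul, mul_inv_cancel]; exact Subtype.ext Matrix.transpose_one)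

theorem tr3_tr3 (g : SL(3, R)) : tr3 (tr3 g) = g := rfl

/-- Inverse transpose. -/
def itr3 : MulAut SL(3, R) where
  toFun g := (tr3 g)⁻¹
  invFun g := (tr3 g)⁻¹
  left_inv g := by simp only [tr3_inv, inv_inv, tr3_tr3]
  right_inv g := by simp only [tr3_inv, inv_inv, tr3_tr3]
  map_mul' g h := by rw [tr3_mul, mul_inv_rev]

theorem itr3_eq {g h : SL(3, R)} (e : g.1ᵀ * h.1 = 1) : itr3 g = h :=
  inv_eq_of_mul_eq_one_right (Subtype.ext e)

theorem itr3_sq : (itr3 * itr3 : MulAut SL(3, R)) = 1 := MulEquiv.ext itr3.left_inv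

end

theorem center_SL3 : Subgroup.center SL(3, ZMod 3) = ⊥ := eq_bot_iff.2 fun g hg => by
  obtain ⟨r, h1, h2⟩ := Matrix.SpecialLinearGroup.mem_center_iff.1 hg
  obtain rfl : r = 1 := (by decide : ∀ r : ZMod 3, r ^ Fintype.card (Fin 3) = 1 → r = 1) r h1
  exact Subtype.ext (by rw [← h2, map_one]; rfl)

/-- Words for the elements. -/
def l33W : List (ℕ × List ℕ) :=
  [(2696256259383690853749115154689228295264008828711061553211835792132643236159752321,
    [1, 2, 0, 1, 0, 2, 0, 2, 0]),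
  (134278095193684080823519228322597952607923409165327897294748025739621428749299329,
    [2, 2, 1, 3, 1, 2, 1, 3, 1, 1, 3, 1, 2]),
  (647481147637412945012467712789940719554105927562012114432923984870716102460990976,
    [2, 4, 2, 2, 4, 2, 3, 4, 2, 4, 2]),
  (434973865356569982985624009419586977066782624142076126420851805975862697771051968,
    [5, 3, 4, 3, 3, 5, 3, 3, 5, 3, 5]),
  (1702760714150919195404132332018414318766629216156526796134458400862200048025418049,
    [5, 4, 6, 4, 6, 4, 5, 6, 4]),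
  (2922431968870980580516573252532637280859746364586746590113489335742609605729204545,
    [5, 7, 5, 5]),
  (2804294593382293042859931164921864060376069432000281351901446976752571348029111617,
    [7, 8, 6])]

set_option maxRecDepth 8000 in
theorem model_L33 : ∃ (G : Type) (_ : Group G) (_ : Finite G) (U A1 A2 : Subgroup G) (t : G)
    (φ : G → G), Last G ∧ SylIn 2 U ⊤ ∧ Str (groupFusionSystem U) A1 A2 t φ ∧
      Nat.card U = 32 ∧ (A1 ⊓ A2).relIndex A1 = 2 ∧
      ¬ (groupFusionSystem U).StronglyClosed (A1 ⊔ A2) := by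
  let C := sdCod (codComap vN.coding vP vP_inj) 135 (comap_lt vN vP vP_inj rfl) itr3 itr3_sq
  obtain ⟨hm, ho⟩ : C.mul = _ ∧ C.one = _ := sd_perm vN vP vP_inj rfl itr3_sq
  let a : SL(3, ZMod 3) := ⟨!![1, 1, 0; 0, 1, 0; 0, 0, 1], by decide +kernel⟩
  let a' : SL(3, ZMod 3) := ⟨!![1, 0, 0; 2, 1, 0; 0, 0, 1], by decide +kernel⟩
  let b : SL(3, ZMod 3) := ⟨!![0, 0, 1; 1, 0, 0; 0, 1, 0], by decide +kernel⟩
  obtain ⟨l, hl⟩ : ∃ l : List _, l.map C.code = l33W.map Prod.fst :=
    sd_list _ _ _ _ l33W (itr3_eq (g := a) (h := a') (by decide +kernel))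
      (itr3_eq (g := b) (h := b) (by decide +kernel)) (by decide +kernel)
  simp only [l33W, List.map_cons, List.map_nil, List.map_eq_cons_iff, List.map_eq_nil_iff] at hl
  obtain ⟨t, _, rfl, et, x, _, rfl, ex, c, _, rfl, ec, d, _, rfl, ed, e, _, rfl, ee,
    g, _, rfl, eg, y, _, rfl, ey, rfl⟩ := hl
  have hG := gs_of_check C (x1 := [c]) (x2 := [x]) (ds := [d, e]) (t := t) (g := g) (C.pc_of_check _
    [(0, [10, 13, 4, 12]), (0, [3, 2, 4]), (0, [1, 2]), (0, [1]), (0, [])] (by
      simp only [List.cons_append, List.nil_append, List.map_cons, List.map_nil, et, ex, ec, ed, ee,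
        hm, ho]; decide +kernel)) (C.pc_of_check _ [(0, [1, 2]), (0, [1]), (0, [])] (by
      simp only [List.cons_append, List.nil_append, List.map_cons, List.map_nil, ex, ed, ee,
        hm, ho]; decide +kernel)) rfl (by simp) (by
    simp only [List.cons_append, List.nil_append, List.map_cons, List.map_nil, et, ex, ec, ed, ee,
      eg, hm, ho]; decide +kernel)
  have hc : Nat.card SL(3, ZMod 3) = 5616 := by
    have := H6.card_SL_mul (F := ZMod 3) (Fin 3)
    rw [Matrix.card_GL_field] at this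
    rw [show ∏ i : Fin 3, (Fintype.card (ZMod 3) ^ 3 - Fintype.card (ZMod 3) ^ (i : ℕ)) = 11232 by
      decide +kernel, show Fintype.card (ZMod 3) - 1 = 2 from rfl] at this
    omega
  have : Finite (SL(3, ZMod 3) ⋊[sgnH itr3 itr3_sq] ℤˣ) :=
    Finite.of_equiv _ SemidirectProduct.equivProd.symm
  let N := (SemidirectProduct.inl : SL(3, ZMod 3) →* _ ⋊[sgnH itr3 itr3_sq] ℤˣ).range
  have : N.Normal := by
    simp only [N, SemidirectProduct.range_inl_eq_ker_rightHom]; infer_instance
  let e1 : N ≃* PSL(3, ZMod 3) := (MonoidHom.ofInjective SemidirectProduct.inl_injective).symm.trans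
    (QuotientGroup.quotientBot.symm.trans (QuotientGroup.quotientMulEquivOfEq center_SL3.symm))
  have := simple_PSL3 (ZMod 3)
  have hC : 𝒞(N) = ⊥ := eq_bot_iff.2 fun z hz => by
    have k : ∀ g : SL(3, ZMod 3), g * z.left = z.left * sgnH itr3 itr3_sq z.right g := fun g => by
      simpa using congrArg SemidirectProduct.left (hz _ ⟨g, rfl⟩)
    rcases Int.units_eq_one_or z.right with h | h
    · exact SemidirectProduct.ext (center_SL3.le (mem_center_iff.2 (by simpa [h] using k))) h
    let s : SL(3, ZMod 3) := ⟨!![0, 0, 1; 1, 0, 0; 0, 1, 1], by decide +kernel⟩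
    let s' : SL(3, ZMod 3) := ⟨!![0, 2, 1; 1, 0, 0; 0, 1, 0], by decide +kernel⟩
    have h1 := k s
    rw [h, sgnH_neg, itr3_eq (h := s') (by decide +kernel), ← eq_mul_inv_iff_mul_eq] at h1
    have h2 := congrArg (fun x : SL(3, ZMod 3) => x.1.trace) h1
    simp only [Matrix.SpecialLinearGroup.coe_mul] at h2
    rw [Matrix.trace_mul_cycle, ← Matrix.SpecialLinearGroup.coe_mul, inv_mul_cancel] at h2
    exact absurd h2 (by decide +kernel)
  refine ⟨_, _, inferInstance, _, _, _, _, _, last_of N N e1.isSimpleGroup (fun h => ?_) hC le_rfl ?_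
    (by simp) (ZMod 3) (.inl ⟨e1⟩), hG.sylIn (by rw [card_sd, hc]; simp), hG.str.1, hG.str.2.1,
    hG.str.2.2, hG.not_sc (mem_lcl (s := e) (by simp)) (y := y) ?_⟩
  · have h1 : .inl a ∈ 𝒞(N) := fun x hx => H6.isMulCommutative_iff'.1 h _ hx _ ⟨a, rfl⟩
    exact absurd (congrArg (fun x : SL(3, ZMod 3) => x.1 0 1)
      (SemidirectProduct.inl_injective ((hC.le h1).trans (map_one _).symm))) (by decide +kernel)
  · simp only [N, SemidirectProduct.range_inl_eq_ker_rightHom, index_ker,
      MonoidHom.range_eq_top.2 SemidirectProduct.rightHom_surjective, card_top,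
      Nat.card_eq_fintype_card, Fintype.card_units_int]
  · rw [show y * e = t * y from C.inj (by
      rw [C.code_mul, C.code_mul, ey, ee, et, hm]; decide +kernel), mul_inv_cancel_right]

end Cfsg.Agent.PU
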