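import Cfsg.Agent.Lib.PU.Simp
import Cfsg.Agent.Lib.SZ.HigField
import Cfsg.Agent.Lib.H6.GrpFus

/-!
Tools for building a `Dat`: automorphisms of matrix groups, passing to the central quotient.
-/

set_option autoImplicit false
set_option linter.unusedSectionVars false

namespace Cfsg.Agent.PU

open Cfsg Cfsg.FusionSystem Subgroup Cfsg.Agent.FT
open Cfsg.Agent.H6 (cj RealizedIn SylIn)
open Cfsg.Agent.H9 (U4)
open Cfsg.Agent.SP (sA sB sZ sX)
open scoped commutatorElement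

theorem exists_autHom {T G M : Type*} [Group T] [Group G] [Monoid M] (ι : G →* M)
    (hι : Function.Injective ι) (F : T → M → M) (hmul : ∀ s a b, F s (a * b) = F s a * F s b)
    (h1 : ∀ a, F 1 a = a) (hFF : ∀ s t a, F (s * t) a = F s (F t a))
    (hmem : ∀ s g, ∃ g', ι g' = F s (ι g)) :
    ∃ δ : T →* MulAut G, ∀ s g, ι (δ s g) = F s (ι g) := by
  choose f hf using hmem
  have hff : ∀ s t g, f (s * t) g = f s (f t g) := fun s t g => hι (by rw [hf, hf, hf, hFF])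
  have hf1 : ∀ g, f 1 g = g := fun g => hι (by rw [hf, h1])
  exact ⟨MonoidHom.mk' (fun s => ⟨⟨f s, f s⁻¹, fun g => by rw [← hff, inv_mul_cancel, hf1],
    fun g => by rw [← hff, mul_inv_cancel, hf1]⟩, fun a b => hι (by
      simp only [map_mul, hf, hmul])⟩) fun s t => MulEquiv.ext (hff s t), hf⟩

theorem exists_invol {G : Type*} [Group G] (f : G → G) (hmul : ∀ a b, f (a * b) = f a * f b)
    (hff : ∀ g, f (f g) = g) : ∃ τ : MulAut G, τ * τ = 1 ∧ ∀ g, τ g = f g :=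
  ⟨⟨⟨f, f, hff, hff⟩, hmul⟩, MulEquiv.ext hff, fun _ => rfl⟩

/-- Automorphisms induced on the central quotient. -/
def qA (G : Type*) [Group G] : MulAut G →* MulAut (G ⧸ center G) :=
  MonoidHom.mk' (fun φ => QuotientGroup.congr _ _ φ
      (characteristic_iff_map_eq.1 inferInstance φ))
    fun φ ψ => MulEquiv.ext fun x => by
      obtain ⟨x, rfl⟩ := QuotientGroup.mk_surjective x
      rfl

theorem qA_mk {G : Type*} [Group G] (φ : MulAut G) (g : G) :
    qA G φ (g : G ⧸ center G) = (φ g : G) := rfl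

variable {K : Type*} [Field K]

theorem U4_pow_four [CharP K 2] (u : U4 K) : u ^ 4 = 1 := by
  have : u ^ 4 = u * u * (u * u) := by simp only [pow_succ, pow_zero, one_mul, mul_assoc]
  rw [this]
  ext <;> simp only [U4.mul_def, U4.one_def] <;> grind

/-- `Dat` without simplicity. -/
structure Dat0 {G : Type*} [Group G] (sp : Bool) (σ : K ≃+* K) (w : U4 K →* G)
    (δ : Tor K →* MulAut G) (τ : MulAut G) : Prop where
  ker : Ker sp w
  syl : SylIn 2 w.range ⊤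
  dl : ∀ s u, δ s (w u) = w (dg s u)
  tt : τ * τ = 1
  tw : ∀ u, τ (w u) = w (sw sp σ u)
  td : ∀ s, τ * δ s * τ = δ (s.sw σ)
  nrm : ∀ Y : Subgroup (Tor K), Par sp σ Y → ∀ g, (∀ u, ∃ v, w u * g = g * w v) → ∃ v, ∃ s ∈ Y,
    ∀ u, g * w u * g⁻¹ = w v * w (dg s u) * (w v)⁻¹
  low : ∀ s : K, ∃ g, ∀ u ∈ sB K, g * w u * g⁻¹ = w (low s u)

theorem Dat0.quot [CharP K 2] {G : Type*} [Group G] [Finite G] {sp : Bool} {σ : K ≃+* K}
    {w : U4 K →* G} {δ : Tor K →* MulAut G} {τ : MulAut G} (h : Dat0 sp σ w δ τ)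
    (hZ : ∀ z ∈ center G, z ^ 3 = 1) (hs : IsSimpleGroup (G ⧸ center G)) :
    Dat sp σ ((QuotientGroup.mk' (center G)).comp w) ((qA G).comp δ) (qA G τ) := by
  have key : ∀ a b : G, a ^ 4 = 1 → b ^ 4 = 1 → (a : G ⧸ center G) = b → a = b := by
    intro a b ha hb e
    have hz := QuotientGroup.eq.1 e
    have e1 : b = a * (a⁻¹ * b) := by group
    have hc : Commute a (a⁻¹ * b) := mem_center_iff.1 hz a
    rw [e1, hc.mul_pow, ha, one_mul, pow_succ, hZ _ hz, one_mul] at hb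
    exact inv_mul_eq_one.1 hb
  have h4 : ∀ u, w u ^ 4 = 1 := fun u => by rw [← map_pow, U4_pow_four, map_one]
  refine ⟨hs, fun u => ?_, ?_, fun s u => congrArg _ (h.dl s u), by rw [← map_mul, h.tt, map_one],
    fun u => congrArg _ (h.tw u), fun s => ?_, fun Y hY g hg => ?_, fun s => ?_⟩
  · rw [← h.ker u]
    exact ⟨fun e => key _ _ (h4 u) (one_pow _) e, fun e => by simp [e]⟩
  · have := h.syl.map' (QuotientGroup.mk' (center G))
    rwa [map_top_of_surjective _ (QuotientGroup.mk'_surjective _), ← MonoidHom.range_comp] at this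
  · simp only [MonoidHom.comp_apply, ← map_mul, h.td]
  · obtain ⟨g, rfl⟩ := QuotientGroup.mk_surjective g
    obtain ⟨v, s, hs, e⟩ := h.nrm Y hY g fun u => by
      obtain ⟨v, hv⟩ := (mem_normalizer_iff''.1 hg _).1 (MonoidHom.mem_range.2 ⟨u, rfl⟩)
      have := key (w v) (g⁻¹ * w u * g) (h4 v) (by
        rw [show g⁻¹ * w u * g = g⁻¹ * w u * g⁻¹⁻¹ by simp, conj_pow, h4]; simp) hv
      exact ⟨v, by rw [this]; group⟩
    exact ⟨v, s, hs, fun u => congrArg (QuotientGroup.mk' (center G)) (e u)⟩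
  · obtain ⟨g, e⟩ := h.low s
    exact ⟨g, fun u hu => congrArg (QuotientGroup.mk' (center G)) (e u hu)⟩

section
variable {n : Type*} [Fintype n] [DecidableEq n]

/-- Diagonal times field automorphism. -/
def dM (d : n → Kˣ) (ρ : K ≃+* K) (g : Matrix n n K) : Matrix n n K :=
  Matrix.of fun i j => d i * ρ (g i j) * (d j : K)⁻¹

theorem dM_apply (d : n → Kˣ) (ρ : K ≃+* K) (g : Matrix n n K) (i j : n) :
    dM d ρ g i j = d i * ρ (g i j) * (d j : K)⁻¹ := rfl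

theorem dM_mul (d : n → Kˣ) (ρ : K ≃+* K) (g h : Matrix n n K) :
    dM d ρ (g * h) = dM d ρ g * dM d ρ h := by
  ext i j
  simp only [dM_apply, Matrix.mul_apply, map_sum, map_mul, Finset.mul_sum, Finset.sum_mul]
  refine Finset.sum_congr rfl fun k _ => ?_
  field_simp

theorem dM_dM (d d' : n → Kˣ) (ρ ρ' : K ≃+* K) (g : Matrix n n K) :
    dM (fun i => d i * Tor.um ρ (d' i)) (ρ * ρ') g = dM d ρ (dM d' ρ' g) := by
  ext i j
  simp only [dM_apply, Units.val_mul, Tor.coe_um, map_mul, map_inv₀, RingAut.mul_apply, mul_inv]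
  ring

theorem dM_eq (d : n → Kˣ) (ρ : K ≃+* K) (g : Matrix n n K) :
    dM d ρ g = Matrix.diagonal (fun i => (d i : K)) * g.map ρ *
      Matrix.diagonal fun i => (d i : K)⁻¹ := by
  ext i j
  simp [dM_apply]

theorem det_dM (d : n → Kˣ) (ρ : K ≃+* K) (g : Matrix n n K) : (dM d ρ g).det = ρ g.det := by
  rw [dM_eq, Matrix.det_mul, Matrix.det_mul, mul_right_comm, ← Matrix.det_mul,
    Matrix.diagonal_mul_diagonal]
  simp only [ne_eq, Units.ne_zero, not_false_eq_true, mul_inv_cancel₀, Matrix.diagonal_one,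
    Matrix.det_one, one_mul]
  exact (RingEquiv.map_det ρ g).symm

end

theorem Par.mem_sp {σ : K ≃+* K} {Y : Subgroup (Tor K)} (h : Par true σ Y) (a b : Kˣ) :
    (⟨a, b, 1⟩ : Tor K) ∈ Y := by
  have hσ : ∀ x, σ (σ x) = x ^ 2 := fun x => by simpa using h.sq x
  have := Y.mul_mem (h.lam (a * b)) (h.sw _ (h.lam (Tor.um σ⁻¹ (a ^ 2 * b))))
  convert this using 1
  have e : ∀ x, σ.symm (σ.symm x ^ 2) = x := fun x => by
    rw [← hσ]; simp
  ext
  · change (a : K) = ((a * b)⁻¹ : Kˣ) * σ.symm ((Tor.um σ⁻¹ (a ^ 2 * b) ^ 2 : Kˣ) : K)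
    rw [Units.val_pow_eq_pow_val]
    change (a : K) = ((a * b)⁻¹ : Kˣ) * σ.symm (σ.symm (a ^ 2 * b : Kˣ) ^ 2)
    rw [e]; simp; field_simp
  · change (b : K) = ((a * b) ^ 2 : Kˣ) * σ ((Tor.um σ⁻¹ (a ^ 2 * b))⁻¹ : Kˣ)
    rw [Units.val_inv_eq_inv_val]
    change (b : K) = ((a * b) ^ 2 : Kˣ) * σ (σ.symm (a ^ 2 * b : Kˣ))⁻¹
    simp; field_simp
  · rfl

theorem Par.mem_l3 {σ : K ≃+* K} {Y : Subgroup (Tor K)} (h : Par false σ Y) (m l : Kˣ) :
    (⟨m ^ 2 * l⁻¹, l ^ 2 * m⁻¹, 1⟩ : Tor K) ∈ Y := by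
  have hσ : ∀ x, σ (σ x) = x := fun x => by simpa using h.sq x
  have := Y.mul_mem (h.lam l) (h.sw _ (h.lam (Tor.um σ m)))
  convert this using 1
  have e : ∀ x, σ.symm x = σ x := fun x => by rw [RingEquiv.symm_apply_eq, hσ]
  ext
  · change ((m ^ 2 * l⁻¹ : Kˣ) : K) = (l⁻¹ : Kˣ) * σ.symm ((Tor.um σ m ^ 2 : Kˣ) : K)
    simp [e, hσ, mul_comm]
  · change ((l ^ 2 * m⁻¹ : Kˣ) : K) = (l ^ 2 : Kˣ) * σ ((Tor.um σ m)⁻¹ : Kˣ)
    simp [hσ]
  · rfl

end Cfsg.Agent.PU
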