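import Cfsg.Agent.Lib.PU.Lift
import Cfsg.Agent.Lib.PU.RealQ

/-!
The realizing group built from a `Dat`.
-/

set_option autoImplicit false

namespace Cfsg.Agent.PU

open Cfsg Cfsg.FusionSystem Subgroup Cfsg.Agent.FT
open Cfsg.Agent.H6 (cj RealizedIn SylIn)
open Cfsg.Agent.H9 (U4)
open Cfsg.Agent.SP (sA sB sZ sX)
open scoped commutatorElement

theorem Ker.z_eq {K : Type*} [Field K] {sp : Bool} {G : Type*} [Group G] {w : U4 K →* G}
    (h : Ker sp w) {a b : U4 K} (e : w a = w b) : a.z = b.z := by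
  have := ((h (a⁻¹ * b)).1 (by rw [map_mul, map_inv, e, inv_mul_cancel])).2.1
  rw [SP.mul_z, SP.inv_z] at this
  linear_combination -this

theorem Dat.center_eq {K : Type*} [Field K] {sp : Bool} {σ : K ≃+* K} {G0 : Type*} [Group G0]
    {w : U4 K →* G0} {δ : Tor K →* MulAut G0} {τ : MulAut G0} (h : Dat sp σ w δ τ) :
    center G0 = ⊥ := by
  haveI := h.simple
  refine (IsSimpleGroup.eq_bot_or_eq_top_of_normal (center G0) inferInstance).resolve_right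
    fun e => ?_
  have h1 : w ⟨0, 0, 0, 1⟩ ∈ center G0 := e ▸ mem_top _
  have h2 := mem_center_iff.1 h1 (w ⟨0, 0, 1, 0⟩)
  have := ((h.ker (⟨0, 0, 0, 1⟩ * ⟨0, 0, 1, 0⟩ * (⟨0, 0, 1, 0⟩ * ⟨0, 0, 0, 1⟩)⁻¹)).1 (by
    rw [map_mul, map_inv, map_mul, map_mul, h2, mul_inv_cancel])).1
  simp [U4.mul_def, U4.inv_def] at this

theorem Dat.exists_ext {K : Type} [Field K] {sp : Bool} {σ : K ≃+* K}
    {Y : Subgroup (Tor K)} (hp : Par sp σ Y) {G0 : Type} [Group G0] [Finite G0]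
    {w : U4 K →* G0} {δ : Tor K →* MulAut G0} {τ : MulAut G0} (h : Dat sp σ w δ τ) :
    ∃ (G : Type) (_ : Group G) (_ : Finite G) (c : G0 →* G) (d : Y →* G) (t : G),
      Function.Injective c ∧ (∀ s x, d s * c x * (d s)⁻¹ = c (δ s x)) ∧
      (∀ x, t * c x * t = c (τ x)) ∧ t * t = 1 ∧
      (∀ s : Y, t * d s * t = d ⟨s.1.sw σ, hp.sw _ s.2⟩) ∧
      (∀ g, ∃ x s, g = c x * d s ∨ g = c x * d s * t) ∧
      ∀ g, (∀ x, g * c x = c x * g) → g = 1 := by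
  have hc : Function.Injective (MulAut.conj : G0 →* MulAut G0) :=
    (injective_iff_map_eq_one _).2 fun x hx => mem_bot.1 (h.center_eq ▸ mem_center_iff.2 fun y => by
      have := MulEquiv.congr_fun hx y
      exact (mul_inv_eq_iff_eq_mul.1 this).symm)
  have h1 : ∀ (φ : MulAut G0) x, φ * MulAut.conj x = MulAut.conj (φ x) * φ := fun φ x => by
    ext y; simp
  have h2 : ∀ s, τ * δ s = δ (s.sw σ) * τ := fun s => by rw [← h.td, mul_assoc, h.tt, mul_one]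
  have hτ : τ⁻¹ = τ := inv_eq_of_mul_eq_one_right h.tt
  let G : Subgroup (MulAut G0) :=
    { carrier := {φ | ∃ x, ∃ s ∈ Y, φ = MulAut.conj x * δ s ∨ φ = MulAut.conj x * δ s * τ}
      one_mem' := ⟨1, 1, one_mem _, .inl (by simp)⟩
      mul_mem' := by
        rintro _ _ ⟨x, s, hs, rfl | rfl⟩ ⟨y, r, hr, rfl | rfl⟩
        · exact ⟨x * δ s y, s * r, mul_mem hs hr, .inl (by
            rw [map_mul, map_mul, mul_assoc, ← mul_assoc (δ s), h1]; simp only [mul_assoc])⟩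
        · exact ⟨x * δ s y, s * r, mul_mem hs hr, .inr (by
            rw [map_mul, map_mul, mul_assoc, ← mul_assoc (δ s), ← mul_assoc (δ s), h1]
            simp only [mul_assoc])⟩
        · exact ⟨x * δ s (τ y), s * r.sw σ, mul_mem hs (hp.sw _ hr), .inr (by
            rw [map_mul, map_mul, mul_assoc, ← mul_assoc τ, h1, mul_assoc _ τ, h2, mul_assoc,
              ← mul_assoc (δ s), h1]
            simp only [mul_assoc])⟩
        · exact ⟨x * δ s (τ y), s * r.sw σ, mul_mem hs (hp.sw _ hr), .inl (by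
            rw [map_mul, map_mul, mul_assoc, ← mul_assoc τ, ← mul_assoc τ, h1, mul_assoc _ τ,
              mul_assoc _ _ τ, h.td, mul_assoc, ← mul_assoc (δ s), h1]
            simp only [mul_assoc])⟩
      inv_mem' := by
        rintro _ ⟨x, s, hs, rfl | rfl⟩
        · exact ⟨δ s⁻¹ x⁻¹, s⁻¹, inv_mem hs, .inl (by rw [← h1]; simp)⟩
        · exact ⟨τ (δ s⁻¹ x⁻¹), s⁻¹.sw σ, hp.sw _ (inv_mem hs), .inr (by
            rw [mul_assoc _ (δ (Tor.sw σ _)) τ, ← h2, ← mul_assoc, ← h1, mul_assoc τ, ← h1]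
            simp [hτ, mul_assoc])⟩ }
  refine ⟨G, inferInstance, inferInstance,
    MulAut.conj.codRestrict G fun x => ⟨x, 1, one_mem _, .inl (by simp)⟩,
    (δ.comp Y.subtype).codRestrict G fun s => ⟨1, s, s.2, .inl (by simp)⟩,
    ⟨τ, 1, 1, one_mem _, .inr (by simp)⟩, fun x y e => hc (congrArg Subtype.val e),
    fun s x => Subtype.ext ?_, fun x => Subtype.ext ?_, Subtype.ext h.tt,
    fun s => Subtype.ext (h.td s), ?_, fun g hg => Subtype.ext (MulEquiv.ext fun x => hc ?_)⟩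
  · change δ s * MulAut.conj x * (δ s)⁻¹ = MulAut.conj _
    rw [h1, mul_inv_cancel_right]
  · change τ * MulAut.conj x * τ = MulAut.conj _
    rw [h1, mul_assoc, h.tt, mul_one]
  · rintro ⟨_, x, s, hs, rfl | rfl⟩
    · exact ⟨x, ⟨s, hs⟩, .inl rfl⟩
    · exact ⟨x, ⟨s, hs⟩, .inr rfl⟩
  · have : g.1 * MulAut.conj x = MulAut.conj x * g.1 := congrArg Subtype.val (hg x)
    rw [h1] at this
    exact mul_right_cancel this

theorem Dat.real {K : Type} [Field K] [Fintype K] [CharP K 2] {sp : Bool} {σ : K ≃+* K}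
    {Y : Subgroup (Tor K)} (hp : Par sp σ Y) {G0 : Type} [Group G0] [Finite G0]
    {w : U4 K →* G0} {δ : Tor K →* MulAut G0} {τ : MulAut G0} (h : Dat sp σ w δ τ)
    (hG : Nonempty (G0 ≃* Matrix.ProjectiveSpecialLinearGroup (Fin 3) K) ∨
      (Nonempty (G0 ≃* PSp 2 K) ∧ ∃ e : ℕ, Odd e ∧ Fintype.card K = 2 ^ e)) :
    ∃ (G : Type) (_ : Group G) (_ : Finite G) (U : Subgroup G) (w' : U4 K →* G) (t' : G),
      SylIn 2 U ⊤ ∧ Fr (groupFusionSystem U) sp σ Y w' t' ∧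
      (groupFusionSystem U).StronglyClosed w'.range ∧ Last G := by
  obtain ⟨G, _, _, c, d, t, hc, hd, ht, htt, htd, hG', hC⟩ := h.exists_ext hp
  obtain ⟨w', hw⟩ : ∃ w' : U4 K →* G, ∀ u, w' u = c (w u) := ⟨c.comp w, fun _ => rfl⟩
  have hti : t⁻¹ = t := inv_eq_of_mul_eq_one_right htt
  have htw : ∀ u, t * w' u * t = w' (sw sp σ u) := fun u => by rw [hw, hw, ht, h.tw]
  have htw' : ∀ u, t * w' u = w' (sw sp σ u) * t := fun u => by
    rw [← htw, mul_assoc, htt, mul_one]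
  have hdw : ∀ s u, d s * w' u * (d s)⁻¹ = w' (dg s u) := fun s u => by rw [hw, hw, hd, h.dl]
  haveI hN : c.range.Normal := ⟨by
    rintro _ ⟨y, rfl⟩ g
    obtain ⟨x, s, rfl | rfl⟩ := hG' g
    · exact ⟨x * δ s y * x⁻¹, by rw [map_mul, map_mul, ← hd, map_inv]; group⟩
    · exact ⟨x * δ s (τ y) * x⁻¹, by
        rw [map_mul, map_mul, ← hd, ← ht, map_inv, mul_inv_rev, hti]; group⟩⟩
  have hH : ∀ g, g ∈ c.range ⊔ d.range ↔ ∃ x s, g = c x * d s := fun g => by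
    rw [mem_sup_of_normal_left]
    exact ⟨fun ⟨_, ⟨x, rfl⟩, _, ⟨s, rfl⟩, e⟩ => ⟨x, s, e.symm⟩,
      fun ⟨x, s, e⟩ => ⟨_, ⟨x, rfl⟩, _, ⟨s, rfl⟩, e.symm⟩⟩
  generalize hHd : c.range ⊔ d.range = H at hH
  have nrm : ∀ g ∈ H, (∀ u, g * w' u * g⁻¹ ∈ w'.range) →
      ∃ v, ∃ s ∈ Y, ∀ u, g * w' u * g⁻¹ = w' v * w' (dg s u) * (w' v)⁻¹ := fun g hg hn => by
    obtain ⟨x, s, rfl⟩ := (hH g).1 hg
    have e : ∀ u, c x * d s * w' u * (c x * d s)⁻¹ = c (x * w (dg s u) * x⁻¹) := fun u => by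
      rw [map_mul, map_mul, ← hw, ← hdw, map_inv]; group
    obtain ⟨v, r, hr, e'⟩ := h.nrm Y hp x (H6.mem_normalizer_of_conj_mem (by
      rintro _ ⟨u, rfl⟩
      obtain ⟨v, hv⟩ := hn ((dg s)⁻¹ u)
      rw [e, hw, MulAut.apply_inv_self] at hv
      exact ⟨v, hc hv⟩))
    exact ⟨v, r * s, mul_mem hr s.2, fun u => by
      rw [e, e', map_mul, map_mul, map_inv, hw, hw, map_mul dg, MulAut.mul_apply]⟩
  have tH : t ∉ H := fun hh => by
    obtain ⟨v, s, -, e⟩ := nrm t hh fun u => ⟨_, by rw [hti, htw]⟩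
    have := e ⟨0, 0, 0, 1⟩
    rw [hti, htw, ← map_inv, ← map_mul, ← map_mul, hw, hw] at this
    have := h.ker.z_eq (hc this)
    rw [SP.conj_z] at this
    simp [sw, dg_apply] at this
  have hor : ∀ g, g * t ∈ H ∨ g ∈ H := fun g => by
    obtain ⟨x, s, rfl | rfl⟩ := hG' g
    · exact .inr ((hH _).2 ⟨x, s, rfl⟩)
    · exact .inl ((hH _).2 ⟨x, s, by rw [mul_assoc, htt, mul_one]⟩)
  have hidx : H.index = 2 := index_eq_two_iff_exists_notMem_and.2 ⟨t, tH, hor⟩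
  have hNH : c.range ≤ H := hHd ▸ le_sup_left
  have hBN : w'.range ≤ c.range := fun _ ⟨u, e⟩ => ⟨w u, e ▸ (hw u).symm⟩
  have hodd : Odd (c.range.relIndex H) := by
    rw [← hHd, relIndex_sup_left]
    exact hp.odd.of_dvd_nat ((relIndex_dvd_card _ _).trans (card_range_dvd d))
  have hB : SylIn 2 w'.range H := by
    have := h.syl.map' c
    rw [← MonoidHom.range_eq_map, ← MonoidHom.range_comp,
      show c.comp w = w' from MonoidHom.ext fun u => (hw u).symm] at this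
    exact this.trans_of_not_dvd hNH hodd.not_two_dvd_nat
  let U : Subgroup G :=
    { carrier := {g | ∃ u, g = w' u ∨ g = w' u * t}
      one_mem' := ⟨1, .inl (by simp)⟩
      mul_mem' := by
        rintro _ _ ⟨u, rfl | rfl⟩ ⟨v, rfl | rfl⟩
        · exact ⟨u * v, .inl (by simp)⟩
        · exact ⟨u * v, .inr (by simp [mul_assoc])⟩
        · exact ⟨u * sw sp σ v, .inr (by rw [map_mul, mul_assoc, htw', mul_assoc])⟩
        · exact ⟨u * sw sp σ v, .inl (by rw [map_mul, ← htw]; simp only [mul_assoc])⟩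
      inv_mem' := by
        rintro _ ⟨u, rfl | rfl⟩
        · exact ⟨u⁻¹, .inl (by simp)⟩
        · exact ⟨sw sp σ u⁻¹, .inr (by rw [← htw', mul_inv_rev, hti, map_inv])⟩ }
  have hU : ∀ g, g ∈ U ↔ ∃ u, g = w' u ∨ g = w' u * t := fun _ => Iff.rfl
  have hBU : w'.range ≤ U := fun _ ⟨u, e⟩ => ⟨u, .inl e.symm⟩
  have htU : t ∈ U := ⟨1, .inr (by simp)⟩
  have h4 : ∀ u, w' u ^ 4 = 1 := fun u => by rw [← map_pow, U4_pow_four, map_one]
  have hmor : ∀ (P : Subgroup G) g, P ≤ U → (∀ x ∈ P, g * x * g⁻¹ ∈ U) →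
      (groupFusionSystem U).IsMor P fun x => g * x * g⁻¹ := fun P g h1 h2 =>
    groupFusionSystem_isMor.2 ⟨h1, h2, g, fun _ _ => rfl⟩
  refine ⟨G, inferInstance, inferInstance, U, w', t, ⟨le_top, ?_, fun Q hQ hUQ _ => ?_⟩,
    ⟨fun u => by rw [hw, map_eq_one_iff _ hc, h.ker], hU, fun hh => tH (hNH (hBN hh)), htt, htw,
      fun f hf => ?_, fun s hs => ⟨_, hmor _ (d ⟨s, hs⟩) hBU ?_, hdw ⟨s, hs⟩⟩, fun s hs e => ?_,
      fun s => ?_⟩, ⟨hBU, fun R hR φ hφ x => ?_⟩, ?_⟩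
  · rintro ⟨_, u, rfl | rfl⟩
    · exact ⟨2, Subtype.ext (h4 u)⟩
    · refine ⟨3, Subtype.ext ?_⟩
      change (w' u * t) ^ (2 * 4) = 1
      rw [pow_mul, pow_two, mul_assoc, ← mul_assoc t, htw, ← map_mul, h4]
  · have e := hB.2.2 (Q ⊓ H) hQ.to_inf_left (le_inf (hBU.trans hUQ) hB.1) inf_le_right
    refine le_antisymm (fun q hq => ?_) hUQ
    rcases hor q with h1 | h1
    · obtain ⟨u, hu⟩ := e.le ⟨mul_mem hq (hUQ htU), h1⟩
      exact ⟨u, .inr (by rw [hu, mul_assoc, htt, mul_one])⟩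
    · exact hBU (e.le ⟨hq, h1⟩)
  · obtain ⟨-, -, g, hg⟩ := groupFusionSystem_isMor.1 hf.mor
    have hn : ∀ u, g * w' u * g⁻¹ ∈ w'.range := fun u => hg _ ⟨u, rfl⟩ ▸ hf.mapsTo _ ⟨u, rfl⟩
    by_cases h1 : g ∈ H
    · obtain ⟨v, s, hs, e⟩ := nrm g h1 hn
      exact ⟨_, hBU ⟨v, rfl⟩, s, hs, fun u => by rw [hg _ ⟨u, rfl⟩, e]⟩
    · obtain ⟨v, s, hs, e⟩ := nrm (t * g) ((mul_mem_iff_of_index_two hidx).2 (by simp [tH, h1]))
        fun u => by
          obtain ⟨v, hv⟩ := hn u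
          exact ⟨sw sp σ v, by rw [← htw, hv, mul_inv_rev, hti]; group⟩
      refine ⟨t * w' v, mul_mem htU (hBU ⟨v, rfl⟩), s, hs, fun u => ?_⟩
      rw [hg _ ⟨u, rfl⟩, mul_inv_rev, mul_assoc t, ← mul_assoc, mul_assoc t, ← e]
      simp only [mul_inv_rev, hti, ← mul_assoc, htt, one_mul]
      rw [mul_assoc _ t, htt, mul_one]
  · rintro _ ⟨u, rfl⟩
    exact hBU ⟨_, (hdw _ u).symm⟩
  · have e1 : d ⟨s, hs⟩ * t * (d ⟨s, hs⟩)⁻¹ = t := by
      have := htd ⟨s, hs⟩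
      simp only [e] at this
      rw [mul_inv_eq_iff_eq_mul]
      conv_lhs => rw [← this, mul_assoc, htt, mul_one]
    refine ⟨_, hmor _ (d ⟨s, hs⟩) le_rfl ?_, hdw ⟨s, hs⟩, e1⟩
    rintro _ ⟨u, rfl | rfl⟩
    · exact hBU ⟨_, (hdw _ u).symm⟩
    · rw [← conj_mul, hdw, e1]
      exact ⟨_, .inr rfl⟩
  · obtain ⟨g, hg⟩ := h.low s
    have e : ∀ u ∈ sB K, c g * w' u * (c g)⁻¹ = w' (PU.low s u) := fun u hu => by
      rw [hw, hw, ← hg u hu, map_mul, map_mul, map_inv]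
    refine ⟨_, hmor _ (c g) ((map_le_range _ _).trans hBU) ?_, e⟩
    rintro _ ⟨u, hu, rfl⟩
    exact hBU ⟨_, (e u hu).symm⟩
  · obtain ⟨-, h1, g, hg⟩ := hφ
    obtain ⟨u, e | e⟩ := h1 x
    · exact ⟨u, e.symm⟩
    · have : φ x ∈ H := hNH (hg x ▸ hN.conj_mem _ (hBN (hR x.2)) g)
      rw [e] at this
      exact absurd ((H.mul_mem_cancel_left (hB.1 ⟨u, rfl⟩)).1 this) tH
  · have e := MonoidHom.ofInjective hc
    haveI := h.simple
    refine last_of c.range H e.symm.isSimpleGroup (fun hh => ?_) (eq_bot_iff.2 fun g hg => hC g fun x =>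
      (mem_centralizer_iff.1 hg _ ⟨x, rfl⟩).symm) hNH hidx hodd K
      (hG.imp (fun ⟨f⟩ => ⟨e.symm.trans f⟩) fun ⟨⟨f⟩, h2⟩ => ⟨⟨e.symm.trans f⟩, h2⟩)
    obtain ⟨x, hx⟩ := exists_ne (1 : G0)
    refine hx (mem_bot.1 (h.center_eq ▸ mem_center_iff.2 fun y => e.injective ?_))
    rw [map_mul, map_mul, hh.is_comm.comm]

end Cfsg.Agent.PU
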