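import Cfsg.Agent.Lib.PU.RealQ

/-!
The data for `PSL₃(K)`.
-/

set_option autoImplicit false
set_option linter.unusedSimpArgs false

namespace Cfsg.Agent.PU

open Cfsg Cfsg.FusionSystem Subgroup Cfsg.Agent.FT
open Cfsg.Agent.H6 (cj RealizedIn SylIn)
open Cfsg.Agent.H9 (U4)
open Cfsg.Agent.SP (sA sB sZ sX)
open scoped commutatorElement
open Cfsg.Agent.S5259 (uu uu_mul uu_inv uu_inj uu_zero UU)

section
variable {K : Type*} [Field K]

/-- The parametrization of the unitriangular group. -/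
def w3 (K : Type*) [Field K] : U4 K →* Matrix.SpecialLinearGroup (Fin 3) K :=
  MonoidHom.mk' (fun u => uu u.i u.z u.y) fun a b => by
    rw [uu_mul]; simp only [U4.mul_def, add_assoc]

theorem w3_apply (u : U4 K) : w3 K u = uu u.i u.z u.y := rfl

theorem uu_val (a b c : K) : (uu a b c).1 = !![1, a, c; 0, 1, b; 0, 0, 1] := rfl

/-- The diagonal entries. -/
def d3 (s : Tor K) : Fin 3 → Kˣ := ![s.a * s.b, s.b, 1]

/-- The graph-field automorphism. -/
def t3 (σ : K ≃+* K) (g : Matrix.SpecialLinearGroup (Fin 3) K) :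
    Matrix.SpecialLinearGroup (Fin 3) K :=
  ⟨((g⁻¹).1.map σ).transpose.submatrix Fin.revPerm Fin.revPerm, by
    rw [Matrix.det_submatrix_equiv_self, Matrix.det_transpose]
    exact (RingEquiv.map_det σ _).symm.trans (by rw [(g⁻¹).2, map_one])⟩

theorem t3_apply (σ : K ≃+* K) (g : Matrix.SpecialLinearGroup (Fin 3) K) (i j : Fin 3) :
    (t3 σ g).1 i j = σ ((g⁻¹).1 j.rev i.rev) := rfl

theorem t3_mul (σ : K ≃+* K) (g h : Matrix.SpecialLinearGroup (Fin 3) K) :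
    t3 σ (g * h) = t3 σ g * t3 σ h := by
  refine Subtype.ext ?_
  change _ = (t3 σ g).1 * (t3 σ h).1
  simp only [t3]
  rw [Matrix.submatrix_mul_equiv, ← Matrix.transpose_mul, mul_inv_rev]
  exact congrArg (fun A : Matrix (Fin 3) (Fin 3) K => A.transpose.submatrix Fin.revPerm Fin.revPerm)
    (Matrix.map_mul (f := σ))

end

theorem exists_dat_L3 {K : Type*} [Field K] [Fintype K] [CharP K 2] {σ : K ≃+* K}
    (hσ : ∀ x, σ (σ x) = x) :
    ∃ (w : U4 K →* Matrix.ProjectiveSpecialLinearGroup (Fin 3) K) (δ : Tor K →* MulAut _)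
      (τ : MulAut _), Dat false σ w δ τ := by
  classical
  have e : ∀ x, σ⁻¹ x = σ x := fun x => by
    change σ.symm x = _
    rw [RingEquiv.symm_apply_eq, hσ]
  obtain ⟨δ, hδ⟩ := exists_autHom (T := Tor K)
    (⟨⟨fun g => g.1, rfl⟩, fun _ _ => rfl⟩ : Matrix.SpecialLinearGroup (Fin 3) K →* Matrix _ _ K)
    Subtype.val_injective (fun s => dM (d3 s) s.ρ) (fun s => dM_mul _ _) (fun a => by
      ext i j; fin_cases i <;> fin_cases j <;> simp [dM_apply, d3]) (fun s t a => by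
      rw [← dM_dM]; congr 1; ext i; fin_cases i <;> simp [d3]; ring)
    fun s g => ⟨⟨dM (d3 s) s.ρ g.1, by rw [det_dM, g.2, map_one]⟩, rfl⟩
  replace hδ : ∀ s g, (δ s g).1 = dM (d3 s) s.ρ g.1 := hδ
  have hi : ∀ g, (t3 σ g)⁻¹ = t3 σ g⁻¹ := fun g =>
    (map_inv (MonoidHom.mk' (t3 σ) (t3_mul σ)) g).symm
  obtain ⟨τ, hτ, hτ'⟩ := exists_invol (t3 σ) (t3_mul σ) fun g => by
    ext i j
    rw [t3_apply, hi, t3_apply, inv_inv, hσ, Fin.rev_rev, Fin.rev_rev]
  have hr : (w3 K).range = UU K := by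
    ext g
    exact ⟨fun ⟨u, h⟩ => ⟨_, _, _, h.symm⟩, fun ⟨a, b, c, h⟩ => ⟨⟨0, c, b, a⟩, h.symm⟩⟩
  refine ⟨_, _, _, Dat0.quot (w := w3 K) (δ := δ) (τ := τ) ⟨fun u => ?_, ?_, fun s u => ?_, hτ,
    fun u => ?_, fun s => ?_, fun Y hY g hg => ?_, fun s => ?_⟩ (fun z hz => ?_) (simple_PSL3 K)⟩
  · rw [w3_apply, ← uu_zero]
    exact ⟨fun h => ⟨(uu_inj h).2.2, (uu_inj h).2.1, (uu_inj h).1, by simp⟩, fun h => by
      rw [h.1, h.2.1, h.2.2.1]⟩
  · obtain ⟨T, hT⟩ := S5259.sylow_UU (K := K) 2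
    rw [hr, ← hT]
    exact H6.sylIn_top T
  · refine Subtype.ext ?_
    rw [hδ, w3_apply, w3_apply, dg_apply]
    ext i j
    fin_cases i <;> fin_cases j <;> simp [dM_apply, d3, uu_val]
    all_goals field_simp
  · rw [hτ', w3_apply, w3_apply]
    ext i j
    rw [t3_apply, uu_inv]
    fin_cases i <;> fin_cases j <;> simp [uu_val, sw, e, CharTwo.sub_eq_add, CharTwo.neg_eq, add_comm]
  · ext g i j
    change (τ (δ s (τ g))).1 i j = (δ _ g).1 i j
    rw [hτ', t3_apply, ← map_inv, hδ, ← map_inv, hτ', dM_apply, t3_apply, hδ, dM_apply, inv_inv,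
      Fin.rev_rev, Fin.rev_rev, map_mul, map_mul, Hig.aut_comm' σ s.ρ, hσ]
    fin_cases i <;> fin_cases j <;> simp [d3, Tor.sw, e, mul_comm, mul_left_comm, -mul_eq_mul_left_iff, -mul_eq_mul_right_iff] <;> field_simp
  · obtain ⟨v, k⟩ := hg ⟨0, 0, 1, 1⟩
    obtain ⟨v', k'⟩ := hg ⟨0, 0, 1, 0⟩
    have k1 : (uu (1 : K) 1 0).1 * g.1 = g.1 * (uu v.i v.z v.y).1 := congrArg Subtype.val k
    have k2 : (uu (0 : K) 1 0).1 * g.1 = g.1 * (uu v'.i v'.z v'.y).1 := congrArg Subtype.val k'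
    have e1 := congrFun (congrFun k1 0) 0
    have e2 := congrFun (congrFun k1 1) 0
    have e3 := congrFun (congrFun k1 1) 1
    simp [uu_val, Matrix.mul_apply, Fin.sum_univ_three] at e1 e2
    simp [uu_val, Matrix.mul_apply, Fin.sum_univ_three, e1] at e3
    have hd := g.2
    rw [Matrix.det_fin_three, e1, e2, e3] at hd
    replace hd : g.1 0 0 * g.1 1 1 * g.1 2 2 = 1 := by linear_combination hd
    have h0 : g.1 0 0 ≠ 0 := fun h => by simp [h] at hd
    have h1 : g.1 1 1 ≠ 0 := fun h => by simp [h] at hd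
    have h2 : g.1 2 2 ≠ 0 := fun h => by simp [h] at hd
    refine ⟨⟨0, g.1 0 2 / g.1 2 2, g.1 1 2 / g.1 2 2, g.1 0 1 / g.1 1 1⟩, _,
      hY.mem_l3 (Units.mk0 _ h0) (Units.mk0 _ h2)⁻¹, fun u => ?_⟩
    rw [← map_inv, ← map_mul, ← map_mul, mul_inv_eq_iff_eq_mul, w3_apply, w3_apply]
    refine Subtype.ext ?_
    change g.1 * _ = _ * g.1
    ext i j
    fin_cases i <;> fin_cases j <;>
      simp [uu_val, Matrix.mul_apply, Fin.sum_univ_three, e1, e2, e3, dg_apply, U4.mul_def,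
        U4.inv_def] <;> field_simp <;> grind
  · obtain ⟨g, hg⟩ : ∃ g : Matrix.SpecialLinearGroup (Fin 3) K, g.1 = !![1, 0, 0; 0, 1, 0; 0, s, 1] :=
      ⟨⟨_, by simp [Matrix.det_fin_three]⟩, rfl⟩
    refine ⟨g, fun u hu => ?_⟩
    rw [mul_inv_eq_iff_eq_mul, w3_apply, w3_apply, SP.mem_sB.1 hu]
    refine Subtype.ext ?_
    change g.1 * (uu _ _ _).1 = (uu _ _ _).1 * g.1
    rw [hg]
    ext i j
    fin_cases i <;> fin_cases j <;>
      simp [uu_val, Matrix.mul_apply, Fin.sum_univ_three, low] <;> grind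
  · obtain ⟨r, hr, h⟩ := Matrix.SpecialLinearGroup.mem_center_iff.1 hz
    refine Subtype.ext ?_
    change z.1 ^ 3 = 1
    rw [← h, ← map_pow, show r ^ 3 = 1 by simpa using hr, map_one]

end Cfsg.Agent.PU
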