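import Cfsg.Agent.Lib.PU.RealQ
import Cfsg.Agent.Lib.SP.Main

/-!
The data for `PSp₄(K)`.
-/

set_option autoImplicit false
set_option linter.unusedSimpArgs false
set_option linter.unusedSectionVars false

namespace Cfsg.Agent.PU

open Cfsg Cfsg.FusionSystem Subgroup Cfsg.Agent.FT
open Cfsg.Agent.H6 (cj RealizedIn SylIn)
open Cfsg.Agent.H9 (U4)
open Cfsg.Agent.SP (sA sB sZ sX)
open scoped commutatorElement
open Sum

section
variable {K : Type*} [Field K]

local notation "I4" => Fin 2 ⊕ Fin 2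
local notation "Sp4" => Matrix.symplecticGroup (Fin 2)

/-- First index of the pair. -/
def p1 : I4 → I4 := Sum.elim (fun _ => inl 0) ![inr 0, inl 1]
/-- Second index of the pair. -/
def p2 : I4 → I4 := Sum.elim ![inl 1, inr 1] ![inr 1, inr 0]

/-- The matrix of minors. -/
def gam (g : Matrix I4 I4 K) : Matrix I4 I4 K :=
  Matrix.of fun i j => g (p1 i) (p1 j) * g (p2 i) (p2 j) + g (p1 i) (p2 j) * g (p2 i) (p1 j)

theorem gam_apply (g : Matrix I4 I4 K) (i j : I4) :
    gam g i j = g (p1 i) (p1 j) * g (p2 i) (p2 j) + g (p1 i) (p2 j) * g (p2 i) (p1 j) := rfl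

theorem gam_transpose (g : Matrix I4 I4 K) : gam g.transpose = (gam g).transpose := by
  ext i j
  simp only [gam_apply, Matrix.transpose_apply]
  ring

theorem gam_map (g : Matrix I4 I4 K) (ρ : K ≃+* K) : gam (g.map ρ) = (gam g).map ρ := by
  ext i j
  simp [gam_apply]

variable [CharP K 2]

theorem sp_row {g : Matrix I4 I4 K} (hg : g ∈ Sp4 K) (i j : I4) :
    g i (inl 0) * g j (inr 0) + g i (inr 0) * g j (inl 0) + g i (inl 1) * g j (inr 1) +
      g i (inr 1) * g j (inl 1) = Matrix.J (Fin 2) K i j := by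
  rw [← SymplecticGroup.mem_iff.1 hg]
  simp [Matrix.J, Matrix.mul_apply, Fintype.sum_sum_type, Fin.sum_univ_two, CharTwo.neg_eq]
  ring

theorem sp_col {g : Matrix I4 I4 K} (hg : g ∈ Sp4 K) (i j : I4) :
    g (inl 0) i * g (inr 0) j + g (inr 0) i * g (inl 0) j + g (inl 1) i * g (inr 1) j +
      g (inr 1) i * g (inl 1) j = Matrix.J (Fin 2) K i j :=
  sp_row (SymplecticGroup.transpose_mem hg) i j

theorem J_p (i : I4) : Matrix.J (Fin 2) K (p1 i) (p2 i) = 0 := by
  rcases i with i | i <;> fin_cases i <;> simp [Matrix.J, p1, p2]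

theorem gam_mul {g h : Matrix I4 I4 K} (hg : g ∈ Sp4 K) (hh : h ∈ Sp4 K) :
    gam (g * h) = gam g * gam h := by
  ext i j
  have e1 := sp_row hg (p1 i) (p2 i)
  have e2 := sp_col hh (p1 j) (p2 j)
  rw [J_p] at e1 e2
  simp only [gam_apply, Matrix.mul_apply, Fintype.sum_sum_type, Fin.sum_univ_two]
  generalize p1 i = a, p2 i = b, p1 j = c, p2 j = d at *
  simp only [p1, p2, Sum.elim_inl, Sum.elim_inr, Matrix.cons_val_zero, Matrix.cons_val_one]
  grind

theorem gam_J : gam (Matrix.J (Fin 2) K) = Matrix.J (Fin 2) K := by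
  ext i j
  rcases i with i | i <;> rcases j with j | j <;> fin_cases i <;> fin_cases j <;>
    simp [Matrix.J, p1, p2, gam_apply, CharTwo.neg_eq]

theorem gam_mem {g : Matrix I4 I4 K} (hg : g ∈ Sp4 K) : gam g ∈ Sp4 K := by
  have hJ := SymplecticGroup.J_mem (Fin 2) K
  rw [SymplecticGroup.mem_iff, ← gam_transpose, ← gam_J, ← gam_mul hg hJ,
    ← gam_mul (mul_mem hg hJ) (SymplecticGroup.transpose_mem hg), SymplecticGroup.mem_iff.1 hg]

theorem gam_gam {g : Matrix I4 I4 K} (hg : g ∈ Sp4 K) (i j : I4) : gam (gam g) i j = g i j ^ 2 := by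
  have e1 := sp_col hg (inl 0) (inl 1)
  have e2 := sp_col hg (inl 0) (inr 0)
  have e3 := sp_col hg (inl 0) (inr 1)
  have e4 := sp_col hg (inl 1) (inr 0)
  have e5 := sp_col hg (inl 1) (inr 1)
  have e6 := sp_col hg (inr 0) (inr 1)
  simp [Matrix.J, CharTwo.neg_eq] at e1 e2 e3 e4 e5 e6
  rcases i with i | i <;> rcases j with j | j <;> fin_cases i <;> fin_cases j <;>
    simp [p1, p2, gam_apply] <;> grind

/-- The diagonal entries. -/
def d4 (s : Tor K) : I4 → Kˣ := Sum.elim ![s.a * s.b, s.b] ![s.a⁻¹, 1]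

theorem map_mem_sp {g : Matrix I4 I4 K} (hg : g ∈ Sp4 K) (ρ : K ≃+* K) : g.map ρ ∈ Sp4 K := by
  rw [SymplecticGroup.mem_iff]
  ext i j
  have := congrArg ρ (sp_row hg i j)
  rcases i with i | i <;> rcases j with j | j <;> fin_cases i <;> fin_cases j <;>
    simp [Matrix.J, Matrix.mul_apply, Fintype.sum_sum_type, Fin.sum_univ_two, CharTwo.neg_eq]
      at this ⊢ <;> linear_combination this

theorem dM_mem {g : Matrix I4 I4 K} (hg : g ∈ Sp4 K) (s : Tor K) : dM (d4 s) s.ρ g ∈ Sp4 K := by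
  rw [SymplecticGroup.mem_iff]
  ext i j
  have := sp_row (map_mem_sp hg s.ρ) i j
  have ha := s.a.ne_zero
  have hb := s.b.ne_zero
  rcases i with i | i <;> rcases j with j | j <;> fin_cases i <;> fin_cases j <;>
    simp [Matrix.J, Matrix.mul_apply, Fintype.sum_sum_type, Fin.sum_univ_two, CharTwo.neg_eq,
      dM_apply, d4] at this ⊢ <;> field_simp <;> grind

end

set_option maxHeartbeats 2000000 in
theorem exists_dat_Sp {K : Type*} [Field K] [Fintype K] [CharP K 2] {σ : K ≃+* K}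
    (hσ : ∀ x, σ (σ x) = x ^ 2) (h : 2 < Nat.card K) :
    ∃ (w : U4 K →* PSp 2 K) (δ : Tor K →* MulAut _) (τ : MulAut _), Dat true σ w δ τ := by
  classical
  have e0 : ∀ x, σ⁻¹ (σ x) = x := σ.symm_apply_apply
  have e : ∀ x, σ⁻¹ x ^ 2 = σ x := fun x => by
    rw [← hσ]; exact congrArg σ (σ.apply_symm_apply x)
  obtain ⟨δ, hδ⟩ := exists_autHom (T := Tor K) (Matrix.symplecticGroup (Fin 2) K).subtype
    Subtype.val_injective (fun s => dM (d4 s) s.ρ) (fun s => dM_mul _ _) (fun a => by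
      ext i j
      rcases i with i | i <;> rcases j with j | j <;> fin_cases i <;> fin_cases j <;>
        simp [dM_apply, d4]) (fun s t a => by
      rw [← dM_dM]; congr 1; ext i
      rcases i with i | i <;> fin_cases i <;> simp [d4] <;> ring)
    fun s g => ⟨⟨_, dM_mem g.2 s⟩, rfl⟩
  replace hδ : ∀ s g, (δ s g).1 = dM (d4 s) s.ρ g.1 := hδ
  obtain ⟨τ, hτ, hτ'⟩ := exists_invol (G := Matrix.symplecticGroup (Fin 2) K)
    (fun g => ⟨gam (g.1.map (σ⁻¹ :)), gam_mem (map_mem_sp g.2 _)⟩) (fun a b => Subtype.ext (by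
      change gam ((a.1 * b.1).map (σ⁻¹ :)) = gam _ * gam _
      rw [Matrix.map_mul, gam_mul (map_mem_sp a.2 _) (map_mem_sp b.2 _)])) fun g => by
    ext i j
    change gam ((gam _).map _) i j = _
    rw [gam_map, Matrix.map_apply, gam_gam (map_mem_sp g.2 _), Matrix.map_apply, e, e0]
  replace hτ' : ∀ g, (τ g).1 = gam (g.1.map (σ⁻¹ :)) := fun g => congrArg Subtype.val (hτ' g)
  have hw : ∀ u, (U4.toSp K u).1 = U4.mat u := fun _ => rfl
  refine ⟨_, _, _, Dat0.quot (w := U4.toSp K) (δ := δ) (τ := τ) ⟨fun u => ?_, ?_, fun s u => ?_, hτ,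
    fun u => ?_, fun s => ?_, fun Y hY g hg => ?_, fun s => ?_⟩ (fun z hz => ?_) (simple_PSp K h)⟩
  · rw [map_eq_one_iff _ U4.toSp_injective]
    exact ⟨fun h => by simp [h, U4.one_def], fun h => U4.ext (h.2.2.2 rfl) h.1 h.2.1 h.2.2.1⟩
  · obtain ⟨T, hT⟩ := SP.exists_sylow_sp (K := K) (p := 2)
    rw [← hT]
    exact H6.sylIn_top T
  · refine Subtype.ext ?_
    rw [hδ, hw, hw, dg_apply]
    ext i j
    rcases i with i | i <;> rcases j with j | j <;> fin_cases i <;> fin_cases j <;>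
      simp [dM_apply, d4, U4.mat]
    all_goals field_simp
  · refine Subtype.ext ?_
    rw [hτ', hw, hw]
    ext i j
    rcases i with i | i <;> rcases j with j | j <;> fin_cases i <;> fin_cases j <;>
      simp [gam_apply, p1, p2, U4.mat, sw, ← e] <;> grind
  · have : τ * δ s = δ (s.sw σ) * τ := by
      ext g i j
      change (τ (δ s g)).1 i j = (δ _ (τ g)).1 i j
      rw [hτ', hδ, hδ, hτ', dM_apply, gam_apply, gam_apply]
      simp only [Matrix.map_apply, dM_apply, map_mul, map_add, map_inv₀, Hig.aut_comm' σ⁻¹ s.ρ]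
      have ha : σ⁻¹ (s.a : K) ≠ 0 := by simp
      have hb : σ⁻¹ (s.b : K) ≠ 0 := by simp
      rcases i with i | i <;> rcases j with j | j <;> fin_cases i <;> fin_cases j <;>
        simp [d4, p1, p2, Tor.sw, ← e] <;> field_simp
    rw [this, mul_assoc, hτ, mul_one]
  · have key : ∀ a : U4 K, ∃ b : U4 K, U4.mat a * g.1 = g.1 * U4.mat b := fun a => by
      obtain ⟨b, hb⟩ := hg a
      exact ⟨b, congrArg Subtype.val hb⟩
    obtain ⟨b₁, k₁⟩ := key ⟨1, 0, 0, 0⟩
    obtain ⟨b₂, k₂⟩ := key ⟨0, 1, 0, 0⟩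
    obtain ⟨b₃, k₃⟩ := key ⟨0, 0, 1, 0⟩
    obtain ⟨b₄, k₄⟩ := key ⟨0, 0, 0, 1⟩
    have e1 := congrFun (congrFun k₁ (inl 0)) (inl 0)
    have e2 := congrFun (congrFun k₂ (inl 0)) (inl 0)
    have e3 := congrFun (congrFun k₄ (inl 0)) (inl 0)
    have e4 := congrFun (congrFun k₃ (inl 1)) (inl 1)
    have e5 := congrFun (congrFun k₂ (inl 1)) (inl 1)
    simp [Matrix.mul_apply, Fintype.sum_sum_type, Fin.sum_univ_two, U4.mat] at e1 e2 e3
    simp [Matrix.mul_apply, Fintype.sum_sum_type, Fin.sum_univ_two, U4.mat, e3] at e4 e5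
    have c1 := sp_col g.2 (inl 0) (inr 0)
    have c2 := sp_col g.2 (inl 1) (inr 1)
    have c3 := sp_col g.2 (inl 0) (inr 1)
    simp [Matrix.J, CharTwo.neg_eq, e1, e2, e3, e4, e5] at c1 c2 c3
    have h0 : g.1 (inl 0) (inl 0) ≠ 0 := left_ne_zero_of_mul_eq_one c1
    have e6 := c3.resolve_left h0
    rw [e6, mul_zero, zero_add] at c2
    have h1 : g.1 (inl 1) (inl 1) ≠ 0 := left_ne_zero_of_mul_eq_one c2
    obtain ⟨D, hD⟩ : ∃ D : Matrix.symplecticGroup (Fin 2) K, D.1 = Matrix.diagonal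
        (Sum.elim ![g.1 (inl 0) (inl 0), g.1 (inl 1) (inl 1)]
          ![g.1 (inr 0) (inr 0), g.1 (inr 1) (inr 1)]) := ⟨⟨_, by
      rw [SymplecticGroup.mem_iff]
      ext i j
      rcases i with i | i <;> rcases j with j | j <;> fin_cases i <;> fin_cases j <;>
        simp [Matrix.J, Matrix.mul_apply, Fintype.sum_sum_type, Fin.sum_univ_two, c1, c2,
          mul_comm]⟩, rfl⟩
    have hv : ∀ i j, (D⁻¹ * g).1 i j * D.1 i i = g.1 i j := fun i j => by
      have : g.1 = D.1 * (D⁻¹ * g).1 := congrArg Subtype.val (mul_inv_cancel_left D g).symm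
      conv_rhs => rw [this, hD, Matrix.diagonal_mul]
      rw [hD, Matrix.diagonal_apply_eq, mul_comm]
    have h2 : g.1 (inr 0) (inr 0) ≠ 0 := right_ne_zero_of_mul_eq_one c1
    have h3 : g.1 (inr 1) (inr 1) ≠ 0 := right_ne_zero_of_mul_eq_one c2
    obtain ⟨v, hv'⟩ : D⁻¹ * g ∈ (U4.toSp K).range := by
      have a1 := hv (inl 0) (inl 0)
      have a2 := hv (inl 1) (inl 0)
      have a3 := hv (inr 0) (inl 0)
      have a4 := hv (inr 1) (inl 0)
      have a5 := hv (inl 1) (inl 1)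
      have a6 := hv (inr 0) (inl 1)
      have a7 := hv (inr 1) (inl 1)
      rw [hD] at a1 a2 a3 a4 a5 a6 a7
      simp only [Matrix.diagonal_apply_eq, Sum.elim_inl, Sum.elim_inr, Matrix.cons_val_zero,
        Matrix.cons_val_one, e1, e2, e3, e4, e5, mul_eq_zero, h0, h1, h2, h3, or_false,
        mul_eq_right₀ h0, mul_eq_right₀ h1] at a1 a2 a3 a4 a5 a6 a7
      exact U4.mem_range a1 a2 a3 a4 a5 a6 a7
    have hs : ∀ u, D * U4.toSp K u * D⁻¹ = U4.toSp K (dg ⟨Units.mk0 _ h0 * (Units.mk0 _ h1)⁻¹,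
        Units.mk0 _ h1 ^ 2, 1⟩ u) := fun u => by
      rw [mul_inv_eq_iff_eq_mul]
      refine Subtype.ext ?_
      change D.1 * U4.mat _ = U4.mat _ * D.1
      rw [hD]
      ext i j
      rw [Matrix.diagonal_mul, Matrix.mul_diagonal]
      rcases i with i | i <;> rcases j with j | j <;> fin_cases i <;> fin_cases j <;>
        simp [U4.mat, dg_apply] <;> field_simp <;> grind
    refine ⟨dg ⟨Units.mk0 _ h0 * (Units.mk0 _ h1)⁻¹, Units.mk0 _ h1 ^ 2, 1⟩ v, _, hY.mem_sp (Units.mk0 _ h0 * (Units.mk0 _ h1)⁻¹) (Units.mk0 _ h1 ^ 2),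
      fun u => ?_⟩
    rw [← hs, ← hs, hv']
    group
  · obtain ⟨g, hg⟩ : ∃ g : Matrix.symplecticGroup (Fin 2) K,
        g.1 = Matrix.fromBlocks 1 0 !![0, 0; 0, s] 1 := ⟨⟨_, by
      rw [SymplecticGroup.mem_iff]
      ext i j
      rcases i with i | i <;> rcases j with j | j <;> fin_cases i <;> fin_cases j <;>
        simp [Matrix.J, Matrix.mul_apply, Fintype.sum_sum_type, Fin.sum_univ_two]⟩, rfl⟩
    refine ⟨g, fun u hu => ?_⟩
    rw [mul_inv_eq_iff_eq_mul]
    refine Subtype.ext ?_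
    change g.1 * U4.mat _ = U4.mat _ * g.1
    rw [hg]
    ext i j
    rcases i with i | i <;> rcases j with j | j <;> fin_cases i <;> fin_cases j <;>
      simp [U4.mat, Matrix.mul_apply, Fintype.sum_sum_type, Fin.sum_univ_two, low,
        SP.mem_sB.1 hu] <;> grind
  · rw [center_Sp, mem_bot] at hz
    rw [hz, one_pow]

end Cfsg.Agent.PU
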