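import Cfsg.Agent.Lib.PU.Cmp
import Cfsg.Agent.Lib.PU.Fr3
import Cfsg.Agent.Lib.PU.Real0
import Cfsg.Agent.Lib.PU.RealL3
import Cfsg.Agent.Lib.PU.RealSp
import Cfsg.Agent.Lib.PU.J3
import Cfsg.Agent.Lib.PU.A6
import Cfsg.Agent.Lib.PU.L33

/-!
The generic case.
-/

set_option autoImplicit false

namespace Cfsg.Agent.PU

open Cfsg Cfsg.FusionSystem Subgroup Cfsg.Agent.FT
open Cfsg.Agent.H6 (cj RealizedIn SylIn)
open Cfsg.Agent.H9 (U4)
open Cfsg.Agent.SP (sA sB sZ sX)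
open scoped commutatorElement

variable {Ω : Type*} [Group Ω] {S : Subgroup Ω} [Finite S] {F F' : FusionSystem S}
  {A1 A2 : Subgroup Ω} {t : Ω} {φ : Ω → Ω}


theorem four_aut {K : Type*} [Field K] [Fintype K] [CharP K 2] (h4 : Nat.card K = 4)
    {σ : K ≃+* K} (hσ : σ ≠ 1) (x : K) : σ x = x ^ 2 := by
  obtain ⟨a, ha⟩ : ∃ a, σ a ≠ a := by
    by_contra h
    push Not at h
    exact hσ (RingEquiv.ext h)
  have h2 : (2 : K) = 0 := CharP.cast_eq_zero K 2
  have h0 : ∀ x : K, x * (x - 1) * (x ^ 2 + x + 1) = 0 := fun x => by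
    have := FiniteField.pow_card x
    rw [← Nat.card_eq_fintype_card, h4] at this
    linear_combination this
  have h1 : a ^ 2 + a + 1 = 0 := (mul_eq_zero.1 (h0 a)).resolve_left (mul_ne_zero
    (fun e => ha (by rw [e, map_zero])) fun e => ha (by rw [sub_eq_zero.1 e, map_one]))
  have h3 : ∀ x : K, x = 0 ∨ x = 1 ∨ x = a ∨ x = a + 1 := fun x => by
    have : x * ((x - 1) * ((x - a) * (x - (a + 1)))) = 0 := by
      linear_combination h0 x + x * (x - 1) * h1 - x * (x - 1) * (a * x + x + 1) * h2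
    simpa only [mul_eq_zero, sub_eq_zero] using this
  have h5 : σ a = a + 1 := by
    rcases h3 (σ a) with e | e | e | e
    · exact absurd (by rw [σ.injective (e.trans (map_zero σ).symm), map_zero]) ha
    · exact absurd (by rw [σ.injective (e.trans (map_one σ).symm), map_one]) ha
    · exact absurd e ha
    · exact e
  rcases h3 x with rfl | rfl | rfl | rfl
  · simp
  · simp
  · linear_combination h5 - h1 + (x + 1) * h2
  · rw [map_add, map_one, h5]
    linear_combination - h1 + h2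

theorem Str.concl (h : Str F A1 A2 t φ) (hS : IsPGroup 2 S) (hF : F.IsSaturated 2) : Concl F := by
  have := finite_of_le h.le1
  have := finite_of_le h.le2
  obtain ⟨e, he0, he⟩ : ∃ e, e ≠ 0 ∧ (A1 ⊓ A2).relIndex A1 = 2 ^ e := by
    obtain ⟨e, he⟩ := h.el1.isPGroup.index ((A1 ⊓ A2).subgroupOf A1)
    refine ⟨e, fun e0 => h.ne ?_, he⟩
    rw [e0] at he
    exact eq_of_le_of_card_ge ((relIndex_eq_one.1 he).trans inf_le_right) h.card.ge
  let K := GaloisField 2 e
  let _ : Fintype K := Fintype.ofFinite K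
  have hK : Fintype.card K = (A1 ⊓ A2).relIndex A1 := by
    rw [← Nat.card_eq_fintype_card, he]; exact GaloisField.card 2 e he0
  rcases Nat.eq_or_lt_of_le (show 2 ≤ Fintype.card K from Fintype.one_lt_card) with hq | hq
  · obtain ⟨w, t', hp, hf, hw⟩ := h.frame_two hS hF K hK hq.symm
    by_cases hc : F.StronglyClosed w.range
    · obtain ⟨U, B1, B2, s, ψ, hU, h1, -, h2, h3⟩ := model_A6
      obtain ⟨w', s', -, hf', hw'⟩ := h1.frame_two hU.isPGroup (H6.group_isSaturated hU) K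
        (by rw [h2, hq]) hq.symm
      refine ⟨_, inferInstance, inferInstance, hf.realizedIn hp hF hU hf' (iff_of_true hc (hw' ▸ h3)),
        .inr (.inr (.inr (.inl ⟨?_, .inl ⟨MulEquiv.refl _⟩⟩)))⟩
      rw [hf.card, Nat.card_eq_fintype_card, ← hq]; rfl
    · obtain ⟨G, _, _, U, B1, B2, s, ψ, hG, hU, h1, -, h2, h3⟩ := model_L33
      obtain ⟨w', s', -, hf', hw'⟩ := h1.frame_two hU.isPGroup (H6.group_isSaturated hU) K
        (by rw [h2, hq]) hq.symm
      exact ⟨G, inferInstance, inferInstance,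
        hf.realizedIn hp hF hU hf' (iff_of_false hc (hw' ▸ h3)), .inr (.inr (.inr (.inr (.inr hG))))⟩
  obtain ⟨sp, σ, Y, w, t', hp, hf, hw⟩ := h.frame_big hS hF K hK hq
  have hq' : 2 < Nat.card K := by rwa [Nat.card_eq_fintype_card]
  by_cases hc : F.StronglyClosed w.range
  · obtain ⟨G, _, _, U, w', s, hU, hf', h1, hG⟩ : ∃ (G : Type) (_ : Group G) (_ : Finite G)
        (U : Subgroup G) (w' : U4 K →* G) (t' : G), SylIn 2 U ⊤ ∧
        Fr (groupFusionSystem U) sp σ Y w' t' ∧ (groupFusionSystem U).StronglyClosed w'.range ∧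
        Last G := by
      cases sp
      · obtain ⟨w0, δ, τ, hd⟩ := exists_dat_L3 (σ := σ) hp.sq
        exact hd.real hp (.inl ⟨MulEquiv.refl _⟩)
      · obtain ⟨w0, δ, τ, hd⟩ := exists_dat_Sp (σ := σ) hp.sq hq'
        exact hd.real hp (.inr ⟨⟨MulEquiv.refl _⟩, hp.odd_exp⟩)
    exact ⟨G, inferInstance, inferInstance, hf.realizedIn hp hF hU hf' (iff_of_true hc h1),
      .inr (.inr (.inr (.inr (.inr hG))))⟩
  obtain ⟨hE, ⟨h4, rfl, hσ⟩ | ⟨h2, -⟩⟩ := hf.exc_of_not_sc hp hF hc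
  swap
  · omega
  obtain ⟨G, _, _, U, B1, B2, s, ψ, hG, hU, h1, -, h2, h3⟩ := model_J3
  have hs := H6.group_isSaturated hU
  obtain ⟨sp', σ', Y', w', s', hp', hf', hw'⟩ := h1.frame_big hU.isPGroup hs K
    (by rw [h2, ← h4, Nat.card_eq_fintype_card]) hq
  rw [← hw'] at h3
  obtain ⟨hE', ⟨-, rfl, hσ'⟩ | ⟨h2, -⟩⟩ := hf'.exc_of_not_sc hp' hs h3
  swap
  · omega
  obtain rfl : σ = σ' := RingEquiv.ext fun x => by rw [four_aut h4 hσ, four_aut h4 hσ']
  obtain rfl : Y = Y' := Subgroup.ext fun τ => by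
    rw [hf.mem_Y hp hF h4 hσ hE, hf'.mem_Y hp' hs h4 hσ hE']
  refine ⟨G, inferInstance, inferInstance, hf.realizedIn hp hF hU hf' (iff_of_false hc h3),
    .inr (.inr (.inr (.inr (.inl ⟨?_, hG⟩))))⟩
  rw [hf.card, h4]; rfl

end Cfsg.Agent.PU
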