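import Cfsg.Agent.Lib.PU.Sd

/-!
First consequences of `Str`.
-/

set_option autoImplicit false

namespace Cfsg.Agent.PU

open Cfsg Cfsg.FusionSystem Subgroup Cfsg.Agent.FT
open Cfsg.Agent.H6 (cj RealizedIn SylIn)
open Cfsg.Agent.H9 (U4)
open Cfsg.Agent.SP (sA sB sZ sX)
open scoped commutatorElement

variable {Ω : Type*} [Group Ω] {S : Subgroup Ω} [Finite S] {F F' : FusionSystem S}
  {A1 A2 : Subgroup Ω} {t : Ω} {φ : Ω → Ω}


omit [Finite S] in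
theorem card_relIndex_inf (P H : Subgroup Ω) :
    Nat.card H = P.relIndex H * Nat.card (P ⊓ H : Subgroup Ω) := by
  rw [← inf_relIndex_right, Subgroup.relIndex, ← ((P ⊓ H).subgroupOf H).index_mul_card,
    Nat.card_congr (subgroupOfEquivOfLe inf_le_right).toEquiv]

theorem Str.symm (h : Str F A1 A2 t φ) : Str F A2 A1 t fun x => t * φ (t⁻¹ * x * t) * t⁻¹ := by
  have e1 : ∀ x, t * x * t⁻¹ ∈ A1 ↔ x ∈ A2 := fun x => by rw [← h.t2, H6.conj_mem_cj_iff]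
  have e2 : ∀ x, t * x * t⁻¹ ∈ A2 ↔ x ∈ A1 := fun x => by rw [← h.t1, H6.conj_mem_cj_iff]
  have e3 : ∀ x, t * (t⁻¹ * x * t) * t⁻¹ = x := fun x => by group
  have e4 : ∀ x, t⁻¹ * (t * x * t⁻¹) * t = x := fun x => by group
  have i1 := isIso_conj F h.le1 h.tS
  have i2 := isIso_conj F h.le2 (S.inv_mem h.tS)
  rw [show A1.map _ = A2 from h.t1] at i1
  rw [show A2.map _ = A1 from (congrArg _ h.t1).symm.trans (H6.cj_inv_cj t A1), inv_inv] at i2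
  obtain ⟨d, hd, hd'⟩ := h.mv
  refine ⟨h.toPair.symm, h.tS, h.t2, h.t1, sup_comm A1 A2 ▸ h.idx, i1.comp' (h.iso.comp' i2),
    ⟨t * d * t⁻¹, ⟨(e2 _).2 hd.1, (e1 _).2 hd.2⟩, by rwa [e4, e1]⟩, fun d hd h1 h2 => ?_,
    h.card ▸ h.big⟩
  rw [e4, e1] at h2
  rw [← e3 d, h.cc _ ⟨(e2 _).1 ((e3 d).symm ▸ hd.1), (e1 _).1 ((e3 d).symm ▸ hd.2)⟩ ((e1 _).1 h1)
    ((e3 d).symm ▸ h2), mul_one, mul_inv_cancel]

theorem Str.not_mem (h : Str F A1 A2 t φ) : t ∉ A1 ⊔ A2 := fun e =>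
  h.ne ((H6.cj_eq_self_iff.2 (h.toPair.norm1 e)).symm.trans h.t1)

theorem Str.swap (h : Str F A1 A2 t φ) {s : Ω} (hs : s ∈ S) (h1 : s ∉ A1 ⊔ A2) :
    cj s A1 = A2 ∧ cj s A2 = A1 := by
  have hb := (h.idx s hs).resolve_left h1
  rw [show s = s * t * t⁻¹ by group, ← H6.cj_cj (s * t), ← H6.cj_cj (s * t),
    show cj t⁻¹ A1 = A2 from (congrArg _ h.t2).symm.trans (H6.cj_inv_cj t A2),
    show cj t⁻¹ A2 = A1 from (congrArg _ h.t1).symm.trans (H6.cj_inv_cj t A1)]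
  exact ⟨H6.cj_eq_self_iff.2 (h.toPair.symm.norm1 (sup_comm A1 A2 ▸ hb)),
    H6.cj_eq_self_iff.2 (h.toPair.norm1 hb)⟩

theorem Str.mul_mem (h : Str F A1 A2 t φ) {s s' : Ω} (hs : s ∈ S) (h1 : s ∉ A1 ⊔ A2)
    (hs' : s' ∈ S) (h1' : s' ∉ A1 ⊔ A2) : s * s' ∈ A1 ⊔ A2 := by
  by_contra e
  have := (h.swap (S.mul_mem hs hs') e).1
  rw [← H6.cj_cj, (h.swap hs' h1').1, (h.swap hs h1).2] at this
  exact h.ne this

theorem Str.normal (h : Str F A1 A2 t φ) : S ≤ 𝒩((A1 ⊔ A2 : Subgroup Ω)) := fun s hs => by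
  by_cases e : s ∈ A1 ⊔ A2
  · exact le_normalizer e
  · rw [← H6.cj_eq_self_iff, H6.cj_sup, (h.swap hs e).1, (h.swap hs e).2, sup_comm]

theorem Str.norm_eq (h : Str F A1 A2 t φ) : normalizerIn S A1 = A1 ⊔ A2 :=
  le_antisymm (fun _ hs => by_contra fun e =>
    h.ne ((H6.cj_eq_self_iff.2 hs.2).symm.trans (h.swap hs.1 e).1))
    fun _ hs => ⟨sup_le h.le1 h.le2 hs, h.toPair.norm1 hs⟩

theorem Str.relIndex (h : Str F A1 A2 t φ) : (A1 ⊔ A2).relIndex S = 2 :=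
  relIndex_eq_two_iff.2 ⟨t, h.tS, fun s hs => (h.idx s hs).elim
    (fun e => .inr ⟨e, fun e' => h.not_mem (((A1 ⊔ A2).mul_mem_cancel_left e).1 e')⟩)
    fun e => .inl ⟨e, fun e' => h.not_mem (((A1 ⊔ A2).mul_mem_cancel_left e').1 e)⟩⟩

theorem Str.card_eq (h : Str F A1 A2 t φ) : Nat.card S = 2 * Nat.card (A1 ⊔ A2 : Subgroup Ω) := by
  rw [card_relIndex_inf (A1 ⊔ A2) S, h.relIndex, inf_of_le_left (sup_le h.le1 h.le2)]

theorem Str.cenB (h : Str F A1 A2 t φ) : centralizerIn S (A1 ⊔ A2) ≤ A1 ⊓ A2 := fun s hs => by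
  have h1 : s ∈ 𝒞(A1) := centralizer_le (SetLike.coe_subset_coe.2 le_sup_left) hs.2
  have h2 : s ∈ 𝒞(A2) := centralizer_le (SetLike.coe_subset_coe.2 le_sup_right) hs.2
  have hb : s ∈ A1 ⊔ A2 := h.norm_eq.le ⟨hs.1, centralizer_le_normalizer _ h1⟩
  exact ⟨h.toPair.mem_of_cent hb h1, h.toPair.symm.mem_of_cent (sup_comm A1 A2 ▸ hb) h2⟩

theorem Str.eq_or (h : Str F A1 A2 t φ) {A : Subgroup Ω} (hA : A ≤ S) (he : El A)
    (hc : Nat.card A1 ≤ Nat.card A) : A = A1 ∨ A = A2 := by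
  have := finite_of_le h.le1
  have := finite_of_le h.le2
  have := finite_of_le hA
  by_cases hB : A ≤ A1 ⊔ A2
  · exact (h.toPair.le_or_le hB he).imp (fun e => eq_of_le_of_card_ge e hc)
      fun e => eq_of_le_of_card_ge e (h.card ▸ hc)
  exfalso
  obtain ⟨s, hs, hsB⟩ := SetLike.not_le_iff_exists.1 hB
  obtain ⟨s1, s2⟩ := h.swap (hA hs) hsB
  have h1 : (A1 ⊔ A2) ⊓ A ≤ A1 ⊓ A2 := fun x hx => by
    have e : s * x * s⁻¹ = x := by rw [he.comm hs hx.2, mul_inv_cancel_right]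
    rcases h.toPair.mem_of_sq hx.1 (he x hx.2) with e1 | e1
    · exact ⟨e1, e ▸ s1 ▸ H6.conj_mem_cj e1⟩
    · exact ⟨e ▸ s2 ▸ H6.conj_mem_cj e1, e1⟩
  have : Finite (A1 ⊓ A2 : Subgroup Ω) := finite_of_le (inf_le_left (b := A2))
  have h2 := card_relIndex_inf (A1 ⊔ A2) A
  have h3 := relIndex_le_of_le_right hA (h.relIndex.trans_ne two_ne_zero)
  have h4 := card_relIndex_inf (A1 ⊓ A2) A1
  rw [inf_of_le_left inf_le_left] at h4
  have h5 := card_le_of_le h1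
  have h6 : (A1 ⊓ A2).relIndex A1 ≠ 1 := fun e => h.toPair.not_le
    ((relIndex_eq_one.1 e).trans inf_le_right)
  have h7 := h.big
  have h8 := Nat.card_pos (α := (A1 ⊓ A2 : Subgroup Ω))
  rw [h.relIndex] at h3
  have h9 : Nat.card A ≤ 2 * Nat.card ((A1 ⊔ A2) ⊓ A : Subgroup Ω) :=
    h2 ▸ Nat.mul_le_mul_right _ h3
  have h10 : (A1 ⊓ A2).relIndex A1 = 2 := by
    have : (A1 ⊓ A2).relIndex A1 ≤ 2 := Nat.le_of_mul_le_mul_right (by omega) h8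
    have : (A1 ⊓ A2).relIndex A1 ≠ 0 := fun e => by rw [e] at h4; omega
    omega
  rw [h10] at h4
  have h11 := eq_of_le_of_card_ge h1 (by omega)
  have h12 : ∀ d ∈ A1 ⊓ A2, d ≠ 1 → φ d ∉ A2 := fun d hd d1 e => d1 (h.cc d hd e (by
    have e1 := conj_eq_of_mem_centralizer (h.toPair.cent (h.mul_mem (hA hs) hsB h.tS h.not_mem)) hd
    rwa [show t * d * t⁻¹ = s⁻¹ * (s * t * d * (s * t)⁻¹) * s by group, e1, mul_assoc,
      ← he.comm hs (h11.ge hd).2, inv_mul_cancel_left]))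
  have h13 : ∀ x y : (A1 ⊓ A2 : Subgroup Ω), x ≠ 1 → y ≠ 1 → x = y := fun x y hx hy => by
    have e := (mul_mem_iff_of_index_two h10 (a := ⟨_, h.iso.mapsTo _ x.2.1⟩)
      (b := ⟨_, h.iso.mapsTo _ y.2.1⟩)).2 (iff_of_false
        (fun e => h12 _ x.2 (fun e => hx (Subtype.ext e)) e.2) fun e => h12 _ y.2 (fun e => hy (Subtype.ext e)) e.2)
    refine Subtype.ext (((h.el1.inv x.2.1).symm.trans (inv_eq_of_mul_eq_one_right (by_contra
      fun e' => h12 _ (x * y).2 e' ?_))))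
    exact (h.iso.mor.map_mul x.2.1 y.2.1).symm ▸ e.2
  have : Nat.card (A1 ⊓ A2 : Subgroup Ω) ≤ 2 := (Nat.card_le_card_of_injective
    (fun x : (A1 ⊓ A2 : Subgroup Ω) => x = 1) fun x y e => by
      by_cases hx : x = 1
      exacts [hx.trans (e.mp hx).symm, h13 x y hx (mt e.mpr hx)]).trans (by simp)
  omega

theorem Str.img_or (h : Str F A1 A2 t φ) {A : Subgroup Ω} (he : El A)
    (hc : Nat.card A1 ≤ Nat.card A) {f : Ω → Ω} (hf : F.IsMor A f) :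
    img A f = A1 ∨ img A f = A2 :=
  h.eq_or hf.img_le (fun y hy => by
    obtain ⟨x, hx, rfl⟩ := hf.mem_img.1 hy
    rw [← hf.map_mul hx hx, he x hx, hf.map_one]) (hf.card_img ▸ hc)

theorem Str.fn (h : Str F A1 A2 t φ) : F.IsFullyNormalized A1 :=
  ⟨h.le1, fun Q hQ => by
    obtain ⟨f, hf⟩ := hQ.exists_isIso
    rcases h.img_or h.el1 le_rfl hf.mor with e | e <;> rw [← hf.img_eq, e]
    rw [h.norm_eq, h.symm.norm_eq, sup_comm]⟩

theorem Str.syl (h : Str F A1 A2 t φ) (hS : IsPGroup 2 S) (hF : F.IsSaturated 2) :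
    SylIn 2 (autInducedBy A2 A1) (F.autGroup A1) := by
  have h1 := hF.sylowIn hS h.fn
  have e : autInducedBy S A1 = autInducedBy A2 A1 := by
    refine le_antisymm (fun α hα => ?_) (autInducedBy_mono h.le2 _)
    obtain ⟨s, hs, hn, e⟩ := mem_autInducedBy_iff'.1 hα
    obtain ⟨a, ha, b, hb, rfl⟩ := h.toPair.exists_mul (h.norm_eq.le ⟨hs, hn⟩)
    refine mem_autInducedBy_iff.2 ⟨b, hb, fun x => ?_⟩
    rw [← equivFun_coe, e _ x.2, show a * b * x * (a * b)⁻¹ = a * (b * x * b⁻¹) * a⁻¹ by group,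
      h.el1.comm ha (conj_mem_of_mem_normalizer (h.toPair.norm1 (mem_sup_right hb)) x.2),
      mul_inv_cancel_right]
  rw [e] at h1
  exact ⟨h1.le, h1.isPGroup, fun Q hQ h2 h3 => h1.eq_of_le hQ h2 h3⟩

theorem Str.sd (h : Str F A1 A2 t φ) (hS : IsPGroup 2 S) (hF : F.IsSaturated 2) :
    Sd F A1 A2 := by
  have := finite_of_le h.le1
  refine ⟨h.toPair, h.fn, fun s hs => h.toPair.mem_of_cent
    (h.norm_eq.le (centralizerIn_le_normalizerIn hs)) hs.2, fun f hf h1 b hb => ?_,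
    ti_of_syl AV.mod2 h.toPair.quad (h.syl hS hF), φ, h.iso, h.mv⟩
  rcases h.img_or h.el2 h.card.le (hf.mono le_sup_right) with e | e
  · refine (h.toPair.symm.not_le fun x hx => ?_).elim
    exact (((hf.mono le_sup_left).isIso_self h1).mem_iff hf le_sup_left (mem_sup_right hx)).1
      (e ▸ mem_img_of_mem f hx)
  · exact e ▸ mem_img_of_mem f hb

theorem Str.cj_cn (h : Str F A1 A2 t φ) {s : Ω} (hs : s ∈ S) (h1 : s ∉ A1 ⊔ A2) :
    cj s (Cn F A1 A2) = Cn F A2 A1 ∧ cj s (Cn F A2 A1) = Cn F A1 A2 := by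
  rw [PU.cj_cn hs h.le1, PU.cj_cn hs h.le2, (h.swap hs h1).1, (h.swap hs h1).2]
  exact ⟨rfl, rfl⟩

theorem Str.cn_inf (h : Str F A1 A2 t φ) (hS : IsPGroup 2 S) (hF : F.IsSaturated 2) :
    Cn F A1 A2 ⊓ Cn F A2 A1 = ⊥ :=
  eq_bot_iff.2 fun c hc => h.cc c (h.toPair.cn_le hc.1) (hc.1.2 φ h.iso)
    (((h.cj_cn h.tS h.not_mem).2.le (H6.conj_mem_cj hc.2)).2 φ h.iso)

theorem Str.isIsoB (h : Str F A1 A2 t φ) {f : Ω → Ω} (hf : F.IsIso S S f) :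
    F.IsIso (A1 ⊔ A2) (A1 ⊔ A2) f := by
  have h1 := hf.mor.mono (sup_le h.le1 h.le2)
  refine h1.isIso_self (h1.isHomOn.mapsTo_sup (fun x hx => ?_) fun x hx => ?_)
  · rcases h.img_or h.el1 le_rfl (hf.mor.mono h.le1) with e | e
    exacts [mem_sup_left (e ▸ mem_img_of_mem f hx), mem_sup_right (e ▸ mem_img_of_mem f hx)]
  · rcases h.img_or h.el2 h.card.le (hf.mor.mono h.le2) with e | e
    exacts [mem_sup_left (e ▸ mem_img_of_mem f hx), mem_sup_right (e ▸ mem_img_of_mem f hx)]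

end Cfsg.Agent.PU
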