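import Cfsg.Agent.Lib.PU.Fr0
import Cfsg.Agent.Lib.Lead.Model3

/-!
The odd order complement.
-/

set_option autoImplicit false

namespace Cfsg.Agent.PU

open Cfsg Cfsg.FusionSystem Subgroup Cfsg.Agent.FT
open Cfsg.Agent.H6 (cj RealizedIn SylIn)
open Cfsg.Agent.H9 (U4)
open Cfsg.Agent.SP (sA sB sZ sX)
open scoped commutatorElement

variable {Ω : Type*} [Group Ω] {S : Subgroup Ω} [Finite S] {F F' : FusionSystem S}
  {A1 A2 : Subgroup Ω} {t : Ω} {φ : Ω → Ω}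


theorem exists_odd_compl {G : Type*} [Group G] [Finite G] {U Γ : Subgroup G} (hU : SylIn 2 U ⊤)
    (h2 : ∀ x ∉ Γ, ∀ y ∉ Γ, x * y ∈ Γ) (hN : (U ⊓ Γ).Normal) {t : G} (ht : t ∈ U) (ht' : t ∉ Γ) :
    ∃ H ≤ Γ, Odd (Nat.card H) ∧ U ⊓ Γ ⊔ H = Γ ∧ Disjoint (U ⊓ Γ) H ∧
      ∃ u ∈ U, u ∉ Γ ∧ u ∈ 𝒩(H) := by
  have hΓ : Γ.Normal := ⟨fun n hn g => by
    by_cases hg : g ∈ Γ
    · exact Γ.mul_mem (Γ.mul_mem hg hn) (Γ.inv_mem hg)
    · exact h2 _ (mt (Γ.mul_mem_cancel_right hn).1 hg) _ (mt Γ.inv_mem_iff.1 hg)⟩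
  have h1 := hU.inf_of_normal (N := Γ) le_top le_normalizer_of_normal
  obtain ⟨n, hn⟩ := h1.isPGroup.exists_card_eq
  have h0 := h1.coprime_relIndex.pow_left n
  rw [← hn] at h0
  obtain ⟨H, h3, h4, h5, h6⟩ := H1.exists_complement_of_coprime_relIndex h1.le
    le_normalizer_of_normal h0
  have h7 : (Nat.card H).Coprime (Nat.card (U ⊓ Γ : Subgroup G)) := h4 ▸ h0.symm
  have := h1.isPGroup.isNilpotent
  obtain ⟨k, hk, h8⟩ := H1.exists_conj_le_of_coprime (A := H) le_normalizer_of_normal h7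
    (B := cj t H) ((H6.cj_le_iff.2 fun x hx => hΓ.conj_mem x (h3 hx) t).trans h5.ge)
    ((H6.card_cj t H).symm ▸ h7) (.inr inferInstance)
  refine ⟨H, h3, h4 ▸ Nat.odd_iff.2 (Nat.two_dvd_ne_zero.1 h1.not_dvd_relIndex), h5, h6, k * t,
    U.mul_mem hk.1 ht, mt (Γ.mul_mem_cancel_left hk.2).1 ht', H6.mem_normalizer_of_cj_le ?_⟩
  rwa [← H6.cj_cj]

theorem Str.exists_HD (h : Str F A1 A2 t φ) (hS : IsPGroup 2 S) (hF : F.IsSaturated 2) :
    ∃ H t', HD F A1 (A1 ⊔ A2) H t' := by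
  have hB : A1 ⊔ A2 ≤ S := sup_le h.le1 h.le2
  obtain ⟨E, hE⟩ := exists_isKNormSys_of_le (K := ⊤) F hB h.normal le_top
  have hEs := hE.isSaturated hF hS (hF.isFullyKNormalized_of_le hS
    (isFullyNormalized_of_le_normalizer F hB h.normal) le_top)
  have hn := hE.isNormal_top hB
  have hc := h.cenB.trans (inf_le_sup (a := A1) (b := A2))
  obtain ⟨G, _, ι, hm⟩ := Lead.exists_model_of_normal_centric hS hEs hn hc
  have := hm.1
  obtain ⟨π, hπ, e⟩ := Lead.model_exists_pi hm hn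
  have hN := Lead.model_normal_img hm hn
  have hC := Lead.model_centralizer_le hS hm hn hc
  obtain ⟨U, hU⟩ := hm.2.2.1
  have hsyl : SylIn 2 ι.range ⊤ := hU ▸ H6.sylIn_top U
  have inj := @Lead.homFun_inj _ _ _ _ _ _ hm.2.1.1
  have hj := isHomOn_homFun ι
  let π' : G →* MulAut (A1 ⊔ A2 : Subgroup Ω) := (E.autGroup _).subtype.comp π
  replace e : ∀ g, ∀ q ∈ A1 ⊔ A2, homFun ι (equivFun (π' g) q) = g * homFun ι q * g⁻¹ := e
  have ha : ∀ g, π' g ∈ F.autGroup (A1 ⊔ A2) := fun g => hE.top_autGroup_self hB ▸ (π g).2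
  have hi := fun g => h.toPair.iso_cases (isIso_of_mem_autGroup hB (ha g))
  have em : ∀ g g', ∀ x ∈ A1, equivFun (π' g) (equivFun (π' g') x) = equivFun (π' (g * g')) x :=
    fun g g' x hx => by rw [map_mul, equivFun_mul _ _ (mem_sup_left hx)]
  let Γ : Subgroup G :=
    { carrier := {g | F.IsIso A1 A1 (equivFun (π' g))}
      one_mem' := (isIso_id F h.le1).congr fun x hx => by
        rw [map_one, equivFun_one (mem_sup_left hx)]; rfl
      mul_mem' := fun h1 h2 => (IsIso.comp' h1 h2).congr (em _ _)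
      inv_mem' := fun h1 => IsIso.symm_of_left_inv h1 fun x hx => by
        rw [map_inv, equivFun_inv_apply _ (mem_sup_left hx)] }
  have h2 : ∀ x ∉ Γ, ∀ y ∉ Γ, x * y ∈ Γ := fun x hx y hy =>
    (((hi x).resolve_left fun e => hx e.1).2.comp' ((hi y).resolve_left fun e => hy e.1).1).congr
      (em _ _)
  have es : ∀ s ∈ S, ∀ b ∈ A1 ⊔ A2, equivFun (π' (homFun ι s)) b = s * b * s⁻¹ := fun s hs b hb =>
    inj (hB (equivFun_mem _ hb)) (S.mul_mem (S.mul_mem hs (hB hb)) (S.inv_mem hs))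
      (by rw [e _ b hb, hj.map_conj hs (hB hb)])
  have h3 : ∀ s ∈ S, homFun ι s ∈ Γ ↔ s ∈ A1 ⊔ A2 := fun s hs =>
    ⟨fun h1 => h.norm_eq.le ⟨hs, have := finite_of_le h.le1; mem_normalizer_of_finite fun x hx =>
      es s hs x (mem_sup_left hx) ▸ IsIso.mapsTo h1 x hx⟩, fun h1 =>
      (isIso_conj_of_mem_normalizer F h.le1 hs (h.toPair.norm1 h1)).congr fun x hx =>
        (es s hs x (mem_sup_left hx)).symm⟩
  have h4 : ι.range ⊓ Γ = img (A1 ⊔ A2) (homFun ι) := ext fun g => by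
    rw [Lead.mem_img_homFun hB]
    exact ⟨fun ⟨⟨s, h1⟩, h5⟩ => ⟨s, (h3 s s.2).1 (by rwa [homFun_coe, h1]), (homFun_coe ι s).trans h1⟩,
      fun ⟨s, h1, h5⟩ => h5 ▸ ⟨Lead.homFun_mem_range ι (hB h1), (h3 s (hB h1)).2 h1⟩⟩
  obtain ⟨H, h5, h6, h7, h8, _, ⟨u, rfl⟩, h9, h10⟩ := exists_odd_compl hsyl h2 (h4 ▸ hN)
    (Lead.homFun_mem_range ι h.tS) (mt (h3 t h.tS).1 h.not_mem)
  rw [← homFun_coe] at h9 h10
  obtain ⟨u, hu⟩ := u
  rw [h4] at h7 h8
  have uB : u ∉ A1 ⊔ A2 := mt (h3 u hu).2 h9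
  have un := fun b hb => conj_mem_of_mem_normalizer (x := b) (h.normal hu) hb
  have dj : ∀ g ∈ H, g ∈ img (A1 ⊔ A2) (homFun ι) → g = 1 := fun g h1 h2 =>
    disjoint_def.1 h8 h2 h1
  refine ⟨H.map π', u, hu, uB, ?_, h6.of_dvd_nat (card_map_dvd _ _), ?_, ?_, fun f hf => ?_, ?_, ?_⟩
  · rintro _ ⟨g, -, rfl⟩
    exact ha g
  · rintro _ ⟨g, hg, rfl⟩
    exact IsIso.mapsTo (h5 hg)
  · rintro _ ⟨g, hg, rfl⟩
    refine ⟨_, ⟨_, conj_mem_of_mem_normalizer h10 hg, rfl⟩, fun b hb =>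
      inj (hB (un _ (equivFun_mem _ hb))) (hB (equivFun_mem _ (un b hb))) ?_⟩
    rw [e _ _ (un b hb), hj.map_conj hu (hB hb), hj.map_conj hu (hB (equivFun_mem _ hb)), e _ _ hb]
    group
  · obtain ⟨α, hα, e1⟩ := hf.exists_aut
    obtain ⟨g, hg⟩ := hπ ⟨α, hE.top_autGroup_self hB ▸ hα⟩
    obtain ⟨s, hs, k, hk, rfl⟩ : ∃ s ∈ S, ∃ k ∈ H, g = homFun ι s * k := by
      have k : ∀ g ∈ Γ, ∃ s ∈ S, ∃ k ∈ H, g = homFun ι s * k := fun g hg => by
        obtain ⟨n, hn, k, hk, rfl⟩ := (H1.mem_sup_of_le_normalizer (le_normalizer_of_normal)).1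
          (h7.ge hg)
        obtain ⟨s, hs, rfl⟩ := (Lead.mem_img_homFun hB).1 hn
        exact ⟨s, hB hs, k, hk, rfl⟩
      by_cases hg : g ∈ Γ
      · exact k g hg
      obtain ⟨s, hs, k, hk, e⟩ := k _ (h2 _ (mt Γ.inv_mem_iff.1 h9) g hg)
      exact ⟨u * s, S.mul_mem hu hs, k, hk, by rw [hj.map_mul hu hs, mul_assoc, ← e]; group⟩
    refine ⟨s, hs, _, ⟨k, hk, rfl⟩, fun b hb => ?_⟩
    rw [← e1 b hb, ← es s hs _ (equivFun_mem _ hb), ← equivFun_mul _ _ hb, ← map_mul]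
    exact congrArg (fun α => equivFun α b) (congrArg Subtype.val hg).symm
  · rintro _ ⟨g, hg, rfl⟩
    have h1 := h.mul_mem hu uB hu uB
    have h11 := mem_img_of_mem (homFun ι) h1
    refine inj (hB (equivFun_mem _ h1)) (hB h1) ?_
    rw [e _ _ h1, ← mul_inv_eq_one]
    refine dj _ ?_ (Subgroup.mul_mem _ (hN.conj_mem _ h11 g) (inv_mem h11))
    rw [mul_assoc, mul_assoc, ← mul_assoc (homFun ι _), hj.map_mul hu hu]
    exact H.mul_mem hg (conj_mem_of_mem_normalizer (Subgroup.mul_mem _ h10 h10) (H.inv_mem hg))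
  · rintro _ ⟨g, hg, rfl⟩ h1
    have h11 : g⁻¹ * ((homFun ι u)⁻¹ * g * homFun ι u) = 1 := dj _ (H.mul_mem (H.inv_mem hg)
      (inv_conj_mem_of_mem_normalizer h10 hg)) (hC <| mem_centralizer_of_conj_eq fun y hy => by
        obtain ⟨b, hb, rfl⟩ := (Lead.mem_img_homFun hB).1 hy
        have := congrArg (homFun ι) (h1 b hb)
        rw [e _ _ (un b hb), hj.map_conj hu (hB hb), hj.map_conj hu (hB (equivFun_mem _ hb)),
          e _ _ hb] at this
        calc _ = g⁻¹ * (homFun ι u)⁻¹ * (g * (homFun ι u * homFun ι b * (homFun ι u)⁻¹) * g⁻¹) *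
              homFun ι u * g := by group
          _ = _ := by rw [← this]; group)
    have h12 : g * homFun ι u * g⁻¹ = homFun ι u := by
      rw [inv_mul_eq_one, mul_assoc, eq_inv_mul_iff_mul_eq] at h11
      rw [← h11, mul_inv_cancel_right]
    obtain ⟨f, h13, h14⟩ := Lead.exists_mor_of_conj hm.2.1 le_rfl g fun x hx => by
      by_cases hb : x ∈ A1 ⊔ A2
      · exact (h4.ge (hN.conj_mem _ (mem_img_of_mem _ hb) g)).1
      have := (h4.ge (hN.conj_mem _ (mem_img_of_mem (homFun ι) (h.mul_mem hx hb hu uB)) g)).1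
      rw [hj.map_mul hx hu, ← conj_mul, h12] at this
      exact (ι.range.mul_mem_cancel_right (Lead.homFun_mem_range ι hu)).1 this
    exact ⟨f, hE.isSubsystemOf.isMor h13, fun b hb => inj (h13.mem (hB hb))
      (hB (equivFun_mem _ hb)) (by rw [h14 b (hB hb), e _ _ hb]),
      inj (h13.mem hu) hu ((h14 u hu).trans h12)⟩

end Cfsg.Agent.PU
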