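import Cfsg.Agent.Lib.PU.Fr0
import Cfsg.Agent.Lib.PU.SL2

/-!
Coordinates on one side.
-/

set_option autoImplicit false

namespace Cfsg.Agent.PU

open Cfsg Cfsg.FusionSystem Subgroup Cfsg.Agent.FT
open Cfsg.Agent.H6 (cj RealizedIn SylIn)
open Cfsg.Agent.H9 (U4)
open Cfsg.Agent.SP (sA sB sZ sX)
open scoped commutatorElement

theorem exists_fix_cj {G H : Type*} [Group G] [Group H] [Finite H] (r : H →* G)
    (ho : Odd (Nat.card H)) {X Y : Subgroup G} (he : El X) (hn : ∀ h, r h ∈ 𝒩(X))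
    (h1 : ∀ h, ∃ x ∈ X, cj (r h) Y = cj x Y) (h2 : ∀ x ∈ X, cj x Y = Y → x = 1) :
    ∃ x ∈ X, ∀ h, r h ∈ 𝒩(cj x Y) := by
  letI : CommGroup X := { (inferInstance : Group X) with
    mul_comm := fun a b => Subtype.ext (he.comm a.2 b.2) }
  haveI := Fintype.ofFinite H
  choose c hc e using h1
  let d : H → X := fun h => ⟨c h, hc h⟩
  let α : H → MulAut X := fun h => conjAut X (hn h)
  have hα : ∀ h x, (α h x : G) = r h * x * (r h)⁻¹ := fun _ _ => rfl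
  have co : ∀ h k, d (h * k) = α h (d k) * d h := fun h k => by
    have : cj (c (h * k)) Y = cj ((α h (d k) * d h : X) : G) Y := by
      rw [← e, map_mul, ← H6.cj_cj, e k, coe_mul, ← H6.cj_cj, ← e h, H6.cj_cj, H6.cj_cj, hα,
        inv_mul_cancel_right]
    refine (inv_mul_eq_one.1 (Subtype.ext (h2 _ (SetLike.coe_mem _) ?_))).symm
    rw [coe_mul, ← H6.cj_cj, this, coe_inv, H6.cj_inv_cj]
  refine ⟨(∏ h, d h : X), SetLike.coe_mem _, fun h => H6.cj_eq_self_iff.1 ?_⟩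
  have e1 : α h (∏ k, d k) * d h = ∏ k, d k := by
    obtain ⟨n, hn⟩ := ho
    have e2 : d h ^ Fintype.card H = d h := by
      have : d h ^ 2 = 1 := Subtype.ext (by simpa [pow_two] using he _ (hc h))
      rw [← Nat.card_eq_fintype_card, hn, pow_succ, pow_mul, this, one_pow, one_mul]
    conv_rhs => rw [← Equiv.prod_comp (Equiv.mulLeft h) d]
    simp only [Equiv.coe_mulLeft, co, Finset.prod_mul_distrib, Finset.prod_const, Finset.card_univ,
      e2, map_prod]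
  conv_rhs => rw [← e1, coe_mul, ← H6.cj_cj, ← e h, H6.cj_cj, hα, inv_mul_cancel_right]
  rw [H6.cj_cj]

variable {Ω : Type*} [Group Ω] {S : Subgroup Ω} [Finite S] {F F' : FusionSystem S}
  {A1 A2 : Subgroup Ω} {t : Ω} {φ : Ω → Ω}

theorem side_aux (h : Str F A1 A2 t φ) (hS : IsPGroup 2 S) (hF : F.IsSaturated 2)
    {H : Subgroup (MulAut (A1 ⊔ A2 : Subgroup Ω))} {t' : Ω} (hd : HD F A1 (A1 ⊔ A2) H t')
    (K : Type*) [Field K] [Fintype K] (hK : Fintype.card K = (A1 ⊓ A2).relIndex A1) :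
    ∃ ci cy ζ : Ω → K, Side F A1 A2 H ci cy ζ := by
  classical
  have sd := h.sd hS hF
  have p := h.toPair
  haveI : Finite A1 := Finite.of_injective _ (inclusion_injective h.le1)
  have hB : A1 ⊔ A2 ≤ S := sup_le h.le1 h.le2
  haveI : Finite (A1 ⊔ A2 : Subgroup Ω) := Finite.of_injective _ (inclusion_injective hB)
  have hI : ∀ k ∈ H, F.IsIso (A1 ⊔ A2) (A1 ⊔ A2) (equivFun k) := fun k hk =>
    isIso_of_mem_autGroup hB (hd.le hk)
  have hI' : ∀ k ∈ H, F.IsIso A1 A1 (equivFun k) ∧ F.IsIso A2 A2 (equivFun k) := fun k hk =>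
    (p.iso_cases (hI k hk)).resolve_right fun e => p.symm.not_le fun y hy => by
      obtain ⟨x, hx, rfl⟩ := e.1.surj y hy
      exact hd.pres k hk x hx
  obtain ⟨r, hr⟩ : ∃ r : H →* MulAut A1, ∀ (k : H) (a : A1), (r k a : Ω) = equivFun k.1 a :=
    ⟨MonoidHom.mk' (fun k => (hI' k.1 k.2).1.toMulEquiv) fun k l => MulEquiv.ext fun a =>
      Subtype.ext (equivFun_mul _ _ (mem_sup_left a.2)), fun _ _ => rfl⟩
  have hrK : ∀ k, r k ∈ F.autGroup A1 := fun k => (hI' k.1 k.2).1.mor.mem_autGroup (hr k)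
  have hrX : ∀ k, r k ∈ 𝒩(autInducedBy A2 A1) := fun k => H6.mem_normalizer_of_conj_mem fun x hx => by
    obtain ⟨b, hb, e⟩ := p.mem_aut.1 hx
    refine p.mem_aut.2 ⟨_, (hI' k.1 k.2).2.mapsTo b hb, fun a => ?_⟩
    obtain ⟨a, rfl⟩ := (r k).surjective a
    rw [MulAut.mul_apply, MulAut.inv_apply_self, MulAut.mul_apply, hr, hr, e,
      (hI k.1 k.2).mor.map_conj (mem_sup_right hb) (mem_sup_left a.2)]
  have m := AV.mod2 (h := p.el1)
  have hX := p.quad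
  have hXK := p.aut_le F
  obtain ⟨g, hg, hne, hY⟩ : ∃ g ∈ F.autGroup A1, cj g (autInducedBy A2 A1) ≠ autInducedBy A2 A1 ∧
      ∀ k, r k ∈ 𝒩(cj g (autInducedBy A2 A1)) := by
    obtain ⟨g, hg, hne⟩ := sd.exists_ne
    obtain ⟨x, hx, e⟩ := exists_fix_cj r hd.odd (hX.el m) hrX (Y := cj g (autInducedBy A2 A1))
      (fun k => by
        rw [H6.cj_cj]
        refine (sd.ti.on m hX hXK hg hne (mul_mem (hrK k) hg)).resolve_left fun e => hne ?_
        rw [← H6.cj_cj] at e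
        exact H6.cj_injective (r k) (e.trans (H6.cj_eq_self_iff.2 (hrX k)).symm))
      fun x hx e => by_contra fun h1 => (sd.ti.line m hX hXK hg hne).cj_ne m hX (hX.cj g)
        (H6.card_cj _ _).symm hx h1 e
    refine ⟨x * g, mul_mem (hXK hx) hg, fun e => hne ?_, by rwa [← H6.cj_cj]⟩
    rw [← H6.cj_cj] at e
    exact H6.cj_injective x (e.trans (H6.cj_eq_self_of_mem hx).symm)
  obtain ⟨ci, cy, ζ, ζ', h1, h2, h3, h4, h5, h6, h7, h8, h9⟩ :=
    sl2_coords m hX (h.syl hS hF) hg hne K (hK.trans p.card_aut.symm)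
  obtain ⟨π, hπ⟩ : ∃ π : Ω → AV p.el1, ∀ a ∈ A1, ((π a).val : Ω) = a :=
    ⟨fun a => if ha : a ∈ A1 then AV.mk _ ⟨a, ha⟩ else 0, fun a ha => by simp [ha]⟩
  have πv : ∀ v : AV p.el1, π v.val = v := fun v => AV.ext (hπ _ v.val.2)
  have πm : ∀ a ∈ A1, ∀ b ∈ A1, π (a * b) = π a + π b := fun a ha b hb =>
    AV.ext (by simp [hπ, ha, hb, mul_mem ha hb])
  have πs : ∀ (α : MulAut A1) (f : Ω → Ω), (∀ a : A1, (α a : Ω) = f a) → ∀ a ∈ A1,
      π (f a) = α • π a := fun α f e a ha => by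
    rw [← πv (α • π a), AV.val_smul, e, hπ a ha]
  have πe : ∀ (α : MulAut A1), ∀ a ∈ A1, π (equivFun α a) = α • π a := fun α =>
    πs α _ fun a => (equivFun_coe _ _).symm
  have πf : ∀ (α : MulAut A1), ∀ a ∈ A1, α • π a = π a → equivFun α a = a := fun α a ha e => by
    rw [← hπ _ (equivFun_mem α ha), πe α a ha, e, hπ a ha]
  have ciz : ∀ a ∈ A1, ci (π a) = 0 ↔ a ∈ A2 := fun a ha => by rw [h1, p.mem_fx, hπ a ha]
  have hcn : ∀ a ∈ A1, a ∈ Cn F A1 A2 ↔ ci (π a) = 0 ∧ cy (π a) = 0 := fun a ha => by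
    rw [h1, h2, ← AddSubgroup.mem_inf, ← sd.mem_cn hg hne, hπ a ha]
  have cix : ∀ x ∈ autInducedBy A2 A1, ∀ v, ci (x • v) = ci v := fun x hx v => by
    rw [← sub_eq_zero, ← map_sub, h1]; exact hX.quad x hx v
  obtain ⟨Z, hZ⟩ : ∃ Z : Ω → K, ∀ b ∈ A2, ∃ x ∈ autInducedBy A2 A1, ζ x = Z b ∧
      ∀ a ∈ A1, π (b * a * b⁻¹) = x • π a :=
    ⟨fun b => if hb : b ∈ A2 then ζ (conjAut A1 (p.norm1 (mem_sup_right hb))) else 0, fun b hb =>
      ⟨_, conjAut_mem_autInducedBy hb (p.norm1 (mem_sup_right hb)), by simp [hb],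
        πs _ (fun a => b * a * b⁻¹) fun _ => rfl⟩⟩
  have act : ∀ a ∈ A1, ∀ b ∈ A2, cy (π (b * a * b⁻¹)) = cy (π a) + Z b * ci (π a) :=
    fun a ha b hb => by
    obtain ⟨x, hx, e1, e2⟩ := hZ b hb
    rw [e2 a ha, h5 x hx, e1]
  have act' : ∀ a ∈ A1, ∀ b ∈ A2, ci (π (b * a * b⁻¹)) = ci (π a) := fun a ha b hb => by
    obtain ⟨x, hx, -, e2⟩ := hZ b hb
    rw [e2 a ha, cix x hx]
  have srj : ∀ i y, ∃ a ∈ A1, ci (π a) = i ∧ cy (π a) = y := fun i y => by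
    obtain ⟨v, hv⟩ := h3 i y
    exact ⟨_, v.val.2, by rwa [πv]⟩
  obtain ⟨a0, ha0, i0, y0⟩ := srj 1 0
  have cjm : ∀ a ∈ A1, ∀ b ∈ A2, b * a * b⁻¹ ∈ A1 := fun a ha b hb =>
    (mem_normalizer_iff.1 (p.norm1 (mem_sup_right hb)) a).1 ha
  have Z0 : ∀ b ∈ A2, Z b = cy (π (b * a0 * b⁻¹)) := fun b hb => by
    rw [act a0 ha0 b hb, i0, y0, zero_add, mul_one]
  have Zz : ∀ b ∈ A2, Z b = 0 ↔ b ∈ A1 := fun b hb => by
    refine ⟨fun e => ?_, fun e => by rw [Z0 b hb, p.el1.comm e ha0, mul_inv_cancel_right, y0]⟩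
    have hc : ⁅a0, b⁆ ∈ Cn F A1 A2 := by
      have e1 : ⁅a0, b⁆ = a0 * (b * a0 * b⁻¹) := by
        rw [commutatorElement_def, p.el1.inv ha0]; simp only [mul_assoc]
      rw [e1, hcn _ (mul_mem ha0 (cjm _ ha0 b hb)), πm _ ha0 _ (cjm _ ha0 b hb), map_add, map_add,
        act' _ ha0 b hb, ← map_add, m.two, map_zero, ← Z0 b hb, e, y0, add_zero]
      exact ⟨rfl, rfl⟩
    refine (p.nons a0 ha0 b hb (commutatorElement_eq_one_iff_mul_comm.1
      (sd.s2 ha0 hb hc))).resolve_left fun e => ?_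
    rw [← ciz _ ha0, i0] at e
    exact one_ne_zero e
  have Zh : ∀ k ∈ H, ∀ b ∈ A2, cy (π (equivFun k (b * a0 * b⁻¹))) = cy (π (equivFun k a0)) +
      Z (equivFun k b) * ci (π (equivFun k a0)) := fun k hk b hb => by
    rw [(hI k hk).mor.map_conj (mem_sup_right hb) (mem_sup_left ha0),
      act _ ((hI' k hk).1.mapsTo _ ha0) _ ((hI' k hk).2.mapsTo _ hb)]
  have semi : ∀ k ∈ H, ∃ τ : Tor K, ∀ a ∈ A1, ci (π (equivFun k a)) = τ.a * τ.ρ (ci (π a)) ∧
      cy (π (equivFun k a)) = τ.a * τ.b * τ.ρ (cy (π a)) := fun k hk => by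
    obtain ⟨τ, hτ⟩ := h8 _ (hrK ⟨k, hk⟩) (hrX _) (hY _)
    exact ⟨τ, fun a ha => by rw [πs _ _ (hr ⟨k, hk⟩) a ha]; exact hτ _⟩
  refine ⟨fun a => ci (π a), fun a => cy (π a), Z, fun a ha b hb => by simp only [πm a ha b hb, map_add],
    fun a ha b hb => by simp only [πm a ha b hb, map_add], fun b hb c hc => ?_, ciz, Zz, hcn, srj,
    fun z => ?_, act, fun k hk => ?_, fun l => ?_, fun s => ?_, fun f hf e1 e2 a ha => ?_⟩
  · rw [Z0 _ (mul_mem hb hc), show b * c * a0 * (b * c)⁻¹ = b * (c * a0 * c⁻¹) * b⁻¹ by group,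
      act _ (cjm _ ha0 c hc) b hb, act' _ ha0 c hc, i0, ← Z0 c hc, mul_one, add_comm]
  · obtain ⟨x, hx, rfl⟩ := h4 z
    obtain ⟨b, hb, e⟩ := p.mem_aut.1 hx
    refine ⟨b, hb, ?_⟩
    rw [Z0 b hb, πs x (fun a => b * a * b⁻¹) e a0 ha0, h5 x hx, i0, y0, zero_add, mul_one]
  · obtain ⟨τ, hτ⟩ := semi k hk
    refine ⟨τ, hτ, fun b hb => ?_⟩
    have := Zh k hk b hb
    rw [(hτ _ (cjm _ ha0 b hb)).2, (hτ _ ha0).2, (hτ _ ha0).1, ← Z0 b hb, i0, y0, map_one,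
      map_zero] at this
    exact mul_left_cancel₀ τ.a.ne_zero (by linear_combination -this)
  · obtain ⟨k, hk, -, -, e⟩ := h9 l
    have hkK : k ∈ F.autGroup A1 := sup_le hXK (H6.cj_le_of_mem hg hXK) hk
    obtain ⟨ψ, hψ, eψ⟩ := sd.s6 hS hF (isIso_of_mem_autGroup h.le1 hkK) fun d hd => by
      rw [← ciz _ (equivFun_mem k hd.1), πe k d hd.1, (e _).1, (ciz d hd.1).2 hd.2, mul_zero]
    obtain ⟨s, hs, j, hj, ej⟩ := hd.dec ψ hψ
    have hsB : s ∈ A1 ⊔ A2 := h.norm_eq ▸ mem_normalizerIn.2 ⟨hs,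
      mem_normalizer_of_finite fun y hy => by
        obtain ⟨x, hx, rfl⟩ := (hI' j hj).1.surj y hy
        rw [← ej x (mem_sup_left hx), eψ x hx]
        exact equivFun_mem k hx⟩
    obtain ⟨a, ha, b, hb, rfl⟩ := p.exists_mul hsB
    have e3 : ∀ x ∈ A1, equivFun k x = b * equivFun j x * b⁻¹ := fun x hx => by
      rw [← eψ x hx, ej x (mem_sup_left hx), show a * b * equivFun j x * (a * b)⁻¹ =
        a * (b * equivFun j x * b⁻¹) * a⁻¹ by group,
        p.el1.comm ha (cjm _ ((hI' j hj).1.mapsTo x hx) b hb), mul_inv_cancel_right]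
    have hb1 : b ∈ A1 := by
      obtain ⟨τ, hτ⟩ := semi j hj
      have := act _ ((hI' j hj).1.mapsTo _ ha0) b hb
      rw [← e3 _ ha0, πe k _ ha0, (e _).2, (hτ _ ha0).1, (hτ _ ha0).2, i0, y0] at this
      exact (Zz b hb).1 (by simpa using this)
    have e4 : ∀ x ∈ A1, equivFun j x = equivFun k x := fun x hx => by
      rw [e3 x hx, p.el1.comm hb1 ((hI' j hj).1.mapsTo x hx), mul_inv_cancel_right]
    have e5 : ∀ x ∈ A1, ci (π (equivFun j x)) = l⁻¹ * ci (π x) ∧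
        cy (π (equivFun j x)) = l * cy (π x) := fun x hx => by
      rw [e4 x hx, πe k x hx]; exact e _
    refine ⟨j, hj, e5, fun c hc => ?_, fun c hc => ?_⟩
    · have := Zh j hj c hc
      rw [(e5 _ (cjm _ ha0 c hc)).2, (e5 _ ha0).2, (e5 _ ha0).1, ← Z0 c hc, i0, y0] at this
      have hl := l.ne_zero
      simp only [Units.val_inv_eq_inv_val] at this
      field_simp at this
      linear_combination -this
    · have hc1 := (p.cn_le hc).1
      rw [e4 c hc1]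
      refine πf k c hc1 ((fx_sup (V := AV p.el1)).ge ?_ k hk)
      rw [AddSubgroup.mem_inf, ← h1, ← h2, ← hcn c hc1]
      exact hc
  · obtain ⟨y, hy, rfl⟩ := h6 s
    refine ⟨_, isIso_of_mem_autGroup h.le1 (H6.cj_le_of_mem hg hXK hy), fun a ha e =>
      πf y a ha ((h2 _).1 e y hy), fun a ha => ?_⟩
    simp only [πe y a ha, h7 y hy, and_true]
    rw [← sub_eq_zero, ← map_sub, h2]
    exact (hX.cj g).quad y hy _
  · obtain ⟨α, hα, e⟩ := hf.exists_aut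
    have e3 : ∀ v, ci (α • v) = ci v ∧ cy (α • v) = cy v := fun v => by
      have := e1 _ v.val.2
      rwa [← e _ v.val.2, πe α _ v.val.2, πv] at this
    have e4 : α * α = 1 := m.faith _ fun v => by
      have h0 : α • (α • v - v) = α • v - v := by
        have hc := (hcn _ (α • v - v).val.2).2 (by simp only [πv, map_sub, e3, sub_self, and_self])
        rw [← πv (α • v - v), ← πe α _ (α • v - v).val.2, e _ (α • v - v).val.2, e2 _ hc]
      rw [smul_sub, sub_eq_iff_eq_add] at h0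
      rw [mul_smul, h0, sub_add_eq_add_sub, m.two, zero_sub, neg_eq_iff_add_eq_zero, m.two]
    have e5 : α ∈ 𝒩(autInducedBy A2 A1) := H6.cj_eq_self_iff.1 (sd.ti.uq m hX hα (by
      ext v
      rw [mem_fx_cj, ← h1, ← h1, inv_eq_of_mul_eq_one_right e4, (e3 v).1]))
    have e6 := (h.syl hS hF).le_of_normalizes (Q := zpowers α) (H6.isPGroup_zpowers (k := 1) (by simpa [pow_two] using e4))
      (zpowers_le.2 hα) (zpowers_le.2 e5) (mem_zpowers α)
    obtain ⟨b, hb, e7⟩ := p.mem_aut.1 e6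
    have : b ∈ A1 := (Zz b hb).1 (by
      rw [Z0 b hb, πs α (fun a => b * a * b⁻¹) e7 a0 ha0, (e3 _).2, y0])
    rw [← e a ha, equivFun_of_mem _ ha, e7, p.el1.comm this ha, mul_inv_cancel_right]

theorem Str.side (h : Str F A1 A2 t φ) (hS : IsPGroup 2 S) (hF : F.IsSaturated 2)
    {H : Subgroup (MulAut (A1 ⊔ A2 : Subgroup Ω))} {t' : Ω} (hd : HD F A1 (A1 ⊔ A2) H t')
    (K : Type*) [Field K] [Fintype K] (hK : Fintype.card K = (A1 ⊓ A2).relIndex A1) :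
    ∃ ci cy ζ : Ω → K, Side F A1 A2 H ci cy ζ :=
  side_aux h hS hF hd K hK

end Cfsg.Agent.PU
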