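import Cfsg.Agent.Lib.PU.Fr1
import Cfsg.Agent.Lib.PU.Side

/-!
The frame, `q > 2`.
-/

set_option autoImplicit false

namespace Cfsg.Agent.PU

open Cfsg Cfsg.FusionSystem Subgroup Cfsg.Agent.FT
open Cfsg.Agent.H6 (cj RealizedIn SylIn)
open Cfsg.Agent.H9 (U4)
open Cfsg.Agent.SP (sA sB sZ sX)
open scoped commutatorElement

variable {Ω : Type*} [Group Ω] {S : Subgroup Ω} [Finite S] {F F' : FusionSystem S}
  {A1 A2 : Subgroup Ω} {t : Ω} {φ : Ω → Ω}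


theorem ringAut_comm {K : Type*} [Field K] [Finite K] (ρ σ : K ≃+* K) (x : K) :
    ρ (σ x) = σ (ρ x) := by
  obtain ⟨g, hg⟩ := IsCyclic.exists_monoid_generator (α := Kˣ)
  have key : ∀ ρ : K ≃+* K, ∃ m : ℕ, ∀ x : Kˣ, ρ x = (x : K) ^ m := fun ρ => by
    obtain ⟨m, hm⟩ := hg (Tor.um ρ g)
    refine ⟨m, fun x => ?_⟩
    obtain ⟨k, rfl⟩ := hg x
    have : ρ g = (g : K) ^ m := by
      rw [← Units.val_pow_eq_pow_val]; exact (congrArg Units.val hm).symm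
    simp only [Units.val_pow_eq_pow_val, map_pow, this]
    ring
  rcases eq_or_ne x 0 with rfl | hx
  · simp
  obtain ⟨m, hm⟩ := key ρ
  obtain ⟨n, hn⟩ := key σ
  have e1 := hm (Units.mk0 x hx)
  have e2 := hn (Units.mk0 x hx)
  rw [Units.val_mk0] at e1 e2
  rw [e1, e2, map_pow, map_pow, e1, e2]
  ring

section
variable {K : Type*} [Field K] {H : Subgroup (MulAut (A1 ⊔ A2 : Subgroup Ω))} {ci cy ζ : Ω → K}
  {t0 : Ω} {k k' f : Ω → Ω} {l l' : Kˣ} {a a' b d : Ω}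

omit [Finite S] in
theorem Side.scale (s : Side F A1 A2 H ci cy ζ) (c : Kˣ) :
    Side F A1 A2 H ci (fun x => c * cy x) (fun x => c * ζ x) := by
  refine ⟨s.ci_mul, fun a ha a' ha' => by rw [s.cy_mul a ha a' ha', mul_add],
    fun a ha a' ha' => by rw [s.ζ_mul a ha a' ha', mul_add], s.ci_zero,
    fun b hb => by rw [Units.mul_right_eq_zero, s.ζ_zero b hb],
    fun a ha => by rw [Units.mul_right_eq_zero, s.cn a ha], fun i y => ?_, fun z => ?_,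
    fun a ha b hb => by rw [s.act a ha b hb]; ring, fun h hh => ?_, fun l => ?_, fun x => ?_,
    fun f hf h1 => s.rig f hf fun a ha => ⟨(h1 a ha).1, (Units.mul_right_inj c).1 (h1 a ha).2⟩⟩
  · obtain ⟨a, ha, e1, e2⟩ := s.surj i (c⁻¹ * y)
    exact ⟨a, ha, e1, by rw [e2]; simp⟩
  · obtain ⟨b, hb, e⟩ := s.ζ_surj (c⁻¹ * z)
    exact ⟨b, hb, by rw [e]; simp⟩
  · obtain ⟨τ, h1, h2⟩ := s.semi h hh
    have : τ.ρ c ≠ 0 := by simp
    refine ⟨⟨τ.a, τ.b * c * (Tor.um τ.ρ c)⁻¹, τ.ρ⟩, fun a ha => ⟨(h1 a ha).1, ?_⟩, fun b hb => ?_⟩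
    · simp only [(h1 a ha).2, map_mul, Units.val_mul, Units.val_inv_eq_inv_val, Tor.coe_um]
      field_simp
    · simp only [h2 b hb, map_mul, Units.val_mul, Units.val_inv_eq_inv_val, Tor.coe_um]
      field_simp
  · obtain ⟨h, hh, h1, h2, h3⟩ := s.tor l
    exact ⟨h, hh, fun a ha => ⟨(h1 a ha).1, by rw [(h1 a ha).2]; ring⟩,
      fun b hb => by rw [h2 b hb]; ring, h3⟩
  · obtain ⟨f, hf, h1, h2⟩ := s.low (x * c)
    exact ⟨f, hf, fun a ha e => h1 a ha (Units.mul_right_eq_zero c |>.1 e),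
      fun a ha => ⟨by rw [(h2 a ha).1], by rw [(h2 a ha).2]; ring⟩⟩

variable (F A1 A2 ci cy) in
/-- A torus element of the `SL₂` on `A1`. -/
structure Tk (k : Ω → Ω) (l : Kˣ) : Prop where
  iso : F.IsIso A1 A1 k
  act : ∀ a ∈ A1, ci (k a) = l⁻¹ * ci a ∧ cy (k a) = l * cy a
  fix : ∀ c ∈ Cn F A1 A2, k c = c

theorem Tk.conj (h : Tk F A1 A2 ci cy k l) (hf : F.IsIso A1 A1 f)
    (e : ∀ a ∈ A1, ci (f (k a)) = l'⁻¹ * ci (f a) ∧ cy (f (k a)) = l' * cy (f a)) :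
    ∃ k', Tk F A1 A2 ci cy k' l' ∧ ∀ a ∈ A1, k' (f a) = f (k a) := by
  obtain ⟨g, hg, g1, g2⟩ := hf.exists_symm
  refine ⟨fun x => f (k (g x)), ⟨hf.comp' (h.iso.comp' hg), fun a ha => ?_, fun c hc => ?_⟩,
    fun a ha => by simp only [g1 a ha]⟩
  · have := e _ (hg.mapsTo a ha)
    rwa [g2 a ha] at this
  · rw [h.fix _ (cn_map hg hc), g2 c hc.1]

variable [CharP K 2] (p : Pair S A1 A2) (s : Side F A1 A2 H ci cy ζ)
include p s

omit [Finite S] in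
theorem Side.mul_mem_cn (ha : a ∈ A1) (ha' : a' ∈ A1) (e1 : ci a = ci a') (e2 : cy a = cy a') :
    a * a' ∈ Cn F A1 A2 :=
  (s.cn _ (A1.mul_mem ha ha')).2 ⟨by rw [s.ci_mul a ha a' ha', e1, CharTwo.add_self_eq_zero],
    by rw [s.cy_mul a ha a' ha', e2, CharTwo.add_self_eq_zero]⟩

omit [Finite S] in
theorem Side.tk_eq (h : Tk F A1 A2 ci cy k l) (ha : a ∈ A1) (ha' : a' ∈ A1) (e1 : ci a = ci a')
    (e2 : cy a = cy a') : k a * a = k a' * a' := by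
  have h1 := h.fix _ (s.mul_mem_cn p ha ha' e1 e2)
  rw [h.iso.mor.map_mul ha ha'] at h1
  have m := h.iso.mapsTo
  calc k a * a = k a * (k a' * k a') * a := by rw [p.el1 _ (m _ ha'), mul_one]
    _ = a * a' * k a' * a := by rw [← h1]; group
    _ = k a' * a' * (a * a) := by
      rw [p.el1.comm (A1.mul_mem ha ha') (m _ ha'), p.el1.comm ha ha']; group
    _ = _ := by rw [p.el1 a ha, mul_one]

theorem Side.tk_comm (h : Tk F A1 A2 ci cy k l) (h' : Tk F A1 A2 ci cy k' l') (ha : a ∈ A1) :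
    k (k' a) = k' (k a) := by
  obtain ⟨g, hg, g1, g2⟩ := (h'.iso.comp' h.iso).exists_symm
  have key : ∀ a ∈ A1, ci (k (k' a)) = ci (k' (k a)) ∧ cy (k (k' a)) = cy (k' (k a)) := fun a ha => by
    rw [(h.act _ (h'.iso.mapsTo a ha)).1, (h.act _ (h'.iso.mapsTo a ha)).2,
      (h'.act _ (h.iso.mapsTo a ha)).1, (h'.act _ (h.iso.mapsTo a ha)).2, (h.act a ha).1,
      (h.act a ha).2, (h'.act a ha).1, (h'.act a ha).2]
    exact ⟨by ring, by ring⟩
  have := s.rig _ ((h.iso.comp' h'.iso).comp' hg) (fun x hx => by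
    have := key _ (hg.mapsTo x hx)
    rwa [g2 x hx] at this) (fun c hc => by
      have := g2 c hc.1
      rw [h.fix _ (cn_map hg hc), h'.fix _ (cn_map hg hc)] at this
      rw [this, h'.fix c hc, h.fix c hc]) _ ((h'.iso.comp' h.iso).mapsTo a ha)
  rwa [g1 a ha] at this

theorem Side.exists_xa (h : Tk F A1 A2 ci cy k l) (hl : l ≠ 1) : ∃ xa : K → Ω,
    (∀ i, xa i ∈ A1 ∧ ci (xa i) = i ∧ cy (xa i) = 0) ∧ (∀ i j, xa (i + j) = xa i * xa j) ∧
    (∀ i, ∃ a ∈ A1, cy a = 0 ∧ xa i = k a * a) ∧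
    ∀ k' l', Tk F A1 A2 ci cy k' l' → l' ≠ 1 → ∀ a ∈ A1, cy a = 0 →
      k' a * a = xa (ci (k' a * a)) := by
  have nz : ∀ l : Kˣ, l ≠ 1 → ((l⁻¹ : Kˣ) : K) + 1 ≠ 0 := fun l hl e =>
    hl (inv_eq_one.1 (Units.ext (CharTwo.add_eq_zero.1 e)))
  have co : ∀ k l, Tk F A1 A2 ci cy k l → ∀ a ∈ A1, cy a = 0 → k a * a ∈ A1 ∧
      ci (k a * a) = (l⁻¹ + 1) * ci a ∧ cy (k a * a) = 0 := fun k l h a ha e =>
    ⟨A1.mul_mem (h.iso.mapsTo a ha) ha,
      by rw [s.ci_mul _ (h.iso.mapsTo a ha) a ha, (h.act a ha).1]; simp [add_mul],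
      by rw [s.cy_mul _ (h.iso.mapsTo a ha) a ha, (h.act a ha).2, e]; simp⟩
  choose r r1 r2 r3 using fun i => s.surj (i / (((l⁻¹ : Kˣ) : K) + 1)) 0
  have n1 := nz l hl
  have key : ∀ a ∈ A1, cy a = 0 → k a * a = k (r (ci (k a * a))) * r (ci (k a * a)) :=
    fun a ha e => s.tk_eq p h ha (r1 _) (by
      rw [r2, (co k l h a ha e).2.1, mul_div_cancel_left₀ _ n1]) (by rw [e, r3])
  have c1 : ∀ i, ci (k (r i) * r i) = i := fun i => by
    rw [(co k l h _ (r1 i) (r3 i)).2.1, r2, mul_div_cancel₀ _ n1]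
  have m := h.iso.mapsTo
  refine ⟨fun i => k (r i) * r i, fun i => ⟨(co k l h _ (r1 i) (r3 i)).1, c1 i,
    (co k l h _ (r1 i) (r3 i)).2.2⟩, fun i j => ?_, fun i => ⟨_, r1 i, r3 i, rfl⟩,
    fun k' l' h' hl' a ha e => ?_⟩
  · have := s.tk_eq p h (r1 (i + j)) (A1.mul_mem (r1 i) (r1 j)) (by
      rw [s.ci_mul _ (r1 i) _ (r1 j), r2, r2, r2, add_div]) (by
      rw [s.cy_mul _ (r1 i) _ (r1 j), r3, r3, r3, add_zero])
    dsimp only
    rw [this, h.iso.mor.map_mul (r1 i) (r1 j), mul_assoc, mul_assoc, ← mul_assoc (k (r j)),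
      p.el1.comm (m _ (r1 j)) (r1 i), mul_assoc]
  · obtain ⟨x, x1, x2, x3⟩ := s.surj (ci a / (((l⁻¹ : Kˣ) : K) + 1)) 0
    obtain ⟨y1, y2, y3⟩ := co k l h x x1 x3
    obtain ⟨z1, -, z3⟩ := co k' l' h' x x1 x3
    have e1 : k' a * a = k' (k x * x) * (k x * x) := s.tk_eq p h' ha y1 (by
      rw [y2, x2, mul_div_cancel₀ _ n1]) (by rw [e, y3])
    have m' := h'.iso.mapsTo
    have e2 : k' (k x * x) * (k x * x) = k (k' x * x) * (k' x * x) := by
      rw [h'.iso.mor.map_mul (m x x1) x1, h.iso.mor.map_mul (m' x x1) x1, s.tk_comm p h h' x1,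
        mul_assoc, mul_assoc, ← mul_assoc (k' x), p.el1.comm (m' x x1) (m x x1), mul_assoc]
    rw [e1, e2]
    exact key _ z1 z3

end

section
variable {K : Type*} [Field K] [Fintype K] [CharP K 2]
  {H : Subgroup (MulAut (A1 ⊔ A2 : Subgroup Ω))} {ci cy ζ : Ω → K} {t0 : Ω} {a b d : Ω}
  {η : MulAut (A1 ⊔ A2 : Subgroup Ω)}

theorem exists_unit_ne_one (hq : 2 < Fintype.card K) : ∃ l : Kˣ, l ≠ 1 := by
  classical
  have : Nontrivial Kˣ := Fintype.one_lt_card_iff_nontrivial.1 (by rw [Fintype.card_units]; omega)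
  exact exists_ne 1

variable (h : Str F A1 A2 t0 φ) (hd : HD F A1 (A1 ⊔ A2) H t)
include h hd

theorem HD.isoB (hη : η ∈ H) : F.IsIso (A1 ⊔ A2) (A1 ⊔ A2) (equivFun η) :=
  isIso_of_mem_autGroup (sup_le h.le1 h.le2) (hd.le hη)

theorem HD.iso12 (hη : η ∈ H) : F.IsIso A1 A1 (equivFun η) ∧ F.IsIso A2 A2 (equivFun η) :=
  (h.toPair.iso_cases (hd.isoB h hη)).resolve_right fun e =>
    h.ne (((hd.isoB h hη).mor.mono le_sup_left).isIso_self (hd.pres η hη) |>.unique e.1)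

theorem HD.t1 (ha : a ∈ A1) : t * a * t⁻¹ ∈ A2 := (h.swap hd.tS hd.tB).1.le (H6.conj_mem_cj ha)

theorem HD.t2 (hb : b ∈ A2) : t * b * t⁻¹ ∈ A1 := (h.swap hd.tS hd.tB).2.le (H6.conj_mem_cj hb)

variable (hS : IsPGroup 2 S) (hF : F.IsSaturated 2) (s : Side F A1 A2 H ci cy ζ)
include s

theorem HD.tk (l : Kˣ) : ∃ η ∈ H, Tk F A1 A2 ci cy (equivFun η) l ∧
    ∀ b ∈ A2, ζ (equivFun η b) = l ^ 2 * ζ b := by
  obtain ⟨η, hη, h1, h2, h3⟩ := s.tor l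
  exact ⟨η, hη, ⟨(hd.iso12 h hη).1, by simpa using h1, h3⟩, h2⟩

include hS hF in
theorem HD.tt (hq : 2 < Fintype.card K) : t * t = 1 := by
  obtain ⟨l, hl⟩ := exists_unit_ne_one hq
  obtain ⟨η, hη, k, kb⟩ := hd.tk h s l
  obtain ⟨i1, i2⟩ := hd.iso12 h hη
  have e := hd.sq η hη
  obtain ⟨a, ha, b, hb, eab⟩ := h.toPair.exists_mul (h.mul_mem hd.tS hd.tB hd.tS hd.tB)
  have l1 : (l : K) ≠ 1 := fun e => hl (Units.ext e)
  have e' := e
  rw [eab, (hd.isoB h hη).mor.map_mul (mem_sup_left ha) (mem_sup_right hb)] at e'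
  have e1 : a * equivFun η a = b * equivFun η b := by
    rw [← h.el1.inv ha, ← h.el2.inv (i2.mapsTo b hb), h.el1.inv ha, ← h.el1.inv ha,
      inv_mul_eq_iff_eq_mul, h.el1.inv ha, ← mul_assoc, eq_mul_inv_iff_mul_eq, e']
  have a0 : ci a = 0 := by
    have := (s.ci_zero _ (A1.mul_mem ha (i1.mapsTo a ha))).2
      (e1 ▸ A2.mul_mem hb (i2.mapsTo b hb))
    rw [s.ci_mul a ha _ (i1.mapsTo a ha), (k.act a ha).1, CharTwo.add_eq_zero, eq_comm] at this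
    by_contra h0
    exact hl (inv_eq_one.1 (Units.ext ((mul_eq_right₀ h0).1 this)))
  have b0 : ζ b = 0 := by
    have := (s.ζ_zero _ (A2.mul_mem hb (i2.mapsTo b hb))).2
      (e1 ▸ A1.mul_mem ha (i1.mapsTo a ha))
    rw [s.ζ_mul b hb _ (i2.mapsTo b hb), kb b hb, CharTwo.add_eq_zero, eq_comm] at this
    by_contra h0
    exact l1 (CharTwo.sq_inj.1 (((mul_eq_right₀ h0).1 this).trans (one_pow 2).symm))
  have m : t * t ∈ A1 := eab ▸ A1.mul_mem ha ((s.ζ_zero b hb).1 b0)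
  have c1 : t * t ∈ Cn F A1 A2 := by
    refine (s.cn _ m).2 ⟨(s.ci_zero _ m).2 (eab ▸ A2.mul_mem ((s.ci_zero a ha).1 a0) hb), ?_⟩
    have := (k.act _ m).2
    rw [e, eq_comm] at this
    by_contra h0
    exact l1 ((mul_eq_right₀ h0).1 this)
  have c2 := (h.cj_cn hd.tS hd.tB).1.le (H6.conj_mem_cj c1)
  rw [mul_assoc, mul_inv_cancel_right] at c2
  exact mem_bot.1 ((h.cn_inf hS hF).le ⟨c1, c2⟩)

theorem HD.exists_σ (tt : t * t = 1) : ∃ (σ : K ≃+* K) (c : Kˣ),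
    ∀ a ∈ A1, c * ζ (t * a * t⁻¹) = σ (ci a) := by
  choose r r1 r2 r3 using fun i => s.surj i 0
  have ti : t⁻¹ = t := inv_eq_of_mul_eq_one_right tt
  have tt' : ∀ x, t * (t * x * t⁻¹) * t⁻¹ = x := fun x => by
    rw [ti]; calc _ = (t * t) * x * (t * t) := by group
      _ = x := by rw [tt]; group
  have mul : ∀ a ∈ A1, ∀ a' ∈ A1, ζ (t * (a * a') * t⁻¹) = ζ (t * a * t⁻¹) + ζ (t * a' * t⁻¹) :=
    fun a ha a' ha' => by rw [← s.ζ_mul _ (hd.t1 h ha) _ (hd.t1 h ha'), conj_mul]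
  have zero : ∀ a ∈ A1, ζ (t * a * t⁻¹) = 0 ↔ ci a = 0 := fun a ha => by
    rw [s.ζ_zero _ (hd.t1 h ha), s.ci_zero a ha]
    exact ⟨fun e => tt' a ▸ hd.t1 h e, hd.t2 h⟩
  set θ : K → K := fun i => ζ (t * r i * t⁻¹) with hθ
  have th : ∀ a ∈ A1, ζ (t * a * t⁻¹) = θ (ci a) := fun a ha => by
    rw [← CharTwo.add_eq_zero, hθ, ← mul a ha _ (r1 _), zero _ (A1.mul_mem ha (r1 _)),
      s.ci_mul a ha _ (r1 _), r2, CharTwo.add_self_eq_zero]
  have add : ∀ i j, θ (i + j) = θ i + θ j := fun i j => by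
    have := th _ (A1.mul_mem (r1 i) (r1 j))
    rw [mul _ (r1 i) _ (r1 j), s.ci_mul _ (r1 i) _ (r1 j), r2, r2] at this
    exact this.symm
  have z0 : ∀ i, θ i = 0 ↔ i = 0 := fun i => by rw [hθ, zero _ (r1 i), r2]
  have inj : Function.Injective θ := fun i j e => by
    rw [← CharTwo.add_eq_zero, ← z0, add, e, CharTwo.add_self_eq_zero]
  have sur := Finite.injective_iff_surjective.1 inj
  have key : ∀ l : Kˣ, ∃ τ : Tor K, (∀ i, θ (l⁻¹ * i) = τ.b * τ.ρ (θ i)) ∧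
      ∀ j, θ (τ.a * τ.ρ j) = l ^ 2 * θ j := fun l => by
    obtain ⟨η, hη, k, kb⟩ := hd.tk h s l
    obtain ⟨η', hη', e⟩ := hd.nrm η hη
    obtain ⟨τ, τ1, τ2⟩ := s.semi η' hη'
    refine ⟨τ, fun i => ?_, fun j => ?_⟩
    · have := th _ (k.iso.mapsTo _ (r1 i))
      rw [e _ (mem_sup_left (r1 i)), τ2 _ (hd.t1 h (r1 i)), (k.act _ (r1 i)).1, r2] at this
      simpa using this.symm
    · have := e _ (mem_sup_right (hd.t1 h (r1 j)))
      rw [tt'] at this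
      have e2 := th _ ((hd.iso12 h hη').1.mapsTo _ (r1 j))
      rw [(τ1 _ (r1 j)).1, r2, ← this, tt', kb _ (hd.t1 h (r1 j))] at e2
      exact e2.symm
  choose τ τ1 τ2 using key
  have sq : ∀ c : K, c ≠ 0 → ∃ m : Kˣ, (m : K) ^ 2 = c := fun c hc => by
    obtain ⟨m, hm⟩ := (frobeniusEquiv K 2).surjective c
    rw [coe_frobeniusEquiv, frobenius_def] at hm
    exact ⟨Units.mk0 m (by rintro rfl; exact hc (by simp [← hm])), hm⟩
  have ρ1 : ∀ l x, (τ l).ρ x = x := fun l => by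
    set ρ := (τ l).ρ with hρ
    have h1 : ∀ c, ρ (ρ c) * c = ρ c * ρ c := fun c => by
      rcases eq_or_ne c 0 with rfl | hc
      · simp
      obtain ⟨m, rfl⟩ := sq c hc
      generalize hc' : (m : K) ^ 2 = c at hc
      -- `θ (μ * j) * c = ρ c * θ j`
      have n1 : (τ m).ρ ((l⁻¹ : Kˣ) : K) ≠ 0 := by simp
      have h2 : ∀ j, θ (l⁻¹ / (τ m).ρ ((l⁻¹ : Kˣ) : K) * j) * c = ρ c * θ j := fun j => by
        obtain ⟨j', rfl⟩ : ∃ j', j = (τ m).a * (τ m).ρ (l⁻¹ * j') :=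
          ⟨l * (τ m).ρ.symm ((τ m).a⁻¹ * j), by simp⟩
        rw [τ2, τ1, hc', show ((l⁻¹ : Kˣ) : K) / (τ m).ρ ((l⁻¹ : Kˣ) : K) * ((τ m).a * (τ m).ρ (l⁻¹ * j')) =
          l⁻¹ * ((τ m).a * (τ m).ρ j') by rw [map_mul]; field_simp, τ1, τ2, hc', map_mul]
        ring
      generalize ((l⁻¹ : Kˣ) : K) / (τ m).ρ ((l⁻¹ : Kˣ) : K) = μ at h2
      obtain ⟨j, hj⟩ := sur 1
      have h3 := h2 (l⁻¹ * j)
      rw [mul_left_comm, τ1, τ1, hj, map_one, mul_one] at h3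
      have h4 := congrArg ρ (h2 j)
      rw [hj, mul_one, map_mul] at h4
      refine mul_left_cancel₀ (τ l).b.ne_zero ?_
      rw [← h4]
      linear_combination (ρ c) * h3
    have h5 : ∀ c, ρ (ρ c) = c := fun c => by
      have := h1 (c + 1)
      simp only [map_add, map_one] at this
      have two : (2 : K) = 0 := CharTwo.two_eq_zero
      linear_combination this - h1 c + (ρ c - c) * two
    intro x
    have := h1 x
    rw [h5, ← pow_two, ← pow_two, eq_comm, CharTwo.sq_inj] at this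
    exact this
  have c0 : θ 1 ≠ 0 := fun e => one_ne_zero ((z0 1).1 e)
  have tm : ∀ x i, θ (x * i) * θ 1 = θ x * θ i := fun x i => by
    rcases eq_or_ne x 0 with rfl | hx
    · simp [(z0 0).2 rfl]
    have e1 := τ1 (Units.mk0 x hx)⁻¹ i
    have e2 := τ1 (Units.mk0 x hx)⁻¹ 1
    simp only [Units.val_mk0, inv_inv, ρ1, mul_one] at e1 e2
    rw [e1, e2]
    ring
  refine ⟨RingEquiv.ofBijective (RingHom.mk' (⟨⟨fun x => θ x / θ 1, div_self c0⟩, fun x y => by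
    rw [div_mul_div_comm, ← tm, mul_div_mul_right _ _ c0]⟩ : K →* K) fun x y => by
      simp [add, add_div]) (Finite.injective_iff_bijective.1 (RingHom.injective _)),
    (Units.mk0 _ c0)⁻¹, fun a ha => ?_⟩
  rw [th a ha, Units.val_inv_eq_inv_val, Units.val_mk0, ← div_eq_inv_mul]
  rfl

end

theorem Str.frame_big (h : Str F A1 A2 t φ) (hS : IsPGroup 2 S) (hF : F.IsSaturated 2)
    (K : Type*) [Field K] [Fintype K] [CharP K 2] (hK : Fintype.card K = (A1 ⊓ A2).relIndex A1)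
    (hq : 2 < Fintype.card K) :
    ∃ (sp : Bool) (σ : K ≃+* K) (Y : Subgroup (Tor K)) (w : U4 K →* Ω) (t' : Ω),
      Par sp σ Y ∧ Fr F sp σ Y w t' ∧ w.range = A1 ⊔ A2 := by
  obtain ⟨H, t, hd⟩ := h.exists_HD hS hF
  obtain ⟨ci, cy0, ζ0, s0⟩ := h.side hS hF hd K hK
  have tt := hd.tt h hS hF s0 hq
  obtain ⟨σ, c0, th⟩ := hd.exists_σ h s0 tt
  have s := s0.scale c0
  set ζ : Ω → K := fun x => c0 * ζ0 x with hζ
  set cy : Ω → K := fun x => c0 * cy0 x with hcy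
  replace th : ∀ a ∈ A1, ζ (t * a * t⁻¹) = σ (ci a) := th
  clear_value ζ cy
  clear s0 hζ hcy
  have two : (2 : K) = 0 := CharTwo.two_eq_zero
  have ti : t⁻¹ = t := inv_eq_of_mul_eq_one_right tt
  have tt' : ∀ x, t * (t * x * t⁻¹) * t⁻¹ = x := fun x => by
    rw [ti]; calc _ = (t * t) * x * (t * t) := by group
      _ = x := by rw [tt]; group
  have t1 : ∀ a ∈ A1, t * a * t⁻¹ ∈ A2 := fun a ha => hd.t1 h ha
  have t2 : ∀ b ∈ A2, t * b * t⁻¹ ∈ A1 := fun b hb => hd.t2 h hb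
  have tD : ∀ d ∈ A1 ⊓ A2, t * d * t⁻¹ ∈ A1 ⊓ A2 := fun d hd => ⟨t2 d hd.2, t1 d hd.1⟩
  have th' : ∀ b ∈ A2, ci (t * b * t⁻¹) = σ⁻¹ (ζ b) := fun b hb => by
    have := th _ (t2 b hb)
    rw [tt'] at this
    rw [this]
    exact (σ.symm_apply_apply _).symm
  have si : ∀ x, σ (σ⁻¹ x) = x := σ.apply_symm_apply
  have is : ∀ x, σ⁻¹ (σ x) = x := σ.symm_apply_apply
  obtain ⟨l, hl⟩ := exists_unit_ne_one hq
  obtain ⟨η0, hη0, k0, -⟩ := hd.tk h s l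
  obtain ⟨xa, xa1, xa2, xa3, xa4⟩ := s.exists_xa h.toPair k0 hl
  have cy1 : cy 1 = 0 := ((s.cn 1 A1.one_mem).1 (one_mem _)).2
  have xa0 : xa 0 = 1 := by
    have := xa2 0 0
    rwa [add_zero, left_eq_mul] at this
  have ciD : ∀ d ∈ A1 ⊓ A2, ci d = 0 := fun d hd => (s.ci_zero d hd.1).2 hd.2
  have c1 : ∀ d ∈ A1 ⊓ A2, d ∈ Cn F A1 A2 ↔ cy d = 0 := fun d hd => by
    rw [s.cn d hd.1, ciD d hd]; simp
  have c2 : ∀ d ∈ A1 ⊓ A2, d ∈ Cn F A2 A1 ↔ cy (t * d * t⁻¹) = 0 := fun d hd' => by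
    rw [← c1 _ (tD d hd'), ← (h.cj_cn hd.tS hd.tB).2, H6.conj_mem_cj_iff]
  have mulD : ∀ d ∈ A1 ⊓ A2, ∀ d' ∈ A1 ⊓ A2, cy (d * d') = cy d + cy d' ∧
      cy (t * (d * d') * t⁻¹) = cy (t * d * t⁻¹) + cy (t * d' * t⁻¹) := fun d hd d' hd' =>
    ⟨s.cy_mul d hd.1 d' hd'.1, by rw [← s.cy_mul _ (tD d hd).1 _ (tD d' hd').1, conj_mul]⟩
  have ext : ∀ d ∈ A1 ⊓ A2, ∀ d' ∈ A1 ⊓ A2, cy d = cy d' →
      cy (t * d * t⁻¹) = cy (t * d' * t⁻¹) → d = d' := fun d hd d' hd' e1 e2 => by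
    have m := (A1 ⊓ A2).mul_mem hd hd'
    have : d * d' = 1 := mem_bot.1 ((h.cn_inf hS hF).le ⟨(c1 _ m).2 (by
      rw [(mulD d hd d' hd').1, e1, CharTwo.add_self_eq_zero]), (c2 _ m).2 (by
      rw [(mulD d hd d' hd').2, e2, CharTwo.add_self_eq_zero])⟩)
    rw [← h.el1.inv hd'.1, eq_inv_iff_mul_eq_one, this]
  have cm1 : ∀ a ∈ A1, ∀ b ∈ A2, cy ⁅a, b⁆ = ζ b * ci a := fun a ha b hb => by
    have e : ⁅a, b⁆ = a * (b * a * b⁻¹) := by rw [commutatorElement_def, h.el1.inv ha]; group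
    rw [e, s.cy_mul a ha _ (H6.conj_mem_of_mem_normalizer (h.toPair.norm1 (mem_sup_right hb)) ha),
      s.act a ha b hb, ← add_assoc, CharTwo.add_self_eq_zero, zero_add]
  have cm2 : ∀ a ∈ A1, ∀ b ∈ A2, cy (t * ⁅a, b⁆ * t⁻¹) = σ (ci a) * σ⁻¹ (ζ b) := fun a ha b hb => by
    rw [conjugate_commutatorElement, ← commutatorElement_inv,
      h.el1.inv (h.comm _ (t2 b hb) _ (t1 a ha)).1, cm1 _ (t2 b hb) _ (t1 a ha), th a ha, th' b hb]
  set xb : K → Ω := fun z => t * xa (σ⁻¹ z) * t⁻¹ with hxb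
  have xb1 : ∀ z, xb z ∈ A2 ∧ ζ (xb z) = z := fun z =>
    ⟨t1 _ (xa1 _).1, by rw [hxb, th _ (xa1 _).1, (xa1 _).2.1, si]⟩
  have xb2 : ∀ z z', xb (z + z') = xb z * xb z' := fun z z' => by
    simp only [hxb, map_add, xa2, conj_mul]
  have xb0 : xb 0 = 1 := by simp [hxb, xa0]
  have cab : ∀ i z, ⁅xa i, xb z⁆ ∈ A1 ⊓ A2 ∧ cy ⁅xa i, xb z⁆ = z * i ∧
      cy (t * ⁅xa i, xb z⁆ * t⁻¹) = σ i * σ⁻¹ z := fun i z =>
    ⟨h.comm _ (xa1 i).1 _ (xb1 z).1, by rw [cm1 _ (xa1 i).1 _ (xb1 z).1, (xb1 z).2, (xa1 i).2.1],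
      by rw [cm2 _ (xa1 i).1 _ (xb1 z).1, (xb1 z).2, (xa1 i).2.1]⟩
  obtain ⟨sp, dd, hsq, dd1, dd2, dd3, dd4⟩ : ∃ (sp : Bool) (dd : K → K → Ω),
      (∀ x, σ (σ x) = if sp then x ^ 2 else x) ∧ (∀ x y, dd x y ∈ A1 ⊓ A2) ∧
      (∀ x y, cy (dd x y) = y) ∧
      (∀ x y, cy (t * dd x y * t⁻¹) = if sp then σ⁻¹ x else σ y) ∧
      ∀ d ∈ A1 ⊓ A2, ∃ x, cy (t * d * t⁻¹) = if sp then σ⁻¹ x else σ (cy d) := by
    rcases (h.sd hS hF).dich hS hF (h.symm.sd hS hF) (h.cn_inf hS hF) with e | e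
    · have e1 : Cn F A1 A2 = ⊥ := by rw [← (h.cj_cn hd.tS hd.tB).2, e, H6.cj_bot]
      have ext' : ∀ d ∈ A1 ⊓ A2, ∀ d' ∈ A1 ⊓ A2, cy d = cy d' → d = d' := fun d hd d' hd' e2 => by
        have := s.mul_mem_cn h.toPair hd.1 hd'.1 (by rw [ciD d hd, ciD d' hd']) e2
        rw [e1, mem_bot] at this
        rw [← h.el1.inv hd'.1, eq_inv_iff_mul_eq_one, this]
      refine ⟨false, fun _ y => ⁅xa y, xb 1⁆, fun x => ?_, fun _ y => (cab y 1).1,
        fun _ y => by rw [(cab y 1).2.1, one_mul], fun _ y => by simp [(cab y 1).2.2],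
        fun d hd => ⟨0, ?_⟩⟩
      · have := (cab x 1).2.2
        rw [ext' _ (cab x 1).1 _ (cab 1 x).1 (by rw [(cab x 1).2.1, (cab 1 x).2.1, mul_comm]),
          (cab 1 x).2.2, map_one, map_one, one_mul, mul_one] at this
        simp [← this]
      · rw [ext' d hd _ (cab (cy d) 1).1 (by rw [(cab _ 1).2.1, one_mul]), (cab _ 1).2.2,
          (cab _ 1).2.1]
        simp
    · have dec : ∀ d ∈ A1 ⊓ A2, ∃ c ∈ Cn F A1 A2, ∃ c' ∈ Cn F A2 A1, c ∈ A1 ⊓ A2 ∧ c' ∈ A1 ⊓ A2 ∧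
          d = c * c' := fun d hd => by
        obtain ⟨c, hc, c', hc', rfl⟩ := (mem_sup_of_le_normalizer (P := Cn F A1 A2)
          (Q := Cn F A2 A1) (fun x hx => cent_le_norm (mem_cent.2 fun y hy =>
            h.el2.comm (h.toPair.symm.cn_le hy).1 (h.toPair.cn_le hx).2))).1 (e hd)
        exact ⟨c, hc, c', hc', h.toPair.cn_le hc, (h.toPair.symm.cn_le hc').symm, rfl⟩
      have ex : ∀ y, ∃ c ∈ A1 ⊓ A2, cy c = y ∧ cy (t * c * t⁻¹) = 0 := fun y => by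
        obtain ⟨c, hc, c', hc', m, m', e⟩ := dec _ (cab y 1).1
        refine ⟨c', m', ?_, (c2 _ m').1 hc'⟩
        have := (cab y 1).2.1
        rwa [e, (mulD _ m _ m').1, (c1 _ m).1 hc, zero_add, one_mul] at this
      choose c m1 m2 m3 using ex
      refine ⟨true, fun x y => c y * (t * c (σ⁻¹ x) * t⁻¹), fun x => ?_,
        fun x y => (A1 ⊓ A2).mul_mem (m1 _) (tD _ (m1 _)),
        fun x y => by rw [(mulD _ (m1 _) _ (tD _ (m1 _))).1, m2, m3, add_zero],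
        fun x y => by simp [(mulD _ (m1 _) _ (tD _ (m1 _))).2, tt', m2, m3],
        fun d hd => ⟨σ (cy (t * d * t⁻¹)), by simp [is]⟩⟩
      rcases eq_or_ne x 0 with rfl | hx
      · simp
      obtain ⟨η, hη, k, kb⟩ := hd.tk h s (Units.mk0 x hx)
      obtain ⟨i1, i2⟩ := hd.iso12 h hη
      have m := (hd.isoB h hη).mor
      have e1 : ∀ d ∈ A1 ⊓ A2, cy (t * equivFun η d * t⁻¹) = cy (t * d * t⁻¹) := fun d hd => by
        obtain ⟨c, hc, c', hc', n, n', rfl⟩ := dec d hd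
        have n'' : equivFun η c' ∈ A1 ⊓ A2 := ⟨i1.mapsTo _ n'.1, i2.mapsTo _ n'.2⟩
        rw [m.map_mul (mem_sup_left n.1) (mem_sup_left n'.1), k.fix c hc, (mulD _ n _ n'').2,
          (mulD _ n _ n').2, (c2 _ n').1 hc', (c2 _ n'').1 (cn_map i2 hc')]
      have e2 := e1 _ (cab 1 1).1
      rw [m.map_commutatorElement (mem_sup_left (xa1 1).1) (mem_sup_right (xb1 1).1),
        cm2 _ (i1.mapsTo _ (xa1 1).1) _ (i2.mapsTo _ (xb1 1).1), (cab 1 1).2.2,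
        (k.act _ (xa1 1).1).1, kb _ (xb1 1).1, (xa1 1).2.1, (xb1 1).2] at e2
      have e3 := congrArg σ e2
      simp only [map_mul, map_one, mul_one, si, Units.val_inv_eq_inv_val, Units.val_mk0,
        map_inv₀] at e3
      rw [if_pos rfl, eq_comm]
      exact (inv_mul_eq_one₀ (by simpa using hx)).1 e3 |>.symm
  have sq1 : sp = true → ∀ x, σ⁻¹ (x ^ 2) = σ x := fun e x => by
    have := hsq x
    rw [if_pos e] at this
    rw [← this, is]
  have sq2 : sp = false → ∀ x, σ⁻¹ x = σ x := fun e x => by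
    have := hsq (σ⁻¹ x)
    rw [if_neg (by simp [e]), si] at this
    exact this.symm
  have dadd : ∀ x y x' y', dd (x + x') (y + y') = dd x y * dd x' y' := fun x y x' y' =>
    ext _ (dd1 _ _) _ ((A1 ⊓ A2).mul_mem (dd1 _ _) (dd1 _ _))
      (by rw [(mulD _ (dd1 _ _) _ (dd1 _ _)).1, dd2, dd2, dd2]) (by
        rw [(mulD _ (dd1 _ _) _ (dd1 _ _)).2, dd3, dd3, dd3]
        split_ifs <;> rw [map_add])
  have dcomm : ∀ i z, ⁅xa i, xb z⁆ = dd (i ^ 2 * z) (i * z) := fun i z =>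
    ext _ (cab i z).1 _ (dd1 _ _) (by rw [(cab i z).2.1, dd2, mul_comm]) (by
      rw [(cab i z).2.2, dd3]
      cases sp
      · simp [sq2 rfl]
      · simp only [if_true, map_mul, sq1 rfl])
  have dcen : ∀ d ∈ A1 ⊓ A2, ∀ b ∈ A1 ⊔ A2, d * b = b * d := fun d hd b hb =>
    mem_cent.1 (h.toPair.cent hb) d hd
  have swp : ∀ i z, xa i * xb z = dd (i ^ 2 * z) (i * z) * xb z * xa i := fun i z => by
    rw [← dcomm, commutatorElement_def]; group
  let w : U4 K →* Ω := MonoidHom.mk' (fun u => dd u.x u.y * xb u.z * xa u.i) fun u v => by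
    simp only [U4.mul_def, two, zero_mul, add_zero, dadd, xa2, xb2]
    calc _ = dd u.x u.y * (dd v.x v.y * (dd (u.i ^ 2 * v.z) (u.i * v.z) * xb u.z) * xb v.z *
        xa u.i) * xa v.i := by group
      _ = dd u.x u.y * ((dd v.x v.y * xb u.z) * (xa u.i * xb v.z)) * xa v.i := by
        rw [dcen _ (dd1 _ _) _ (mem_sup_right (xb1 _).1), swp]; group
      _ = dd u.x u.y * xb u.z * (dd v.x v.y * xa u.i) * xb v.z * xa v.i := by
        rw [dcen _ (dd1 _ _) _ (mem_sup_right (xb1 _).1)]; group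
      _ = _ := by rw [dcen _ (dd1 _ _) _ (mem_sup_left (xa1 _).1)]; group
  have hw : ∀ u, w u = dd u.x u.y * xb u.z * xa u.i := fun _ => rfl
  have wB : ∀ u, w u ∈ A1 ⊔ A2 := fun u => Subgroup.mul_mem _ (Subgroup.mul_mem _
    (mem_sup_left (dd1 _ _).1) (mem_sup_right (xb1 _).1)) (mem_sup_left (xa1 _).1)
  have dsur : ∀ d ∈ A1 ⊓ A2, ∃ x, d = dd x (cy d) := fun d hd => by
    obtain ⟨x, e⟩ := dd4 d hd
    exact ⟨x, ext _ hd _ (dd1 _ _) (dd2 _ _).symm (by rw [e, dd3])⟩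
  have a1 : ∀ a ∈ A1, ∃ u ∈ sB K, w u = a := fun a ha => by
    have m := A1.mul_mem ha (xa1 (ci a)).1
    obtain ⟨x, e⟩ := dsur (a * xa (ci a)) ⟨m, (s.ci_zero _ m).1 (by
      rw [s.ci_mul a ha _ (xa1 _).1, (xa1 _).2.1, CharTwo.add_self_eq_zero])⟩
    refine ⟨⟨x, cy (a * xa (ci a)), 0, ci a⟩, rfl, ?_⟩
    rw [hw, xb0, mul_one, ← e, mul_assoc, h.el1 _ (xa1 _).1, mul_one]
  have a2 : ∀ b ∈ A2, b ∈ w.range := fun b hb => by
    have m := A2.mul_mem hb (xb1 (ζ b)).1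
    obtain ⟨x, e⟩ := dsur (b * xb (ζ b)) ⟨(s.ζ_zero _ m).1 (by
      rw [s.ζ_mul b hb _ (xb1 _).1, (xb1 _).2, CharTwo.add_self_eq_zero]), m⟩
    refine ⟨⟨x, cy (b * xb (ζ b)), ζ b, 0⟩, ?_⟩
    rw [hw, xa0, mul_one, ← e, mul_assoc, h.el2 _ (xb1 _).1, mul_one]
  have hr : w.range = A1 ⊔ A2 := le_antisymm (by rintro _ ⟨u, rfl⟩; exact wB u)
    (sup_le (fun a ha => (a1 a ha).imp fun _ e => e.2) a2)
  have hA1 : (sB K).map w = A1 := le_antisymm (by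
    rintro _ ⟨u, hu, rfl⟩
    rw [hw, show u.z = 0 from hu, xb0, mul_one]
    exact A1.mul_mem (dd1 _ _).1 (xa1 _).1) a1
  choose! τ τ1 τ2 using s.semi
  have τext : ∀ η ∈ H, ∀ τ' : Tor K, (∀ a ∈ A1, ci (equivFun η a) = τ'.a * τ'.ρ (ci a)) →
      (∀ b ∈ A2, ζ (equivFun η b) = τ'.b * τ'.ρ (ζ b)) → τ η = τ' := fun η hη τ' e1 e2 => by
    have f1 : ∀ i, (τ η).a * (τ η).ρ i = τ'.a * τ'.ρ i := fun i => by
      have := (τ1 η hη _ (xa1 i).1).1
      rwa [e1 _ (xa1 i).1, (xa1 i).2.1, eq_comm] at this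
    have f2 : (τ η).a = τ'.a := Units.ext (by simpa using f1 1)
    have f3 := τ2 η hη _ (xb1 1).1
    rw [e2 _ (xb1 1).1, (xb1 1).2] at f3
    exact Tor.ext f2 (Units.ext (by simpa using f3.symm)) (RingEquiv.ext fun i =>
      (Units.mul_right_inj τ'.a).1 (f2 ▸ f1 i))
  let τ' : H →* Tor K := MonoidHom.mk' (fun η => τ η) fun η η' =>
    τext _ (η * η').2 _ (fun a ha => by
      rw [Subgroup.coe_mul, equivFun_mul _ _ (mem_sup_left ha), (τ1 _ η.2 _ (hd.pres _ η'.2 a ha)).1,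
        (τ1 _ η'.2 a ha).1]
      simp [mul_assoc]) fun b hb => by
      rw [Subgroup.coe_mul, equivFun_mul _ _ (mem_sup_right hb),
        τ2 _ η.2 _ ((hd.iso12 h η'.2).2.mapsTo b hb), τ2 _ η'.2 b hb]
      simp [mul_assoc]
  have tsw : ∀ η ∈ H, ∀ η' ∈ H, (∀ b ∈ A1 ⊔ A2, t * equivFun η b * t⁻¹ = equivFun η' (t * b * t⁻¹)) →
      τ η' = (τ η).sw σ := fun η hη η' hη' e => τext η' hη' _ (fun a ha => by
    have := e _ (mem_sup_right (t1 a ha))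
    rw [tt'] at this
    rw [← this, th' _ ((hd.iso12 h hη).2.mapsTo _ (t1 a ha)), τ2 η hη _ (t1 a ha), th a ha, map_mul,
      ringAut_comm _ σ, is]
    rfl) fun b hb => by
    have := e _ (mem_sup_left (t2 b hb))
    rw [tt'] at this
    rw [← this, th _ (hd.pres η hη _ (t2 b hb)), (τ1 η hη _ (t2 b hb)).1, th' b hb, map_mul,
      ringAut_comm _ σ⁻¹, si]
    rfl
  have fa : ∀ η ∈ H, ∀ i, equivFun η (xa i) = xa ((τ η).a * (τ η).ρ i) := fun η hη i => by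
    have i1 := (hd.iso12 h hη).1
    obtain ⟨k', hk', e⟩ := k0.conj (l' := Tor.um (τ η).ρ l) i1 fun a ha => by
      rw [(τ1 η hη _ (k0.iso.mapsTo a ha)).1, (τ1 η hη _ (k0.iso.mapsTo a ha)).2, (τ1 η hη a ha).1,
        (τ1 η hη a ha).2, (k0.act a ha).1, (k0.act a ha).2]
      simp only [map_mul, Units.val_inv_eq_inv_val, map_inv₀, Tor.coe_um]
      exact ⟨by ring, by ring⟩
    obtain ⟨a, ha, e1, e2⟩ := xa3 i
    have e3 := xa4 k' _ hk' (fun e => hl (Units.ext ((τ η).ρ.injective (by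
      simpa using congrArg Units.val e)))) _ (i1.mapsTo a ha) (by rw [(τ1 η hη a ha).2, e1]; simp)
    rw [e a ha, ← i1.mor.map_mul (k0.iso.mapsTo a ha) ha, ← e2, (τ1 η hη _ (xa1 i).1).1,
      (xa1 i).2.1] at e3
    exact e3
  have fw : ∀ η ∈ H, ∀ u, equivFun η (w u) = w (dg (τ η) u) := fun η hη u => by
    obtain ⟨η', hη', e⟩ := hd.nrm η hη
    have e' := tsw η hη η' hη' e
    obtain ⟨i1, i2⟩ := hd.iso12 h hη
    have m := (hd.isoB h hη).mor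
    have m1 := mem_sup_left (T := A2) (dd1 u.x u.y).1
    have m2 := mem_sup_right (S := A1) (xb1 u.z).1
    rw [hw, hw, m.map_mul (Subgroup.mul_mem _ m1 m2) (mem_sup_left (xa1 _).1), m.map_mul m1 m2,
      fa η hη, dg_apply]
    congr 2
    · refine ext _ ⟨i1.mapsTo _ (dd1 _ _).1, i2.mapsTo _ (dd1 _ _).2⟩ _ (dd1 _ _) ?_ ?_
      · rw [(τ1 η hη _ (dd1 _ _).1).2, dd2, dd2]
      · rw [e _ m1, (τ1 η' hη' _ (tD _ (dd1 _ _)).1).2, dd3, dd3, e']
        cases sp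
        · simp only [Tor.sw, Tor.coe_um, sq2 rfl, map_mul, ringAut_comm _ σ, Bool.false_eq_true,
            if_false]
          ring
        · simp only [Tor.sw, Tor.coe_um, sq1 rfl, map_mul, ringAut_comm _ σ⁻¹, if_true]
          ring
    · have := e _ m2
      rw [hxb, tt', fa η' hη', e'] at this
      rw [← tt' (equivFun η _), this]
      simp only [hxb, Tor.sw, Tor.coe_um, map_mul, ringAut_comm _ σ⁻¹]
  refine ⟨sp, σ, τ'.range, w, t, ⟨hsq, hd.odd.of_dvd_nat (card_range_dvd τ'), ?_, fun l => ?_,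
    Or.inr (by rwa [Nat.card_eq_fintype_card])⟩, ⟨fun u => ⟨fun e => ?_, fun e => ?_⟩,
    fun g => ⟨fun hg => ?_, ?_⟩, hr ▸ hd.tB, tt, fun u => ?_, fun f hf => ?_, ?_, ?_,
    fun x => ?_⟩, hr⟩
  · rintro _ ⟨η, rfl⟩
    obtain ⟨η', hη', e⟩ := hd.nrm η η.2
    exact ⟨⟨η', hη'⟩, tsw η η.2 η' hη' e⟩
  · obtain ⟨η, hη, k, kb⟩ := hd.tk h s l
    exact ⟨⟨η, hη⟩, τext η hη _ (fun a ha => (k.act a ha).1) fun b hb => by
      rw [kb b hb]; simp [Tor.lam]⟩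
  · rw [hw] at e
    have e1 : u.i = 0 := by
      rw [← (xa1 u.i).2.1, s.ci_zero _ (xa1 _).1, eq_inv_of_mul_eq_one_right e]
      exact A2.inv_mem (A2.mul_mem (dd1 _ _).2 (xb1 _).1)
    rw [e1, xa0, mul_one] at e
    have e2 : u.z = 0 := by
      rw [← (xb1 u.z).2, s.ζ_zero _ (xb1 _).1, eq_inv_of_mul_eq_one_right e]
      exact A1.inv_mem (dd1 _ _).1
    rw [e2, xb0, mul_one] at e
    refine ⟨by rw [← dd2 u.x u.y, e, cy1], e2, e1, fun hs => ?_⟩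
    have := dd3 u.x u.y
    rw [e, mul_one, mul_inv_cancel, cy1, if_pos hs, eq_comm] at this
    exact (map_eq_zero_iff _ σ⁻¹.injective).1 this
  · rw [hw, e.1, e.2.1, e.2.2.1, xa0, xb0, mul_one, mul_one]
    refine ext _ (dd1 _ _) _ (one_mem _) (by rw [dd2, cy1]) ?_
    rw [dd3, mul_one, mul_inv_cancel, cy1]
    split_ifs with hs
    · rw [e.2.2.2 hs, map_zero]
    · exact map_zero σ
  · by_cases hB : g ∈ A1 ⊔ A2
    · obtain ⟨u, e⟩ := hr.ge hB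
      exact ⟨u, Or.inl e.symm⟩
    · obtain ⟨u, e⟩ := hr.ge (h.mul_mem hg hB hd.tS hd.tB)
      exact ⟨u, Or.inr (by rw [e, mul_assoc, tt, mul_one])⟩
  · rintro ⟨u, rfl | rfl⟩
    · exact sup_le h.le1 h.le2 (wB u)
    · exact S.mul_mem (sup_le h.le1 h.le2 (wB u)) hd.tS
  · have e1 : t * xa u.i * t⁻¹ = xb (σ u.i) := by simp only [hxb, is]
    have e2 : t * xb u.z * t⁻¹ = xa (σ⁻¹ u.z) := tt' _
    nth_rewrite 2 [← ti]
    rw [hw, hw, ← conj_mul, ← conj_mul, e1, e2, mul_assoc, swp, ← mul_assoc, ← mul_assoc]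
    congr 2
    refine ext _ ((A1 ⊓ A2).mul_mem (tD _ (dd1 _ _)) (dd1 _ _)) _ (dd1 _ _) ?_ ?_
    · rw [(mulD _ (tD _ (dd1 _ _)) _ (dd1 _ _)).1, dd2, dd2, dd3]
      cases sp
      · simp only [PU.sw, sq2 rfl, map_mul, map_add, Bool.false_eq_true, if_false]
        ring
      · simp only [PU.sw, sq1 rfl, map_mul, map_add, if_true]
        ring
    · rw [(mulD _ (tD _ (dd1 _ _)) _ (dd1 _ _)).2, tt', dd2, dd3, dd3]
      cases sp
      · simp only [PU.sw, ← sq2 rfl, map_mul, map_add, Bool.false_eq_true, if_false]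
        simp only [sq2 rfl u.i, sq2 rfl u.y, sq2 rfl u.z, is]
        ring
      · simp only [PU.sw, sq1 rfl, map_mul, map_add, if_true, is, si]
        ring
  · obtain ⟨s', hs', η, hη, e⟩ := hd.dec f (hr ▸ hf)
    exact ⟨s', hs', τ η, ⟨⟨η, hη⟩, rfl⟩, fun u => by rw [e _ (wB u), fw η hη]⟩
  · rintro _ ⟨η, rfl⟩
    exact ⟨_, by rw [hr]; exact (hd.isoB h η.2).mor, fw η η.2⟩
  · rintro _ ⟨⟨η, hη⟩, rfl⟩ e
    obtain ⟨η', hη', e1⟩ := hd.nrm η hη
    obtain ⟨f, hf, f1, f2⟩ := hd.ext η hη fun b hb => by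
      obtain ⟨u, e2⟩ := hr.ge (H6.conj_mem_of_mem_normalizer (h.normal hd.tS) hb)
      rw [e1 b hb, ← e2, fw η hη, fw η' hη', tsw η hη η' hη' e1]
      exact congrArg (fun τ => w (dg τ u)) e
    exact ⟨f, hf, fun u => by rw [f1 _ (wB u), fw η hη]; rfl, f2⟩
  · obtain ⟨f, hf, f1, f2⟩ := s.low x
    refine ⟨f, hA1 ▸ hf.mor, fun u hu => ?_⟩
    have key : ∀ x' y, f (dd x' y) = dd (x' + x * y ^ 2) y * xa (x * y) := by
      have co : ∀ x' y i, ci (dd x' y * xa i) = i ∧ cy (dd x' y * xa i) = y := fun x' y i =>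
        ⟨by rw [s.ci_mul _ (dd1 _ _).1 _ (xa1 _).1, ciD _ (dd1 _ _), (xa1 _).2.1, zero_add],
          by rw [s.cy_mul _ (dd1 _ _).1 _ (xa1 _).1, dd2, (xa1 _).2.2, add_zero]⟩
      cases sp
      · intro x' y
        have m1 := hf.mapsTo _ (dd1 x' y).1
        have m2 := A1.mul_mem (dd1 (x' + x * y ^ 2) y).1 (xa1 (x * y)).1
        have m3 := s.mul_mem_cn h.toPair m1 m2
          (by rw [(f2 _ (dd1 _ _).1).2, (co _ _ _).1, ciD _ (dd1 _ _), dd2, zero_add])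
          (by rw [(f2 _ (dd1 _ _).1).1, (co _ _ _).2, dd2])
        have m4 := h.toPair.cn_le m3
        obtain ⟨_, e⟩ := dd4 _ m4
        have e1 := (c1 _ m4).1 m3
        rw [← h.el1.inv m2, eq_inv_iff_mul_eq_one]
        refine ext _ m4 _ (one_mem _) (by rw [e1, cy1]) ?_
        rw [e, e1, mul_one, mul_inv_cancel, cy1]
        simp
      · suffices e : ∀ y, f (dd 0 y) = dd (x * y ^ 2) y * xa (x * y) by
          intro x' y
          have e1 := dadd x' 0 0 y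
          rw [add_zero, zero_add] at e1
          rw [e1, hf.mor.map_mul (dd1 _ _).1 (dd1 _ _).1, e, f1 _ (dd1 _ _).1 (dd2 _ _), ← mul_assoc,
            ← dadd, zero_add]
        intro y
        rcases eq_or_ne x 0 with rfl | hx
        · rw [zero_mul, zero_mul, xa0, mul_one]
          exact s.rig f hf (fun a ha => ⟨by simp [(f2 a ha).2], (f2 a ha).1⟩)
            (fun c hc => f1 c hc.1 ((s.cn c hc.1).1 hc).2) _ (dd1 _ _).1
        set b := xb x⁻¹ with hb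
        have bA := (xb1 x⁻¹).1
        have bn := h.toPair.norm1 (mem_sup_right bA)
        have ib := F.isIso_conj_of_mem_normalizer h.le1 (h.le2 bA) bn
        have cb : ∀ a ∈ A1, ci (b * a * b⁻¹) = ci a ∧ cy (b * a * b⁻¹) = cy a + x⁻¹ * ci a :=
          fun a ha => ⟨by
            have e : b * a * b⁻¹ = a * ⁅a, b⁆ := by
              rw [commutatorElement_def, h.el1.inv ha, ← mul_assoc, ← mul_assoc, ← mul_assoc,
                h.el1 a ha, one_mul]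
            rw [e, s.ci_mul a ha _ (h.comm a ha b bA).1, ciD _ (h.comm a ha b bA), add_zero],
            by rw [s.act a ha b bA, (xb1 _).2]⟩
        have hn := ib.comp' (hf.comp' ib)
        have cn : ∀ a ∈ A1, ci (b * f (b * a * b⁻¹) * b⁻¹) = x * cy a ∧
            cy (b * f (b * a * b⁻¹) * b⁻¹) = x⁻¹ * ci a := fun a ha => by
          have m1 := ib.mapsTo a ha
          have m2 := hf.mapsTo _ m1
          rw [(cb _ m2).1, (cb _ m2).2, (f2 _ m1).1, (f2 _ m1).2, (cb a ha).1, (cb a ha).2]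
          constructor
          · field_simp
            linear_combination (ci a) * two
          · field_simp
            linear_combination (x * cy a + ci a) * two
        obtain ⟨k', hk', e⟩ := k0.conj (l' := l⁻¹) hn fun a ha => by
          rw [(cn _ (k0.iso.mapsTo a ha)).1, (cn _ (k0.iso.mapsTo a ha)).2, (cn a ha).1, (cn a ha).2,
            (k0.act a ha).1, (k0.act a ha).2, inv_inv]
          exact ⟨by ring, by ring⟩
        have nz : (l : K) + 1 ≠ 0 := fun e => hl (Units.ext (CharTwo.add_eq_zero.1 e))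
        obtain ⟨i1, i2⟩ := hd.iso12 h hη0
        have m0 := dd1 0 (y / (l + 1))
        have m1 : equivFun η0 (dd 0 (y / (l + 1))) ∈ A1 ⊓ A2 := ⟨i1.mapsTo _ m0.1, i2.mapsTo _ m0.2⟩
        have z0 : cy (t * dd 0 (y / (l + 1)) * t⁻¹) = 0 := by rw [dd3]; simp
        have e1 : dd 0 y = equivFun η0 (dd 0 (y / (l + 1))) * dd 0 (y / (l + 1)) :=
          ext _ (dd1 _ _) _ ((A1 ⊓ A2).mul_mem m1 m0) (by
            rw [(mulD _ m1 _ m0).1, (k0.act _ m0.1).2, dd2, dd2]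
            field_simp) (by
            rw [(mulD _ m1 _ m0).2, z0, (c2 _ m1).1 (cn_map i2 ((c2 _ m0).2 z0)), dd3]
            simp)
        have e2 := xa4 k' _ hk' (fun e => hl (inv_eq_one.1 e)) _ (hn.mapsTo _ m0.1) (by
          rw [(cn _ m0.1).2, ciD _ m0, mul_zero])
        rw [e _ m0.1, ← hn.mor.map_mul m1.1 m0.1, ← e1, (cn _ (dd1 _ _).1).1, dd2,
          ← dcen _ (dd1 _ _) _ (mem_sup_right bA), mul_inv_cancel_right] at e2
        have e3 := swp (x * y) x⁻¹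
        rw [show (x * y) ^ 2 * x⁻¹ = x * y ^ 2 by field_simp, show x * y * x⁻¹ = y by field_simp,
          dcen _ (dd1 _ _) _ (mem_sup_right bA), ← hb] at e3
        calc f (dd 0 y) = b⁻¹ * (xa (x * y) * b) := by rw [← e2, ← hb]; group
          _ = _ := by rw [e3]; group
    rw [hw, hw, show u.z = 0 from hu, xb0, mul_one, hf.mor.map_mul (dd1 _ _).1 (xa1 _).1, key,
      f1 _ (xa1 _).1 (xa1 _).2.2]
    simp only [PU.low, xb0, mul_one, add_comm u.i, xa2, mul_assoc]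

end Cfsg.Agent.PU
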