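import Cfsg.Agent.Lib.PU.Fr0

/-!
Basic facts on frames.
-/

set_option autoImplicit false

namespace Cfsg.Agent.PU

open Cfsg Cfsg.FusionSystem Subgroup Cfsg.Agent.FT
open Cfsg.Agent.H6 (cj RealizedIn SylIn)
open Cfsg.Agent.H9 (U4)
open Cfsg.Agent.SP (sA sB sZ sX)
open scoped commutatorElement

variable {Ω : Type*} [Group Ω] {S : Subgroup Ω} [Finite S] {F F' : FusionSystem S}
  {K : Type*} [Field K] [Fintype K] [CharP K 2] {sp : Bool} {σ : K ≃+* K}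
  {Y : Subgroup (Tor K)} {w : U4 K →* Ω} {t : Ω}


omit [Finite S] [Fintype K] in
theorem Ker.eq_iff (h : Ker sp w) {u v : U4 K} :
    w u = w v ↔ u.y = v.y ∧ u.z = v.z ∧ u.i = v.i ∧ (sp = true → u.x = v.x) := by
  rw [← inv_mul_eq_one, ← map_inv, ← map_mul, h]
  simp only [SP.mul_x, SP.mul_y, SP.mul_z, SP.mul_i, SP.inv_x, SP.inv_y, SP.inv_z, SP.inv_i,
    neg_add_eq_zero]
  refine ⟨fun ⟨h1, h2, h3, h4⟩ => ?_, fun ⟨h1, h2, h3, h4⟩ => ?_⟩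
  · have : u.y = v.y := by linear_combination -h1 + u.i * h2
    exact ⟨this, h2, h3, fun e => by linear_combination -h4 e + 2 * u.i * this - u.i ^ 2 * h2⟩
  · exact ⟨by linear_combination -h1 + u.i * h2, h2, h3,
      fun e => by linear_combination -h4 e + 2 * u.i * h1 - u.i ^ 2 * h2⟩

omit [Finite S] [Fintype K] in
theorem Ker.mem_B (h : Ker sp w) {u : U4 K} : w u ∈ (sB K).map w ↔ u.z = 0 :=
  ⟨fun ⟨_, hv, e⟩ => (h.eq_iff.1 e).2.1.symm.trans hv, fun e => ⟨u, e, rfl⟩⟩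

omit [Finite S] [Fintype K] in
theorem Ker.mem_A (h : Ker sp w) {u : U4 K} : w u ∈ (sA K).map w ↔ u.i = 0 :=
  ⟨fun ⟨_, hv, e⟩ => (h.eq_iff.1 e).2.2.1.symm.trans hv, fun e => ⟨u, e, rfl⟩⟩

omit [Finite S] [Fintype K] [CharP K 2] in
theorem map_sup_map (w : U4 K →* Ω) : (sB K).map w ⊔ (sA K).map w = w.range := by
  refine le_antisymm (sup_le (map_le_range _ _) (map_le_range _ _)) ?_
  rintro _ ⟨u, rfl⟩
  rw [show u = ⟨u.x, u.y, u.z, 0⟩ * ⟨0, 0, 0, u.i⟩ by simp [U4.mul_def], map_mul]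
  exact mul_mem (mem_sup_right ⟨_, rfl, rfl⟩) (mem_sup_left ⟨_, rfl, rfl⟩)

omit [Finite S] in
theorem Ker.card_range (h : Ker sp w) :
    Nat.card w.range = Nat.card K ^ (if sp then 4 else 3) := by
  cases sp
  · rw [← Nat.card_eq_of_bijective (fun p : K × K × K => (⟨w ⟨0, p.1, p.2.1, p.2.2⟩, _, rfl⟩ : w.range))
      ⟨fun p p' e => by
        obtain ⟨h1, h2, h3, -⟩ := h.eq_iff.1 (congrArg Subtype.val e)
        exact Prod.ext h1 (Prod.ext h2 h3), fun ⟨_, u, e⟩ =>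
        ⟨(u.y, u.z, u.i), Subtype.ext ((h.eq_iff.2 (by simp)).trans e)⟩⟩]
    simp only [Nat.card_prod, Bool.false_eq_true, if_false]
    ring
  · rw [if_pos rfl, ← U4.card]
    exact (Nat.card_congr (MonoidHom.ofInjective fun u v e => by
      obtain ⟨h1, h2, h3, h4⟩ := h.eq_iff.1 e
      exact U4.ext (h4 rfl) h1 h2 h3).toEquiv).symm

omit [Finite S] [Fintype K] [CharP K 2] in
theorem Fr.wS (h : Fr F sp σ Y w t) (u : U4 K) : w u ∈ S := (h.mem _).2 ⟨u, .inl rfl⟩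

omit [Finite S] [Fintype K] [CharP K 2] in
theorem Fr.tS (h : Fr F sp σ Y w t) : t ∈ S := (h.mem t).2 ⟨1, .inr (by rw [map_one, one_mul])⟩

omit [Finite S] [Fintype K] [CharP K 2] in
theorem Fr.range_le (h : Fr F sp σ Y w t) : w.range ≤ S := fun _ ⟨u, e⟩ => e ▸ h.wS u

omit [Finite S] [Fintype K] [CharP K 2] in
theorem Fr.t_inv (h : Fr F sp σ Y w t) : t⁻¹ = t := inv_eq_of_mul_eq_one_right h.tt

omit [Finite S] [Fintype K] [CharP K 2] in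
theorem Fr.conj' (h : Fr F sp σ Y w t) (u : U4 K) : t * w u * t⁻¹ = w (sw sp σ u) := by
  rw [h.t_inv, h.conj]

theorem Fr.card (h : Fr F sp σ Y w t) :
    Nat.card S = 2 * Nat.card K ^ (if sp then 4 else 3) := by
  have h1 : w.range.relIndex S = 2 := relIndex_eq_two_iff.2 ⟨t, h.tS, fun s hs => by
    obtain ⟨u, rfl | rfl⟩ := (h.mem s).1 hs
    · exact .inr ⟨⟨u, rfl⟩, fun e => h.nt ((w.range.mul_mem_cancel_left ⟨u, rfl⟩).1 e)⟩
    · exact .inl ⟨⟨u, by rw [mul_assoc, h.tt, mul_one]⟩,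
        fun e => h.nt ((w.range.mul_mem_cancel_left ⟨u, rfl⟩).1 e)⟩⟩
  rw [card_relIndex_inf w.range S, h1, inf_of_le_left h.range_le, h.ker.card_range]

theorem Fr.isPGroup (h : Fr F sp σ Y w t) : IsPGroup 2 S := by
  obtain ⟨n, -, hn⟩ := FiniteField.card K 2
  exact IsPGroup.of_card (n := n * (if sp then 4 else 3) + 1)
    (by rw [h.card, Nat.card_eq_fintype_card, hn, pow_succ', pow_mul])

theorem Fr.str (h : Fr F sp σ Y w t) (hp : Par sp σ Y) :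
    ∃ φ, Str F ((sB K).map w) ((sA K).map w) t φ ∧ ∀ u ∈ sB K, φ (w u) = w (PU.low 1 u) := by
  obtain ⟨φ, h1, h2⟩ := h.low 1
  have k := h.ker
  have l1 : cj t ((sB K).map w) ≤ (sA K).map w := H6.cj_le_iff.2 fun _ ⟨u, hu, e⟩ => by
    rw [← e, h.conj', k.mem_A]
    exact (congrArg ⇑σ⁻¹ hu).trans (map_zero _)
  have l2 : cj t ((sA K).map w) ≤ (sB K).map w := H6.cj_le_iff.2 fun _ ⟨u, hu, e⟩ => by
    rw [← e, h.conj', k.mem_B]
    exact (congrArg σ hu).trans (map_zero _)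
  have t1 := le_antisymm l1 (by rw [← h.t_inv]; exact H6.cj_le_iff_le_cj.1 l2)
  have t2 := le_antisymm l2 (by rw [← h.t_inv]; exact H6.cj_le_iff_le_cj.1 l1)
  refine ⟨φ, ⟨⟨(map_le_range _ _).trans h.range_le, (map_le_range _ _).trans h.range_le, ?_, ?_,
    fun e => one_ne_zero (k.mem_A.1 (e ▸ k.mem_B.2 rfl : w ⟨0, 0, 0, 1⟩ ∈ _)),
    by rw [← t1, H6.card_cj], ?_, ?_⟩, h.tS, t1, t2, fun s hs => ?_, h1.isIso_self ?_,
    ⟨w ⟨0, 1, 0, 0⟩, ⟨k.mem_B.2 rfl, k.mem_A.2 rfl⟩, by rw [h2 _ rfl, k.mem_A]; simp [PU.low]⟩,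
    ?_, ?_⟩, h2⟩
  · rintro _ ⟨u, hu : u.z = 0, rfl⟩
    rw [← map_mul, k]
    simp [U4.mul_def, hu, CharTwo.add_self_eq_zero, CharTwo.two_eq_zero]
  · rintro _ ⟨u, hu : u.i = 0, rfl⟩
    rw [← map_mul, k]
    simp [U4.mul_def, hu, CharTwo.add_self_eq_zero]
  · rintro _ ⟨u, -, rfl⟩ _ ⟨v, -, rfl⟩
    rw [← map_commutatorElement, commutatorElement_def]
    exact ⟨k.mem_B.2 (by rw [SP.mul_z, SP.conj_z, SP.inv_z, add_neg_cancel]),
      k.mem_A.2 (by rw [SP.mul_i, SP.conj_i, SP.inv_i, add_neg_cancel])⟩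
  · rintro _ ⟨u, hu : u.z = 0, rfl⟩ _ ⟨v, hv : v.i = 0, rfl⟩ e
    rw [← map_mul, ← map_mul, k.eq_iff, SP.mul_y, SP.mul_y, hu] at e
    rw [k.mem_A, k.mem_B, ← mul_eq_zero]
    linear_combination e.1
  · rw [map_sup_map]
    obtain ⟨u, rfl | rfl⟩ := (h.mem s).1 hs
    exacts [.inl ⟨u, rfl⟩, .inr ⟨u, by rw [mul_assoc, h.tt, mul_one]⟩]
  · rintro _ ⟨u, hu, rfl⟩
    rw [h2 u hu, k.mem_B]
    rfl
  · rintro _ ⟨⟨u, hu : u.z = 0, rfl⟩, hi⟩ e1 e2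
    have hi := k.mem_A.1 hi
    rw [h2 u hu, k.mem_A] at e1
    rw [h.conj', h2 _ ((congrArg σ hi).trans (map_zero _)), k.mem_A] at e2
    refine (k u).2 ⟨by simpa [PU.low, hi] using e1, hu, hi, fun e => ?_⟩
    simpa [PU.low, sw, e, hi, hu] using e2
  · have q2 : 2 ≤ Nat.card K := Finite.one_lt_card
    have := finite_of_le ((map_le_range w (sB K)).trans h.range_le)
    rcases hp.big with e | e
    · have := Nat.card_le_card_of_injective (β := (sB K).map w)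
        (fun p : K × K × K => ⟨w ⟨p.1, p.2.1, 0, p.2.2⟩, k.mem_B.2 rfl⟩) fun p p' e' => by
          obtain ⟨h1, -, h3, h4⟩ := k.eq_iff.1 (congrArg Subtype.val e')
          exact Prod.ext (h4 e) (Prod.ext h1 h3)
      rw [Nat.card_prod, Nat.card_prod] at this
      exact lt_of_lt_of_le (by nlinarith [Nat.mul_le_mul q2 q2]) this
    · have := Nat.card_le_card_of_injective (β := (sB K).map w)
        (fun p : K × K => ⟨w ⟨0, p.1, 0, p.2⟩, k.mem_B.2 rfl⟩) fun p p' e' => by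
          obtain ⟨h1, -, h3, -⟩ := k.eq_iff.1 (congrArg Subtype.val e')
          exact Prod.ext h1 h3
      rw [Nat.card_prod] at this
      exact lt_of_lt_of_le (by nlinarith) this

section
variable {Ω' : Type*} [Group Ω'] {S' : Subgroup Ω'} {E : FusionSystem S'} {w' : U4 K →* Ω'}
  {t' : Ω'}

omit [Fintype K] [CharP K 2] in
theorem Fr.par (h : Fr E sp σ Y w' t') :
    (∀ g, g ∈ S' ↔ ∃ i : U4 K × Bool, g = w' i.1 * if i.2 then t' else 1) ∧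
    (∀ i j : U4 K × Bool, (w' i.1 * if i.2 then t' else 1) = (w' j.1 * if j.2 then t' else 1) ↔
      w' i.1 = w' j.1 ∧ i.2 = j.2) ∧
    ∀ i j : U4 K × Bool, (w' i.1 * if i.2 then t' else 1) * (w' j.1 * if j.2 then t' else 1) =
      w' (i.1 * (if i.2 then sw sp σ j.1 else j.1), xor i.2 j.2).1 *
        if (i.1 * (if i.2 then sw sp σ j.1 else j.1), xor i.2 j.2).2 then t' else 1 := by
  have k : ∀ u v, w' u ≠ w' v * t' := fun u v e => h.nt ⟨v⁻¹ * u, by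
    rw [map_mul, map_inv, e, inv_mul_cancel_left]⟩
  refine ⟨fun g => by simp [h.mem, exists_or], ?_, ?_⟩
  · rintro ⟨u, _ | _⟩ ⟨v, _ | _⟩ <;> simp [k, (k _ _).symm]
  · rintro ⟨u, _ | _⟩ ⟨v, _ | _⟩ <;> simp [← h.conj, mul_assoc, h.tt]

theorem Fr.exists_grpIso (h : Fr F sp σ Y w t) (h' : Fr E sp σ Y w' t') :
    ∃ a b, GrpIso S S' a b ∧ (∀ u, a (w u) = w' u) ∧ a t = t' := by
  obtain ⟨a, b, h1, h2⟩ := H6.exists_grpIso_of_param _ _ _ h.par.1 h'.par.1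
    (fun i j => by rw [h.par.2.1, h'.par.2.1, h.ker.eq_iff, h'.ker.eq_iff]) h.par.2.2 h'.par.2.2
  exact ⟨a, b, h1, fun u => by simpa using h2 (u, false), by simpa using h2 (1, true)⟩

theorem Fr.of_isoVia (h : Fr F sp σ Y w t) {a : Ω → Ω'} {b : Ω' → Ω} (hi : F.IsoVia E a b)
    (h1 : ∀ u, a (w u) = w' u) (h2 : a t = t') : Fr E sp σ Y w' t' := by
  have e : ∀ X : Subgroup (U4 K), img (X.map w) a = X.map w' := fun X => ext fun y => by
    rw [hi.mem_img ((map_le_range _ _).trans h.range_le)]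
    exact ⟨fun ⟨_, ⟨u, hu, e1⟩, e2⟩ => ⟨u, hu, by rw [← e2, ← e1, h1]⟩,
      fun ⟨u, hu, e1⟩ => ⟨_, ⟨u, hu, rfl⟩, (h1 u).trans e1⟩⟩
  have er : img w.range a = w'.range := by rw [w.range_eq_map, e, w'.range_eq_map]
  have b1 : ∀ u, b (w' u) = w u := fun u => by rw [← h1, hi.left _ (h.wS u)]
  have b2 : b t' = t := by rw [← h2, hi.left _ h.tS]
  have m := @IsHomOn.map_mul _ _ _ _ _ _ hi.hom
  refine ⟨fun u => ?_, fun g => ⟨fun hg => ?_, ?_⟩, fun ⟨u, hu⟩ => h.nt ⟨u, by rw [← b1, hu, b2]⟩,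
    by rw [← h2, ← m h.tS h.tS, h.tt, hi.hom.map_one], fun u => ?_, fun f hf => ?_, fun τ hτ => ?_,
    fun τ hτ hs => ?_, fun s => ?_⟩
  · rw [← h.ker]
    exact ⟨fun e => by rw [← b1, e, hi.hom'.map_one], fun e => by rw [← h1, e, hi.hom.map_one]⟩
  · obtain ⟨u, hu⟩ := (h.mem _).1 (hi.mem' g hg)
    refine ⟨u, hu.imp (fun e => ?_) fun e => ?_⟩ <;> rw [← hi.right g hg, e]
    exacts [h1 u, by rw [m (h.wS u) h.tS, h1, h2]]
  · rintro ⟨u, rfl | rfl⟩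
    · exact h1 u ▸ hi.mem _ (h.wS u)
    · exact S'.mul_mem (h1 u ▸ hi.mem _ (h.wS u)) (h2 ▸ hi.mem _ h.tS)
  · rw [← h1, ← h1, ← h2, ← h.conj, m (S.mul_mem h.tS (h.wS u)) h.tS, m h.tS (h.wS u)]
  · obtain ⟨s, hs, τ, hτ, h3⟩ := h.dn _ (hi.isIso_symm h.range_le h.range_le (er ▸ hf))
    refine ⟨a s, hi.mem s hs, τ, hτ, fun u => ?_⟩
    rw [← hi.right _ (hf.mor.mem ⟨u, rfl⟩), ← h1, h3, hi.hom.map_conj hs (h.wS _), h1]
  · obtain ⟨f, h3, h4⟩ := h.up τ hτ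
    exact ⟨_, er ▸ hi.mor _ f h3, fun u => by rw [b1, h4, h1]⟩
  · obtain ⟨f, h3, h4, h5⟩ := h.upS τ hτ hs
    exact ⟨_, hi.img_top ▸ hi.mor _ f h3, fun u => by rw [b1, h4, h1], by rw [b2, h5, h2]⟩
  · obtain ⟨f, h3, h4⟩ := h.low s
    exact ⟨_, e _ ▸ hi.mor _ f h3, fun u hu => by rw [b1, h4 u hu, h1]⟩

end

end Cfsg.Agent.PU
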