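import Cfsg.Agent.Lib.PU.Geo

/-!
Points off a line.
-/

set_option autoImplicit false

namespace Cfsg.Agent.PU

open Cfsg Cfsg.FusionSystem Subgroup Cfsg.Agent.FT
open Cfsg.Agent.H6 (cj RealizedIn SylIn)
open Cfsg.Agent.H9 (U4)
open Cfsg.Agent.SP (sA sB sZ sX)
open scoped commutatorElement

variable {G V : Type*} [Group G] [AddCommGroup V] [DistribMulAction G V] [Finite G] [Finite V]
  {A B K M P W X Y Z : Subgroup G} {a b g x y z : G} {u v w : V}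


variable (V) in
/-- `[V,a]`. -/
def cm (a : G) : AddSubgroup V where
  carrier := {v | ∃ u : V, a • u - u = v}
  zero_mem' := ⟨0, by simp⟩
  add_mem' := by
    rintro _ _ ⟨u, rfl⟩ ⟨v, rfl⟩
    exact ⟨u + v, by rw [smul_add]; abel⟩
  neg_mem' := by
    rintro _ ⟨u, rfl⟩
    exact ⟨-u, by rw [smul_neg]; abel⟩

theorem mem_cm (a : G) (u : V) : a • u - u ∈ cm V a := ⟨u, rfl⟩

theorem cm_one : cm V (1 : G) = ⊥ := eq_bot_iff.2 (by rintro _ ⟨u, rfl⟩; simp)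

theorem smul_mem_cm (g : G) (h : v ∈ cm V a) : g • v ∈ cm V (g * a * g⁻¹) := by
  obtain ⟨u, rfl⟩ := h
  exact ⟨g • u, by simp [mul_smul, smul_sub]⟩

theorem Quad.card_cm (h : Quad V X) (ha : a ∈ X) (h1 : a ≠ 1) : Nat.card (cm V a) = Nat.card X := by
  let f : V →+ V := DistribSMul.toAddMonoidHom V a - AddMonoidHom.id V
  have h2 := AddSubgroup.card_mul_index f.ker
  rw [AddSubgroup.index_ker, show f.range = cm V a from rfl, show f.ker = fx V X from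
    le_antisymm (fun v hv => h.cen a ha h1 v (sub_eq_zero.1 hv)) fun v hv => sub_eq_zero.2 (hv a ha),
    h.card, mul_comm] at h2
  exact Nat.eq_of_mul_eq_mul_right Nat.card_pos h2

theorem Line.cm_l (h : Line V X Y) (ha : a ∈ X) (h1 : v ∈ cm V a) (h2 : v ∈ fx V Y) : v = 0 := by
  obtain ⟨u, rfl⟩ := h1
  exact sub_eq_zero.2 (h.l a ha u h2)

theorem comm_of_fix (m : Mod2 G V) (h1 : ∀ v ∈ cm V a, b • v = v) (h2 : ∀ v ∈ cm V b, a • v = v) :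
    a * b = b * a := by
  refine mul_inv_eq_one.1 (m.faith _ fun v => ?_)
  obtain ⟨v, rfl⟩ : ∃ u, v = (b * a) • u := ⟨_, (smul_inv_smul _ v).symm⟩
  have a1 := h1 _ (mem_cm a v)
  have a2 := h2 _ (mem_cm b v)
  rw [smul_sub, sub_eq_iff_eq_add] at a1 a2
  rw [mul_smul, inv_smul_smul, mul_smul, mul_smul, a1, a2]
  abel

theorem mem_cm_mul {R : AddSubgroup V} (ha : cm V a ≤ R) (hb : cm V b ≤ R) : cm V (a * b) ≤ R := by
  rintro _ ⟨u, rfl⟩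
  simpa [mul_smul] using R.add_mem (ha (mem_cm a (b • u))) (hb (mem_cm b u))

theorem Mod2.neg (m : Mod2 G V) (v : V) : -v = v := neg_eq_of_add_eq_zero_left (m.two v)

/-- All elements of a point have the same centre. -/
def Sing (V : Type*) [AddCommGroup V] [DistribMulAction G V] (X : Subgroup G) : Prop :=
  ∀ a ∈ X, a ≠ 1 → ∀ b ∈ X, cm V b ≤ cm V a

theorem Sing.cj (h : Sing V X) (g : G) : Sing V (cj g X) := by
  rintro _ ⟨a, ha, rfl⟩ h1 _ ⟨b, hb, rfl⟩ v hv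
  have := smul_mem_cm g⁻¹ hv
  simp only [MulEquiv.coe_toMonoidHom, MulAut.conj_apply, mul_assoc, inv_mul_cancel_left, inv_inv,
    inv_mul_cancel, mul_one] at this
  simpa using smul_mem_cm g (h a ha (fun e => h1 (by simp [e])) b hb this)

theorem Sing.pt (h : Sing V X) (hX : Pt A X) (hY : Pt A Y) : Sing V Y := by
  obtain ⟨k, rfl⟩ := hX
  obtain ⟨l, rfl⟩ := hY
  have := h.cj (l * k⁻¹)
  rwa [H6.cj_cj, inv_mul_cancel_right] at this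

namespace Geo
variable (h : Geo V A) (hW : Pt A W) (hY : Pt A Y) (hZ : Pt A Z) (l1 : Line V W Y) (l2 : Line V Z Y)
  (hne : W ≠ Z) (hc : Z ≤ 𝒞(W))
include h hW hY hZ l1 hne hc

theorem dz (v : V) : ∃ c ∈ fx V W ⊓ fx V Y, v - c ∈ fx V Z := by
  obtain ⟨d, hd, e, he, rfl⟩ := exists_add_of_sup (h.comm_sup hW hZ hne hc) v
  obtain ⟨w, hw, hw1⟩ := h.pt_ex hW
  obtain ⟨v, -, h1⟩ := l1.onto' h.toMod2 (h.pt_quad hW) (h.pt_quad hY) (h.pt_cc hW hY) hw hw1 hd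
  refine ⟨_, neg_mem ⟨(fx V W).sub_mem ((h.pt_quad hW).quad w hw v) hd, h1⟩, ?_⟩
  convert add_mem he (h.comm_mem hW hZ hc hw v) using 1
  abel

theorem cj_le (hg : g ∈ W ⊔ Y) (hn : g ∈ 𝒩(W)) : H6.cj g Z ≤ W ⊔ Z := by
  have hU : fx V W ⊓ fx V Z ≤ fx V (H6.cj g Z) := fun u hu => by
    obtain ⟨w, hw, hw1⟩ := h.pt_ex hW
    obtain ⟨v, -, h1⟩ := l1.onto' h.toMod2 (h.pt_quad hW) (h.pt_quad hY) (h.pt_cc hW hY) hw hw1 hu.1
    have h2 := fx_sup.ge ⟨(fx V W).sub_mem ((h.pt_quad hW).quad w hw v) hu.1, h1⟩ _ (inv_mem hg)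
    have h3 := sub_mem (h.comm_mem hW hZ hc (H6.conj_mem_of_mem_normalizer' hn hw) (g⁻¹ • v))
      (sub_mem (h.comm_mem hW hZ hc hw v) hu.2)
    rw [← h2] at h3
    exact mem_fx_cj.2 (by simpa [smul_sub, mul_smul] using h3)
  obtain ⟨z, hz, hz1⟩ := h.pt_ex hZ
  have c1 := (h.tri hZ (hZ.cj g)).resolve_right fun l => hz1 (h.faith z fun v =>
    l.l z hz v (hU ⟨h.comm_mem hZ hW (cent_comm.1 hc) hz v, (h.pt_quad hZ).quad z hz v⟩))
  have c2 : H6.cj g Z ≤ 𝒞(W) := by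
    rw [← H6.cj_eq_self_iff.2 hn, ← H6.cj_centralizer]; exact H6.cj_mono g hc
  have h1 := h.nov _ (((h.pt_el hW).sup (h.pt_el hZ) hc).sup (h.pt_el (hZ.cj g))
    (cent_sup.ge.trans' (le_inf c2 c1)))
  rw [fx_sup, fx_sup, inf_eq_left.2 hU, (h.pt_quad hW).card, h.comm_card hW hZ hne hc, ← mul_assoc,
    ← h.pt_card hW, ← h.card_sup hW hZ hne hc] at h1
  exact le_sup_right.trans (eq_of_le_of_card_ge le_sup_left
    (Nat.le_of_mul_le_mul_right h1 Nat.card_pos)).ge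

include l2 in
theorem core (hs : Sing V A) (ha : a ∈ W) (ha1 : a ≠ 1) (same : ∀ z ∈ Z, cm V z ≤ cm V a) :
    False := by
  have m := h.toMod2
  have qW := h.pt_quad hW
  have qY := h.pt_quad hY
  have qZ := h.pt_quad hZ
  have s : ∀ {X}, Pt A X → Sing V X := fun hX => hs.pt ⟨1, (H6.cj_one _).symm⟩ hX
  obtain ⟨b, hb, hb1⟩ := h.pt_ex hY
  have hR : ∀ n ∈ W ⊔ Z, cm V n ≤ cm V a := fun n hn => by
    obtain ⟨w, hw, z, hz, rfl⟩ := (H1.mem_sup_of_le_normalizer (hc.trans cent_le_norm)).1 hn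
    exact mem_cm_mul (s hW a ha ha1 w hw) (same z hz)
  have hRU : cm V a ≤ fx V W ⊓ fx V Z := by
    rintro _ ⟨u, rfl⟩; exact ⟨qW.quad a ha u, h.comm_mem hW hZ hc ha u⟩
  have hbY : cm V b ≤ fx V Y := by rintro _ ⟨u, rfl⟩; exact qY.quad b hb u
  have hk : ∀ k ∈ 𝒩(Y), ∀ y ∈ cm V b, k • y ∈ cm V b := fun k hk y hy =>
    s hY b hb hb1 _ (H6.conj_mem_of_mem_normalizer hk hb) (smul_mem_cm k hy)
  have sup : cm V b ⊔ fx V Z = ⊤ := by
    have := card_sup_mul_inf (cm V b) (fx V Z)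
    rw [(AddSubgroup.eq_bot_iff_forall _).2 fun v (hv : v ∈ cm V b ⊓ fx V Z) =>
      l2.symm.cm_l hb hv.1 hv.2, AddSubgroup.card_bot, mul_one, qY.card_cm hb hb1,
      h.pt_cc hY hZ, ← qZ.card] at this
    exact add_eq_top_of_card this.ge
  obtain ⟨y0, hy0, hy0'⟩ : ∃ y0 ∈ cm V b, y0 ≠ 0 := by
    by_contra! hn; exact hb1 (m.faith b fun v => sub_eq_zero.1 (hn _ (mem_cm b v)))
  have s5 : ∀ w ∈ W, ∀ z ∈ Z, z ≠ 1 → (w * z) • y0 = y0 → ∀ y ∈ cm V b, (w * z) • y = y :=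
      fun w hw z hz hz1 h0 y hy => by
    have hn := mul_mem_sup hw hz
    obtain ⟨v, hv⟩ := (add_eq_of_le_of_card (same z hz) (by
      rw [qW.card_cm ha ha1, qZ.card_cm hz hz1, h.pt_cc hW hZ])).ge (hR _ hn (mem_cm _ y))
    obtain ⟨c, hc1, hc2⟩ := h.dz hW hY hZ l1 hne hc v
    have h1 : z • c - c = (w * z) • y - y := by
      rw [← hv, sub_eq_sub_iff_sub_eq_sub, ← smul_sub, ← neg_sub v, smul_neg, hc2 z hz]
    have h2 : (w * z) • (y + c) = y + c := by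
      have := hRU (same z hz (mem_cm z c)) |>.1 w hw
      rw [smul_sub, hc1.1 w hw, sub_left_inj] at this
      rw [smul_add, mul_smul w z c, this, eq_add_of_sub_eq h1.symm, eq_add_of_sub_eq
        (rfl : z • c - c = _), add_sub_cancel_right, add_add_add_comm, m.two, zero_add]
    by_contra hy1
    have hy2 : y ≠ 0 := by rintro rfl; simp at hy1
    obtain ⟨y1, hy3, d, hd, rfl⟩ := exists_add_of_sup sup c
    have hy4 : y1 ≠ 0 := by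
      rintro rfl
      rw [zero_add, hd z hz, sub_self, eq_comm, sub_eq_zero] at h1
      exact hy1 h1
    obtain ⟨k, k1, k2, k3, k4⟩ := h.trans hW hY l1 (hbY hy3) (fun e => hy4 (l1.symm.cm_l hb hy3 e))
      (hbY hy) fun e => hy2 (l1.symm.cm_l hb hy e)
    have h3 := sub_eq_zero.1 (l1.symm.cm_l hb (sub_mem (hk k k3 _ hy3) hy) k4)
    have h4 : y + (y1 + d) ∈ fx V (H6.cj k Z) := by
      rw [← h3, ← fx_sup.ge hc1 k k1, ← smul_add, ← add_assoc, m.two, zero_add]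
      exact smul_mem_fx_cj.2 hd
    have h5 := H6.cj_mono k (h.cj_le hW hY hZ l1 hne hc (inv_mem k1) (inv_mem k2))
    rw [H6.cj_cj_inv, H6.cj_sup, H6.cj_eq_self_iff.2 k2] at h5
    obtain ⟨w', hw', z', hz', e⟩ := (H1.mem_sup_of_le_normalizer (H6.cj_le_of_mem k2
      (hc.trans cent_le_norm))).1 (mul_mem (mem_sup_left hw) (h5 hz))
    rw [← e] at h0 h2 hy1
    rw [mul_smul, h4 z' hz'] at h2
    obtain rfl : w' = 1 := by_contra fun hn => hy2 (l1.symm.cm_l hb hy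
      (((fx V W).add_mem_cancel_right hc1.1).1 (qW.cen w' hw' hn _ h2)))
    rw [one_mul] at h0 hy1
    have := l2.symm.cm_l hb (hk _ (inv_mem k3) _ hy0) (mem_fx_cj.1 ((qZ.cj k).cen z' hz'
      (by rintro rfl; simp at hy1) _ h0))
    exact hy0' ((smul_eq_zero_iff_eq _).1 this)
  let O := (W ⊔ Z) ⊓ fixingSubgroup G (cm V b : Set V)
  have hO : ∀ z : Z, ∃ w ∈ W, w * z ∈ O := fun z => by
    by_cases hz1 : (z : G) = 1
    · exact ⟨1, one_mem _, by rw [hz1, one_mul]; exact one_mem _⟩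
    obtain ⟨w, hw⟩ := onto_of_inj (C := ⊥) (fun w : W => s hW a ha ha1 w w.2 (mem_cm _ y0))
      (fun x x' e => l1.inj qW (fun e => hy0' (l1.symm.cm_l hb hy0 e)) x x' (bot_le (a := fx V Y) e))
      (by rw [qW.card_cm ha ha1]; simp) (same z z.2 (mem_cm _ y0))
    refine ⟨w, w.2, mul_mem_sup w.2 z.2, (mem_fixingSubgroup_iff _).2 (s5 w w.2 z z.2 hz1 ?_)⟩
    have := (hRU (same z z.2 (mem_cm _ y0))).1 w w.2
    rw [smul_sub, sub_eq_iff_eq_add] at this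
    rw [mul_smul, this, ← sub_eq_zero.1 (AddSubgroup.mem_bot.1 hw), ← sub_eq_zero, add_sub_assoc,
      m.two]
  choose f f1 f2 using hO
  have c1 : Nat.card Z ≤ Nat.card O := Nat.card_le_card_of_injective (fun z => ⟨_, f2 z⟩)
    fun z z' e => by
      have e : f z * z = f z' * z' := congrArg Subtype.val e
      have : (f z')⁻¹ * f z = z' * (z : G)⁻¹ := by rw [eq_mul_inv_iff_mul_eq, mul_assoc, e]; simp
      exact (Subtype.ext (mul_inv_eq_one.1 (mem_bot.1 ((h.inf_eq hW hZ hne).le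
        ⟨this ▸ W.mul_mem (W.inv_mem (f1 z')) (f1 z), (z' * z⁻¹).2⟩)))).symm
  have eO : El O := ((h.pt_el hW).sup (h.pt_el hZ) hc).mono inf_le_left
  have u1 : (fx V W ⊓ fx V Z) ⊔ cm V b ≤ fx V O := sup_le (fx_sup.ge.trans (fx_anti inf_le_left))
    fun v hv n hn => (mem_fixingSubgroup_iff _).1 hn.2 v hv
  have hbU : ∀ v ∈ (fx V W ⊓ fx V Z) ⊔ cm V b, b • v ∈ (fx V W ⊓ fx V Z) ⊔ cm V b := fun v hv => by
    simpa using add_mem (AddSubgroup.mem_sup_right (mem_cm b v)) hv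
  have u2 : (fx V W ⊓ fx V Z) ⊔ cm V b ≤ fx V (H6.cj b O) := fun v hv => mem_fx_cj.2 (u1 (by
    rw [(h.pt_el hY).inv hb]; exact hbU v hv))
  have hcb : ∀ n ∈ O, ∀ v ∈ cm V (b * n * b⁻¹), ∃ r ∈ cm V a, v = b • r := fun n hn v hv =>
    ⟨b⁻¹ • v, hR n hn.1 (by simpa [mul_assoc] using smul_mem_cm b⁻¹ hv), by simp⟩
  have h1 := h.nov _ (eO.sup (Y := H6.cj b O) (by
    rintro _ ⟨n, hn, rfl⟩; exact H6.conj_mul_self (eO n hn) b) (by
    rintro _ ⟨n, hn, rfl⟩ n' hn'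
    refine comm_of_fix m (fun v hv => u2 (AddSubgroup.mem_sup_left (hRU (hR n' hn'.1 hv))) _
      (H6.conj_mem_cj hn)) fun v hv => ?_
    obtain ⟨r, hr, rfl⟩ := hcb n hn v hv
    exact u1 (hbU _ (AddSubgroup.mem_sup_left (hRU hr))) n' hn'))
  have c2 : Nat.card O < Nat.card (O ⊔ H6.cj b O : Subgroup G) := by
    refine lt_of_not_ge fun e => ?_
    obtain ⟨n, hn, hn1⟩ := (ne_bot_iff_exists_ne_one' _).1 (O.one_lt_card_iff_ne_bot.1
      ((Z.one_lt_card_iff_ne_bot.2 qZ.ne).trans_le c1))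
    refine hn1 (conj_eq_one_iff.1 (m.faith (b * n * b⁻¹) fun v => sub_eq_zero.1 ?_))
    obtain ⟨r, hr, e'⟩ := hcb n hn _ (mem_cm _ v)
    have := (hRU (hR _ ((eq_of_le_of_card_ge le_sup_left e).ge
      (mem_sup_right (H6.conj_mem_cj hn))).1 (mem_cm _ v))).1
    rw [e'] at this ⊢
    rw [l1.cm_l ha hr (qY.cen b hb hb1 r (l1.r b hb r (sub_mem this (hRU hr).1))), smul_zero]
  have c3 := card_sup_mul_inf (fx V W ⊓ fx V Z) (cm V b)
  rw [(AddSubgroup.eq_bot_iff_forall _).2 fun v (hv : v ∈ fx V W ⊓ fx V Z ⊓ cm V b) =>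
    l1.symm.cm_l hb hv.2 hv.1.1, AddSubgroup.card_bot, mul_one, qY.card_cm hb hb1] at c3
  have c4 := AddSubgroup.card_le_of_le (fx_sup.ge.trans' (le_inf u1 u2))
  rw [qW.card, h.comm_card hW hZ hne hc, h.pt_card hW] at h1
  rw [c3, h.pt_card hY, mul_comm] at c4
  rw [h.pt_card hZ] at c1
  exact absurd (Nat.le_of_mul_le_mul_right ((Nat.mul_le_mul_left _ c4).trans h1)
    (Nat.mul_pos Nat.card_pos Nat.card_pos)) (by omega)

omit hZ hne hc in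
theorem compl_le {Γ Γ' : AddSubgroup V} (h1 : Γ ≤ fx V W) (h2 : ∀ v ∈ Γ, v ∈ fx V Y → v = 0)
    (h1' : Γ' ≤ fx V W)
    (h3 : ∀ k ∈ Y ⊔ W, k ∈ 𝒩(W) → ∀ v ∈ Γ, k • v ∈ Γ)
    (h3' : ∀ k ∈ Y ⊔ W, k ∈ 𝒩(W) → ∀ v ∈ Γ', k • v ∈ Γ') (h4 : 2 < Nat.card Γ)
    (h5 : ∀ v ∈ fx V W, ∃ u ∈ Γ', u - v ∈ fx V Y) : Γ ≤ Γ' := fun γ hγ => by
  by_cases h0 : γ = 0
  · rw [h0]; exact zero_mem _
  obtain ⟨γ', a1, a2⟩ := h5 γ (h1 hγ)
  have k : ∀ u ∈ Γ, u ≠ 0 → u + (γ' - γ) ∈ Γ' := fun u hu hu0 => by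
    obtain ⟨k, k1, -, k3, k4⟩ := h.trans hY hW l1.symm (h1 hγ) (fun e => h0 (h2 _ hγ e)) (h1 hu)
      fun e => hu0 (h2 _ hu e)
    rw [← sub_eq_zero.1 (h2 _ (sub_mem (h3 k k1 k3 γ hγ) hu) k4),
      ← fx_sup.ge ⟨a2, (fx V W).sub_mem (h1' a1) (h1 hγ)⟩ k k1, ← smul_add, add_sub_cancel]
    exact h3' k k1 k3 _ a1
  obtain ⟨u, hu, u0, u1⟩ : ∃ u ∈ Γ, u ≠ 0 ∧ γ - u ≠ 0 := by
    by_contra! hn
    refine absurd (Set.ncard_le_ncard (show (Γ : Set V) ⊆ {0, γ} from fun u hu =>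
      or_iff_not_imp_left.2 fun e => (sub_eq_zero.1 (hn u hu e)).symm)) ?_
    rw [Set.ncard_pair (Ne.symm h0)]
    exact not_le.2 h4
  have := add_mem (k u hu u0) (k _ (sub_mem hγ hu) u1)
  rwa [add_add_add_comm, h.two, add_zero, add_sub_cancel] at this

include l2 in
theorem core' (hq : 2 < Nat.card A) : False := by
  have m := h.toMod2
  have qW := h.pt_quad hW
  have qZ := h.pt_quad hZ
  let Γ : V → AddSubgroup V := fun c =>
    { carrier := {u | ∃ z ∈ Z, z • c - c = u}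
      zero_mem' := ⟨1, Z.one_mem, by simp⟩
      add_mem' := by
        rintro _ _ ⟨a, ha, rfl⟩ ⟨b, hb, rfl⟩
        exact ⟨a * b, Z.mul_mem ha hb, by rw [← qZ.quad b hb c a ha, smul_sub, mul_smul]; abel⟩
      neg_mem' := fun {a} ha => by rwa [m.neg] }
  have a1 : ∀ c, Γ c ≤ fx V W := by
    rintro c _ ⟨z, hz, rfl⟩; exact h.comm_mem hZ hW (cent_comm.1 hc) hz c
  have a2 : ∀ c, ∀ v ∈ Γ c, v ∈ fx V Y → v = 0 := by
    rintro c _ ⟨z, hz, rfl⟩; exact l2.cm_l hz (mem_cm z c)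
  have a3 : ∀ c ∈ fx V W ⊓ fx V Y, ∀ k ∈ Y ⊔ W, k ∈ 𝒩(W) → ∀ v ∈ Γ c, k • v ∈ Γ c := by
    rintro c hc' k hk hn _ ⟨z, hz, rfl⟩
    rw [sup_comm] at hk
    obtain ⟨z', hz', w, hw, e⟩ := (H1.mem_sup_of_le_normalizer' (hc.trans cent_le_norm)).1
      (sup_comm W Z ▸ h.cj_le hW hY hZ l1 hne hc hk hn (H6.conj_mem_cj hz))
    refine ⟨z', hz', ?_⟩
    rw [← hc'.1 w hw, ← mul_smul, e, hc'.1 w hw, mul_smul, mul_smul, fx_sup.ge hc' _ (inv_mem hk),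
      smul_sub, fx_sup.ge hc' _ hk]
  have a4 : ∀ c ∉ fx V Z, Nat.card (Γ c) = Nat.card Z := fun c hc => (Nat.card_eq_of_bijective
    (fun z : Z => (⟨_, z, z.2, rfl⟩ : Γ c)) ⟨fun x x' e => l2.inj qZ hc x x' (by
      rw [sub_eq_zero.2 (congrArg Subtype.val e :)]; exact zero_mem _), by
      rintro ⟨_, z, hz, rfl⟩; exact ⟨⟨z, hz⟩, rfl⟩⟩).symm
  have a5 : ∀ c ∉ fx V Z, ∀ v ∈ fx V W, ∃ u ∈ Γ c, u - v ∈ fx V Y := fun c hc v hv => by
    obtain ⟨z, hz⟩ := onto_of_inj (fun z : Z => a1 c ⟨z, z.2, rfl⟩) (l2.inj qZ hc) (by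
      rw [l1.card_inf m qW (h.pt_quad hY) (h.pt_cc hW hY), h.pt_cc hW hZ]) hv
    exact ⟨_, ⟨z, z.2, rfl⟩, hz⟩
  obtain ⟨v0, hv0⟩ := qZ.fx_ne m
  obtain ⟨c0, b1, b2⟩ := h.dz hW hY hZ l1 hne hc v0
  have b3 : c0 ∉ fx V Z := fun e => hv0 (by simpa using add_mem b2 e)
  rw [← h.pt_card hZ] at hq
  have b4 : ∀ z ∈ Z, cm V z ≤ Γ c0 := by
    rintro z hz _ ⟨v, rfl⟩
    obtain ⟨c, c1, c2⟩ := h.dz hW hY hZ l1 hne hc v
    rw [show z • v - v = z • c - c by rw [sub_eq_sub_iff_sub_eq_sub, ← smul_sub, c2 z hz]]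
    by_cases c3 : c ∈ fx V Z
    · rw [c3 z hz, sub_self]; exact zero_mem _
    exact h.compl_le hW hY l1 (a1 c) (a2 c) (a1 c0) (a3 c c1) (a3 c0 b1) (a4 c c3 ▸ hq)
      (a5 c0 b3) ⟨z, hz, rfl⟩
  have s : Sing V Z := fun z hz hz1 z' hz' => (b4 z' hz').trans (add_eq_of_le_of_card (b4 z hz)
    (by rw [a4 c0 b3, qZ.card_cm hz hz1])).ge
  obtain ⟨a, ha, ha1⟩ := h.pt_ex hW
  refine h.core hW hY hZ l1 l2 hne hc (s.pt hZ ⟨1, (H6.cj_one _).symm⟩) ha ha1 fun z hz =>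
    (b4 z hz).trans (h.compl_le hW hY l1 (a1 c0) (a2 c0) (by
      rintro _ ⟨u, rfl⟩; exact qW.quad a ha u) (a3 c0 b1) (fun k _ hk v hv => s.pt hZ hW a ha ha1 _
      (H6.conj_mem_of_mem_normalizer hk ha) (smul_mem_cm k hv)) (a4 c0 b3 ▸ hq) fun v hv => ?_)
  obtain ⟨u, -, hu⟩ := l1.onto' m qW (h.pt_quad hY) (h.pt_cc hW hY) ha ha1 hv
  exact ⟨_, mem_cm a u, hu⟩

end Geo

theorem eq_of_card_two (hq : Nat.card X = 2) (ha : a ∈ X) (ha1 : a ≠ 1) (hb : b ∈ X) :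
    b = 1 ∨ b = a := by
  obtain ⟨y, -, hy⟩ := (Nat.card_eq_two_iff' (1 : X)).1 hq
  exact or_iff_not_imp_left.2 fun hb1 => congrArg Subtype.val
    ((hy ⟨b, hb⟩ fun e => hb1 (congrArg Subtype.val e)).trans
      (hy ⟨a, ha⟩ fun e => ha1 (congrArg Subtype.val e)).symm)

theorem Geo.g2 (h : Geo V A) (hq : 2 < Nat.card A) (hX : Pt A X) (hY : Pt A Y)
    (hl : Line V X Y) (hZ : Pt A Z) : On X Y Z ∨ X ⊔ Y ≤ 𝒞(Z) := by
  obtain ⟨W, hW, hc⟩ := h.g1 hX hY hl hZ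
  by_cases hne : W = Z
  · exact Or.inl (hne ▸ hW)
  obtain ⟨Y', hY', hn⟩ : ∃ Y', On X Y Y' ∧ W ≠ Y' := by
    by_cases e : W = X
    · exact ⟨Y, on_right, fun e' => hl.not_le h.toMod2 (h.pt_quad hX) (by rw [← e, e'])⟩
    · exact ⟨X, on_left, e⟩
  refine Or.inr (h.both hX hY hl hZ hW hY' hn hc ((h.tri hZ (hX.on hY hY')).resolve_right fun l =>
    h.core' (hX.on hY hW) (hX.on hY hY') hZ (hl.on_line h.toMod2 (h.pt_quad hX) (h.pt_quad hY)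
      (h.pt_cc hX hY) hW hY' hn) l hne (cent_comm.1 hc) hq))

theorem Geo.centre (h : Geo V A) (hq : Nat.card A = 2) (hX : Pt A X) (hZ : Pt A Z) (hne : X ≠ Z)
    (hc : Z ≤ 𝒞(X)) (ha : a ∈ X) (ha1 : a ≠ 1) (hz : z ∈ Z) : ¬ cm V a ≤ cm V z := by
  intro e
  obtain ⟨Y, hY, hl⟩ := h.exists_line hX
  have n : ¬ cm V a ≤ fx V Y := fun e => ha1 (h.faith a fun v => hl.l a ha v (e (mem_cm a v)))
  have hz1 : z ≠ 1 := fun e' => n (e.trans (by rw [e', cm_one]; exact bot_le))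
  refine h.core hX hY hZ hl ((h.tri hZ hY).resolve_left fun c => n (e.trans ?_)) hne hc
    (fun a ha ha1 b hb => ?_) ha ha1 fun b hb => ?_
  · rintro _ ⟨u, rfl⟩; exact h.comm_mem hZ hY c hz u
  · rcases eq_of_card_two hq ha ha1 hb with rfl | rfl
    exacts [cm_one.le.trans bot_le, le_rfl]
  · rcases eq_of_card_two ((h.pt_card hZ).trans hq) hz hz1 hb with rfl | rfl
    · exact cm_one.le.trans bot_le
    · exact (add_eq_of_le_of_card e (by rw [(h.pt_quad hZ).card_cm hz hz1,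
        (h.pt_quad hX).card_cm ha ha1, h.pt_cc hX hZ])).ge

end Cfsg.Agent.PU
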