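import Cfsg.Agent.Lib.PU.Defs

/-!
Consequences of solvability.
-/

set_option autoImplicit false

namespace Cfsg.Agent.PU

open Cfsg Cfsg.FusionSystem Subgroup Cfsg.Agent.FT
open Cfsg.Agent.H6 (cj RealizedIn SylIn)
open Cfsg.Agent.H9 (U4)
open Cfsg.Agent.SP (sA sB sZ sX)
open scoped commutatorElement

section
variable {G G' : Type*} [Group G] [Group G'] {P P' K K' : Subgroup G}

theorem SolCh.mono (h : SolCh P K) (hP : P' ≤ P) (hK : K' ≤ K) : SolCh P' K' := by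
  obtain ⟨n, c, h0, h1, h2, h3, h4⟩ := h
  exact ⟨n, fun i => c i ⊓ P', by simp [h0], le_inf (hP.trans h1) le_rfl, fun _ => inf_le_right,
    fun i => le_inf ((commutator_mono inf_le_left inf_le_left).trans (h3 i))
      ((der_le _).trans inf_le_right), fun i x hx g hg e => ⟨h4 i x hx.1 g (hK hg) (hP e), e⟩⟩

theorem SolCh.subgroupOf (h : SolCh P K) (_hP : P ≤ K) : SolCh (P.subgroupOf K) ⊤ := by
  obtain ⟨n, c, h0, h1, h2, h3, h4⟩ := h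
  exact ⟨n, fun i => (c i).subgroupOf K, by simp [h0], comap_mono h1, fun i => comap_mono (h2 i),
    fun i => commutator_le.2 fun a ha b hb => h3 i (commutator_mem_commutator ha hb),
    fun i x hx g _ e => h4 i x hx g g.2 e⟩

theorem SolCh.map [Finite G] (h : SolCh P K) (hP : SylIn 2 P K) (f : G →* G') :
    SolCh (P.map f) (K.map f) := by
  obtain ⟨n, c, h0, h1, h2, h3, h4⟩ := h
  refine ⟨n, fun i => (c i).map f, by simp [h0], map_mono h1, fun i => map_mono (h2 i),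
    fun i => (map_commutator _ _ _).ge.trans (map_mono (h3 i)), ?_⟩
  rintro i _ ⟨x, hx, rfl⟩ _ ⟨g, hg, rfl⟩ ⟨y, hy, e⟩
  have hn : P ≤ 𝒩(f.ker ⊓ K) := fun p hp => H6.cj_eq_self_iff.1 (by
    rw [H6.cj_inf, H6.cj_eq_self_of_normal, H6.cj_eq_self_of_mem (hP.le hp)])
  have hu : g * x * g⁻¹ ∈ K := K.mul_mem (K.mul_mem hg (hP.le (h2 i hx))) (K.inv_mem hg)
  obtain ⟨k, hk⟩ := H6.isPGroup_subgroup_iff.1 hP.isPGroup x (h2 i hx)
  obtain ⟨l, hl, h5⟩ := (hP.mono le_sup_left (sup_le hP.le (inf_le_right : f.ker ⊓ K ≤ K))).exists_conj_mem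
    (x := g * x * g⁻¹) ((H1.mem_sup_of_le_normalizer' hn).2 ⟨y, hy, y⁻¹ * (g * x * g⁻¹), ⟨by
      simp [e, mul_assoc], K.mul_mem (K.inv_mem (hP.le hy)) hu⟩, by simp⟩) (k := k) (by rw [conj_pow, hk]; simp)
  obtain ⟨p, hp, m, hm, rfl⟩ := (H1.mem_sup_of_le_normalizer' hn).1 hl
  refine ⟨_, h4 i x hx (m * g) (K.mul_mem hm.2 hg) (by
    simpa [mul_assoc] using P.mul_mem (P.mul_mem (P.inv_mem hp) h5) hp), ?_⟩
  simp [show f m = 1 from hm.1]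

theorem SolCh.sol [Finite G] (h : SolCh P K) (hP : SylIn 2 P K) : Sol K := by
  obtain ⟨n, c, h0, h1, h2, h3, h4⟩ := h
  rintro x hx y hy hp ⟨g, hg, e1⟩ ⟨g', hg', e2⟩
  obtain ⟨k, hk, h5⟩ := hP.exists_cj_le hp ((closure_le _).2 (by simp [Set.insert_subset_iff, *]))
  have a1 := h5 (H6.conj_mem_cj (subset_closure (Or.inl rfl)))
  have a2 := h5 (H6.conj_mem_cj (subset_closure (Or.inr rfl)))
  have : ∀ i, k * x * k⁻¹ ∈ c i → x = 1 := fun i => by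
    induction i with
    | zero => simp [h0]
    | succ i ih =>
      intro h
      have e3 : k * g * k⁻¹ * (k * x * k⁻¹) * (k * g * k⁻¹)⁻¹ = k * y * k⁻¹ := by rw [← e1]; group
      have a3 := h4 _ _ h _ (K.mul_mem (K.mul_mem hk hg) (K.inv_mem hk)) (e3 ▸ a2)
      have e4 : (k * g' * k⁻¹)⁻¹ * ⁅k * x * k⁻¹, k * y * k⁻¹⁆ * (k * g' * k⁻¹)⁻¹⁻¹ = k * x * k⁻¹ := by
        rw [← conjugate_commutatorElement, ← e2]; group
      exact ih (e4 ▸ h4 _ _ (h3 i (commutator_mem_commutator h (e3 ▸ a3))) _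
        (K.inv_mem (K.mul_mem (K.mul_mem hk hg') (K.inv_mem hk))) (e4.symm ▸ a1))
  exact this n (h1 a1)

end

variable {Ω : Type*} [Group Ω] {S : Subgroup Ω} [Finite S] {F F' : FusionSystem S}
  {A1 A2 : Subgroup Ω} {t : Ω} {φ : Ω → Ω}


omit [Finite S] in
theorem exists_chain {R : Subgroup Ω} (h : H8.AbSeries F ⊥ R) : ∃ (n : ℕ) (c : ℕ → Subgroup Ω),
    c 0 = ⊥ ∧ c n = R ∧ (∀ i, F.StronglyClosed (c i)) ∧ ∀ i, ⁅c (i + 1), c (i + 1)⁆ ≤ c i := by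
  induction h with
  | base h => exact ⟨0, fun _ => ⊥, rfl, rfl, fun _ => h, fun _ => der_le _⟩
  | @step R R' _ h1 _ h2 ih =>
    obtain ⟨n, c, a0, a1, a2, a3⟩ := ih
    refine ⟨n + 1, fun i => if i ≤ n then c i else R', by simp [a0], by simp, fun i => ?_,
      fun i => ?_⟩
    · dsimp only; split_ifs; exacts [a2 i, h1]
    · dsimp only
      split_ifs with h3 h4 h4
      exacts [a3 i, by omega, by rwa [show i = n by omega, a1], der_le _]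

theorem Min.chain (hm : Min F) (hS : IsPGroup 2 S) (hF : F.IsSaturated 2) {U : Subgroup Ω}
    (hU : U ≠ ⊥) (hn : F.IsFullyNormalized U) : ∃ (n : ℕ) (c : ℕ → Subgroup Ω),
    c 0 = ⊥ ∧ c n = normalizerIn S U ∧ (∀ i, c i ≤ normalizerIn S U) ∧
    (∀ i, ⁅c (i + 1), c (i + 1)⁆ ≤ c i) ∧ ∀ i P f, F.IsMor P f → U ≤ P → F.IsIso U U f →
      ∀ x ∈ P, x ∈ c i → f x ∈ c i := by
  obtain ⟨E, hE⟩ := F.exists_normalizerSystem hn.le
  obtain ⟨n, c, h0, h1, h2, h3⟩ := exists_chain ((H8.isSolvableSystem_iff (hE.isSaturated hF hS hn)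
    (hS.to_le normalizerIn_le)).1 (hm U hU hn E hE))
  exact ⟨n, c, h0, h1, fun i => (h2 i).le, h3, fun i P f hf hP hi x hx hc => (h2 i).map_mem
    (hE.isKNormSys.top_isMor_of_isIso hf hP (zpowers_le.2 hx) (zpowers_le.2 ((h2 i).le hc)) hi)
    (mem_zpowers x) hc⟩

theorem solCh_of_realized (hS : IsPGroup 2 S) (hF : F.IsSaturated 2) (h : F.IsSolvableSystem)
    {H : Type*} [Group H] {ι : S →* H} (hι : F.IsRealizedBy ι) : SolCh ι.range ⊤ := by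
  obtain ⟨n, c, h0, h1, h2, h3⟩ := exists_chain ((H8.isSolvableSystem_iff hF hS).1 h)
  obtain ⟨s, hs⟩ := hι.exists_isoVia
  refine ⟨n, fun i => img (c i) (homFun ι), by simp only [h0, hs.img_bot], by simp only [h1, hs.img_top, le_refl],
    fun i => hs.img_le (h2 i).le, fun i => ?_, fun i x hx g _ e => ?_⟩
  · rw [← hs.img_commutator (h2 _).le (h2 _).le]; exact img_mono _ (h3 i)
  · exact (stronglyClosed_iff_isConjElt.1 (hs.stronglyClosed (h2 i))).2 x hx _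
      (groupFusionSystem_isConjElt_iff.2 ⟨hs.img_le (h2 i).le hx, e, g, rfl⟩)

theorem Min.sol_aut (hm : Min F) (hS : IsPGroup 2 S) (hF : F.IsSaturated 2) {A : Subgroup Ω}
    (hA : A ≠ ⊥) (hn : F.IsFullyNormalized A) : Sol (F.autGroup A) := by
  obtain ⟨n, c, h0, h1, h2, h3, h4⟩ := hm.chain hS hF hA hn
  have := finite_of_le hn.le
  have hs := hF.sylowIn hS hn
  refine SolCh.sol ⟨n, fun i => autInducedBy (c i) A, ?_, ?_, fun i => autInducedBy_mono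
    ((h2 i).trans normalizerIn_le) A, fun i => commutator_le.2 ?_, fun i α hα g hg e => ?_⟩
    ⟨hs.le, hs.isPGroup, fun Q a b c => hs.eq_of_le a b c⟩
  · simp [h0, autInducedBy_eq_map]
  · simp only [h1, autInducedBy_normalizerIn, le_refl]
  · simp only [autInducedBy_eq_map]
    rintro _ ⟨a, ha, rfl⟩ _ ⟨b, hb, rfl⟩
    exact ⟨⁅a, b⁆, h3 i (commutator_mem_commutator ha hb), map_commutatorElement _ _ _⟩
  obtain ⟨u, hu, hu', e1⟩ := mem_autInducedBy_iff'.1 hα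
  obtain rfl : α = conjAut A hu' := mulEquiv_ext_equivFun fun x hx => by
    rw [e1 x hx, equivFun_conjAut hu' hx]
  have hi := isIso_of_mem_autGroup hn.le hg
  obtain ⟨ψ, a1, a2⟩ := (hF.isReceptive hS hn).exists_ext_of_le hi
    (zpowers_le.2 ((mem_extSub_equivFun_iff (h2 i hu).1 hu').2 e))
  have hu2 : u ∈ A ⊔ zpowers u := mem_sup_right (mem_zpowers u)
  refine mem_autInducedBy_iff.2 ⟨ψ u, h4 i _ ψ a1 le_sup_left (hi.congr fun x hx => (a2 x hx).symm)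
    u hu2 hu, fun x => ?_⟩
  have h5 := equivFun_mem g⁻¹ x.2
  rw [← equivFun_coe, equivFun_mul _ _ x.2, equivFun_mul _ _ h5, equivFun_conjAut hu' h5,
    ← a2 _ (conj_mem_of_mem_normalizer hu' h5), a1.map_conj hu2 (mem_sup_left h5), a2 _ h5,
    equivFun_apply_inv _ x.2]

theorem Min.kill (hm : Min F) (hS : IsPGroup 2 S) (hF : F.IsSaturated 2) {x : Ω} (hx1 : x ≠ 1)
    {Z1 Z2 D P1 P2 : Subgroup Ω} {φ1 φ2 : Ω → Ω} (h1 : Z1 ≤ S ⊓ 𝒞[x]) (h2 : Z2 ≤ S ⊓ 𝒞[x])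
    (m1 : F.IsMor P1 φ1) (m2 : F.IsMor P2 φ2) (x1 : x ∈ P1) (x2 : x ∈ P2) (f1 : φ1 x = x)
    (f2 : φ2 x = x) (n1 : ¬ Z1 ≤ D) (n2 : ¬ Z2 ≤ D)
    (h : ∀ a ∈ Z1, a ∉ D → ∀ b ∈ Z2, b ∉ D → ⁅a, b⁆ ∈ P1 ∧ ⁅a, b⁆ ∈ P2 ∧
      φ1 ⁅a, b⁆ ∈ Z1 ∧ φ1 ⁅a, b⁆ ∉ D ∧ φ2 ⁅a, b⁆ ∈ Z2 ∧ φ2 ⁅a, b⁆ ∉ D) : False := by
  obtain ⟨a, ha, ha'⟩ := SetLike.not_le_iff_exists.1 n1
  obtain ⟨b, hb, hb'⟩ := SetLike.not_le_iff_exists.1 n2
  have hx : zpowers x ≤ S := zpowers_le.2 (m1.le x1)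
  obtain ⟨U, ψ, hU, hψ, hi⟩ := hF.exists_isFullyNormalized hS hx
  obtain ⟨n, c, h0, e1, e2, h3, h4⟩ := hm.chain hS hF (fun e => hx1 ((hi.mor.eq_one_iff
    (mem_zpowers x)).1 (mem_bot.1 (e ▸ hi.mapsTo x (mem_zpowers x))))) hU
  have l : S ⊓ 𝒞[x] ≤ normalizerIn S (zpowers x) := inf_le_inf_left _ cent1_le_norm_zpowers
  have l0 := le_normalizerIn hx
  have k : ∀ {P φ} y, F.IsMor P φ → x ∈ P → φ x = x → y ∈ P → y ∈ S ⊓ 𝒞[x] → φ y ∈ S ⊓ 𝒞[x] →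
      ∀ i, ψ y ∈ c i → ψ (φ y) ∈ c i := fun {P φ} y m h1 h2 h3 h5 h6 i h7 => by
    have l1 : zpowers y ⊔ zpowers x ≤ _ := sup_le (zpowers_le.2 (l h5)) l0
    have l2 : zpowers y ⊔ zpowers x ≤ P := sup_le (zpowers_le.2 h3) (zpowers_le.2 h1)
    have hy : y ∈ zpowers y ⊔ zpowers x := mem_sup_left (mem_zpowers y)
    obtain ⟨ψ', a1, a2, -⟩ := (hψ.isIso_img_of_le l1).exists_symm
    have a3 := hψ.comp' ((m.mono l2).comp' a1.mor a1.mapsTo) fun z hz => (m.isHomOn.mono l2).mapsTo_sup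
      (R := normalizerIn S (zpowers x)) (by
        rintro _ ⟨k, rfl⟩; rw [m.map_zpow h3]; exact zpow_mem (l h6) k)
      (by rintro _ ⟨k, rfl⟩; rw [m.map_zpow h1, h2]; exact l0 (zpow_mem_zpowers x k)) _
      (a1.mapsTo z hz)
    have l3 : U ≤ img (zpowers y ⊔ zpowers x) ψ := hi.img_eq.ge.trans (img_mono _ le_sup_right)
    have := h4 i _ _ a3 l3 ((a3.mono l3).isIso_self fun z hz => by
      obtain ⟨_, ⟨k, rfl⟩, rfl⟩ := hi.surj z hz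
      rw [a2 _ (mem_sup_right (zpow_mem_zpowers x k)), m.map_zpow h1, h2]
      exact hz) _ (mem_img_of_mem ψ hy) h7
    rwa [a2 y hy] at this
  have : ∀ i, ∀ a ∈ Z1, a ∉ D → ∀ b ∈ Z2, b ∉ D → ψ a ∈ c i → ψ b ∉ c i := fun i => by
    induction i with
    | zero =>
      intro a ha ha' _ _ _ h
      rw [h0, mem_bot, hψ.eq_one_iff (l (h1 ha))] at h
      exact (ha' (h ▸ D.one_mem)).elim
    | succ i ih =>
      intro a ha ha' b hb hb' c1 c2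
      obtain ⟨p1, p2, p3, p4, p5, p6⟩ := h a ha ha' b hb hb'
      have c3 := h3 i (commutator_mem_commutator c1 c2)
      rw [← hψ.map_commutatorElement (l (h1 ha)) (l (h2 hb))] at c3
      have c4 : ⁅a, b⁆ ∈ S ⊓ 𝒞[x] := der_le _ (commutator_mem_commutator (h1 ha) (h2 hb))
      exact ih _ p3 p4 _ p5 p6 (k _ m1 x1 f1 p1 c4 (h1 p3) i c3) (k _ m2 x2 f2 p2 c4 (h2 p5) i c3)
  have hN : ∀ y ∈ S ⊓ 𝒞[x], ψ y ∈ c n := fun y hy =>
    e1 ▸ ⟨hψ.mem (l hy), hi.map_mem_normalizer hψ l0 (l hy) (l hy).2⟩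
  exact this n a ha ha' b hb hb' (hN a (h1 ha)) (hN b (h2 hb))

end Cfsg.Agent.PU
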