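import Cfsg.Agent.Lib.PU.Sd
import Cfsg.Agent.Lib.PU.Kill

/-!
First consequences of `Pre`.
-/

set_option autoImplicit false

namespace Cfsg.Agent.PU

open Cfsg Cfsg.FusionSystem Subgroup Cfsg.Agent.FT
open Cfsg.Agent.H6 (cj RealizedIn SylIn)
open Cfsg.Agent.H9 (U4)
open Cfsg.Agent.SP (sA sB sZ sX)
open scoped commutatorElement

variable {Ω : Type*} [Group Ω] {S : Subgroup Ω} [Finite S] {F F' : FusionSystem S}
  {A1 A2 : Subgroup Ω} {t : Ω} {φ : Ω → Ω}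


theorem El.cj {G : Type*} [Group G] {A : Subgroup G} (h : El A) (g : G) : El (cj g A) :=
  fun a ha => by
    have := h _ (H6.mem_cj.1 ha)
    rwa [show g⁻¹ * a * g * (g⁻¹ * a * g) = g⁻¹ * (a * a) * g by group, mul_assoc,
      inv_mul_eq_one, right_eq_mul] at this

theorem Pre.cen (h : Pre F A1 A2) : centralizerIn S A1 ≤ A1 := fun u hu =>
  h.toPair.mem_of_cent (h.baum u (centralizerIn_le_normalizerIn hu)
    fun d hd => (hu.2 d hd.1).symm) hu.2

theorem Pair.sup_le_norm (h : Pair S A1 A2) : A1 ⊔ A2 ≤ normalizerIn S A1 :=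
  le_inf (sup_le h.le1 h.le2) h.norm1

theorem Pre.norm2 (h : Pre F A1 A2) : normalizerIn S A1 ≤ 𝒩(A2) := fun u hu => by
  rcases h.max (cj u A2) (H6.cj_le_of_mem hu (le_sup_right.trans h.toPair.sup_le_norm))
    (h.el2.cj u) (by rw [H6.card_cj, h.card]) with e | e
  · exact (h.ne (H6.cj_injective u (by rw [e, H6.cj_eq_self_iff.2 hu.2]))).elim
  · exact H6.cj_eq_self_iff.1 e

theorem Pre.wc (h : Pre F A1 A2) {f : Ω → Ω} (hf : F.IsMor (A1 ⊔ A2) f) (h1 : ∀ a ∈ A1, f a ∈ A1) :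
    ∀ b ∈ A2, f b ∈ A2 := fun b hb => by
  have hi := (hf.mono le_sup_left).isIso_self h1
  have h2 := hf.mono (le_sup_right : A2 ≤ A1 ⊔ A2)
  rcases h.max (img A2 f) (img_le_iff.2 fun x hx => ⟨h2.mem hx, hi.map_mem_normalizer hf
    le_sup_left (mem_sup_right hx) (h.toPair.norm1 (mem_sup_right hx))⟩) (fun y hy => by
      obtain ⟨x, hx, rfl⟩ := h2.mem_img.1 hy
      rw [← h2.map_mul hx hx, h.el2 x hx, h2.map_one]) (by rw [h2.card_img, h.card]) with e | e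
  · exact (h.toPair.symm.not_le fun x hx => (hi.mem_iff hf le_sup_left (mem_sup_right hx)).1
      (e ▸ mem_img_of_mem f hx)).elim
  · exact e ▸ mem_img_of_mem f hb

omit [Finite S] in
theorem conj_conjAut {P X : Subgroup Ω} {ψ : Ω → Ω} (hψ : F.IsMor X ψ) (hP : P ≤ X) {g α : MulAut P}
    (e : ∀ x ∈ P, ψ x = equivFun g x) {b : Ω} (hb : b ∈ X) (hα : ∀ x : P, (α x : Ω) = b * x * b⁻¹)
    (x : P) : ((g * α * g⁻¹) x : Ω) = ψ b * x * (ψ b)⁻¹ := by
  have h5 := equivFun_mem g⁻¹ x.2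
  have h6 : equivFun α (equivFun g⁻¹ x) = b * equivFun g⁻¹ x * b⁻¹ := by
    rw [equivFun_of_mem _ h5, hα]
  rw [← equivFun_coe, equivFun_mul _ _ x.2, equivFun_mul _ _ h5, ← e _ (equivFun_mem _ h5), h6,
    hψ.map_conj hb (hP h5), e _ h5, equivFun_apply_inv _ x.2]

theorem Pre.sd (h : Pre F A1 A2) (hS : IsPGroup 2 S) (hF : F.IsSaturated 2) (hm : Min F) :
    Sd F A1 A2 := by
  have := finite_of_le h.le1
  have p := h.toPair
  have hs := hF.sylowIn hS h.fn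
  have hs' : SylIn 2 (autInducedBy S A1) (F.autGroup A1) :=
    ⟨hs.le, hs.isPGroup, fun Q a b c => hs.eq_of_le a b c⟩
  have W : ∀ f ∈ F.autGroup A1, cj f (autInducedBy A2 A1) ≤ autInducedBy S A1 →
      cj f (autInducedBy A2 A1) = autInducedBy A2 A1 := fun f hf hle => by
    obtain ⟨ψ, a1, a2⟩ := (hF.isReceptive hS h.fn).exists_ext_of_le
      (isIso_of_mem_autGroup h.le1 hf) (R := A2) fun b hb =>
        (mem_extSub_equivFun_iff (h.le2 hb) (p.norm1 (mem_sup_right hb))).2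
          (hle (H6.conj_mem_cj (conjAut_mem_autInducedBy hb _)))
    refine eq_of_le_of_card_ge (H6.cj_le_iff.2 fun α hα => ?_) (H6.card_cj _ _).ge
    obtain ⟨b, hb, e⟩ := mem_autInducedBy_iff.1 hα
    exact mem_autInducedBy_iff.2 ⟨ψ b, h.wc a1 (fun a ha => a2 a ha ▸ equivFun_mem f ha) b hb,
      conj_conjAut a1 le_sup_left a2 (mem_sup_right hb) e⟩
  refine ⟨p, h.fn, h.cen, fun f => h.wc, ti_of_wc AV.mod2 p.quad (p.aut_le F) (fun g hg hp => ?_)
    (hm.sol_aut hS hF (fun e => p.not_le (e ▸ bot_le)) h.fn) fun α hα h1 α' hα' h1' => ?_, h.mv⟩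
  · obtain ⟨k, hk, e⟩ := hs'.exists_cj_le hp (sup_le (p.aut_le F)
      (H6.cj_le_of_mem hg (p.aut_le F)))
    rw [H6.cj_sup, sup_le_iff, H6.cj_cj] at e
    refine H6.cj_injective k ?_
    rw [H6.cj_cj, W _ (mul_mem hk hg) e.2, W _ hk e.1]
  · obtain ⟨b, hb, e⟩ := mem_autInducedBy_iff.1 hα
    obtain ⟨b', hb', e'⟩ := mem_autInducedBy_iff.1 hα'
    have k : ∀ {α : MulAut A1} {b : Ω}, α ≠ 1 → (∀ x : A1, (α x : Ω) = b * x * b⁻¹) → b ∉ A1 :=
      fun h1 e hb => h1 (MulEquiv.ext fun x => Subtype.ext (by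
        rw [e, h.el1.comm hb x.2, mul_inv_cancel_right]; rfl))
    obtain ⟨ψ, a1, a2, a3⟩ := h.cls b hb (k h1 e) b' hb' (k h1' e')
    obtain ⟨g, hg, a4⟩ := ((a1.mor.mono le_sup_left).isIso_self a2).exists_aut
    refine ⟨g, hg, MulEquiv.ext fun x => Subtype.ext ?_⟩
    rw [conj_conjAut a1.mor le_sup_left (fun x hx => (a4 x hx).symm) (mem_sup_right hb) e,
      show ψ b * x * (ψ b)⁻¹ = ψ b * b'⁻¹ * (b' * x * b'⁻¹) * (ψ b * b'⁻¹)⁻¹ by group, ← e',
      h.el1.comm a3 (α' x).2, mul_inv_cancel_right]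

theorem Pre.exists_swap (h : Pre F A1 A2) (hS : IsPGroup 2 S) (hF : F.IsSaturated 2) :
    ∃ t ∈ S, cj t A1 = A2 ∧ cj t A2 = A1 := by
  have p := h.toPair
  have hB : A1 ⊔ A2 ≤ S := sup_le h.le1 h.le2
  by_cases hT : normalizerIn S A1 = S
  · exfalso
    have := finite_of_le hB
    have hs := hF.sylowIn hS (F.isFullyNormalized_of_le_normalizer hB fun s hs =>
      mem_normalizer_sup (hT.ge hs).2 (h.norm2 (hT.ge hs)))
    have hs' : SylIn 2 (autInducedBy S (A1 ⊔ A2)) (F.autGroup (A1 ⊔ A2)) :=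
      ⟨hs.le, hs.isPGroup, fun Q a b c => hs.eq_of_le a b c⟩
    let K0 : Subgroup (MulAut (A1 ⊔ A2 : Subgroup Ω)) :=
      { carrier := {β | ∀ x, (β x : Ω) ∈ A1 ↔ (x : Ω) ∈ A1}
        one_mem' := fun _ => Iff.rfl
        mul_mem' := fun {a b} ha hb x => (ha (b x)).trans (hb x)
        inv_mem' := fun {a} ha x => by rw [← ha]; simp }
    obtain ⟨α, a1, a2⟩ := h.swap
    obtain ⟨α', a3, a4⟩ := a1.exists_aut
    have a5 : F.IsIso A1 A2 α ∧ F.IsIso A2 A1 α := (p.iso_cases a1).resolve_left fun e =>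
      p.not_le fun x hx => by
        obtain ⟨y, hy, rfl⟩ := e.1.surj x hx
        exact a2 y hy
    obtain ⟨a, ha, ha'⟩ := SetLike.not_le_iff_exists.1 p.not_le
    have a6 : ∀ x : (A1 ⊔ A2 : Subgroup Ω), (α' x : Ω) = α x := fun x => by
      rw [← a4 x x.2, equivFun_coe]
    have h2 : K0.relIndex (F.autGroup (A1 ⊔ A2)) = 2 := by
      refine relIndex_eq_two_iff.2 ⟨α', a3, fun β hβ => ?_⟩
      have b1 := isIso_of_mem_autGroup hB hβ
      rcases p.iso_cases b1 with b2 | b2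
      · have b3 : β ∈ K0 := fun x => by
          rw [← equivFun_coe]; exact b2.1.mem_iff b1.mor le_sup_left x.2
        refine Or.inr ⟨b3, fun e => ha' ?_⟩
        have := ((K0.mul_mem_cancel_left b3).1 e ⟨a, mem_sup_left ha⟩).2 ha
        rw [a6] at this
        exact (a5.2.mem_iff a1.mor le_sup_right (mem_sup_left ha)).1 this
      · refine Or.inl ⟨fun x => ?_, fun e => ha' ?_⟩
        · change (β (α' x) : Ω) ∈ A1 ↔ _
          rw [← equivFun_coe, b2.2.mem_iff b1.mor le_sup_right (α' x).2, a6,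
            a5.1.mem_iff a1.mor le_sup_left x.2]
        · have := (e ⟨a, mem_sup_left ha⟩).2 ha
          rw [← equivFun_coe] at this
          exact (b2.2.mem_iff b1.mor le_sup_right (mem_sup_left ha)).1 this
    refine hs'.not_dvd_relIndex (h2 ▸ relIndex_dvd_of_le_left _ fun β hβ x => ?_)
    obtain ⟨s, hs, e⟩ := mem_autInducedBy_iff.1 hβ
    rw [e]
    exact (mem_normalizer_iff.1 (hT.ge hs).2 x).symm
  obtain ⟨t, ht, ht'⟩ := SetLike.exists_of_lt
    (lt_normalizerIn hS (lt_of_le_of_ne normalizerIn_le hT))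
  have k : ∀ A ≤ normalizerIn S A1, cj t A ≤ normalizerIn S A1 := fun A hA =>
    (H6.cj_mono t hA).trans (H6.cj_eq_self_iff.2 ht.2).le
  have e1 : cj t A1 = A2 := (h.max _ (k _ (le_sup_left.trans p.sup_le_norm)) (h.el1.cj t)
    (H6.card_cj _ _).ge).resolve_left fun e => ht' ⟨ht.1, H6.cj_eq_self_iff.1 e⟩
  exact ⟨t, ht.1, e1, (h.max _ (k _ (le_sup_right.trans p.sup_le_norm)) (h.el2.cj t)
    (by rw [H6.card_cj, h.card])).resolve_right fun e => h.ne (H6.cj_injective t (e1.trans e.symm))⟩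

theorem Sd.cn_inf (h : Sd F A1 A2) (h' : Sd F A2 A1) (hS : IsPGroup 2 S) (hF : F.IsSaturated 2)
    (hm : Min F) : Cn F A1 A2 ⊓ Cn F A2 A1 = ⊥ := by
  refine eq_bot_iff.2 fun x hx => ?_
  by_contra h1
  obtain ⟨e1, a1, a2, a3⟩ := h.s5
  obtain ⟨e2, b1, b2, b3⟩ := h'.s5
  have p := h.toPair
  have hx1 := p.cn_le hx.1
  refine hm.kill hS hF h1 (Z1 := A1) (Z2 := A2) (D := A1 ⊓ A2)
    (fun a ha => ⟨h.le1 ha, mem_centralizer_singleton_iff.2 (h.el1.comm ha hx1.1)⟩)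
    (fun a ha => ⟨h.le2 ha, mem_centralizer_singleton_iff.2 (h.el2.comm ha hx1.2)⟩)
    a1.mor b1.mor hx1.1 hx1.2 (a2 x hx.1) (b2 x hx.2) (fun e => p.not_le (e.trans inf_le_right))
    (fun e => p.symm.not_le (e.trans inf_le_left)) fun a ha ha' b hb hb' => ?_
  have c1 := h.comm a ha b hb
  have c2 : ⁅a, b⁆ ≠ 1 := fun e => (h.nons a ha b hb (commutatorElement_eq_one_iff_mul_comm.1 e)).elim
    (fun e => ha' ⟨ha, e⟩) fun e => hb' ⟨e, hb⟩
  refine ⟨c1.1, c1.2, a1.mapsTo _ c1.1, fun e => c2 (h.s2 ha hb (a3 _ c1 e.2)), b1.mapsTo _ c1.2,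
    fun e => c2 ?_⟩
  have := h'.s2 hb ha (by
    rw [← commutatorElement_inv]; exact Subgroup.inv_mem _ (b3 _ ⟨c1.2, c1.1⟩ e.1))
  rwa [← commutatorElement_inv, inv_eq_one] at this

end Cfsg.Agent.PU
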