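import Cfsg.Agent.Lib.PU.Half1
import Cfsg.Agent.Lib.PU.Tim

/-!
The normalizer of `A1`.
-/

set_option autoImplicit false

namespace Cfsg.Agent.PU

open Cfsg Cfsg.FusionSystem Subgroup Cfsg.Agent.FT
open Cfsg.Agent.H6 (cj RealizedIn SylIn)
open Cfsg.Agent.H9 (U4)
open Cfsg.Agent.SP (sA sB sZ sX)
open scoped commutatorElement

variable {Ω : Type*} [Group Ω] {S : Subgroup Ω} [Finite S] {F F' : FusionSystem S}
  {A1 A2 : Subgroup Ω} {t : Ω} {φ : Ω → Ω}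


section
universe u
variable {A N M : Subgroup Ω} {f : Ω}

/-- The section `A / N` as an additive group. -/
structure Qt (A N : Subgroup Ω) {U : Type*} [AddCommGroup U] (π : Ω → U) : Prop where
  le : N ≤ A
  el : El A
  onto : ∀ w, ∃ a ∈ A, π a = w
  add : ∀ a ∈ A, ∀ a' ∈ A, π (a * a') = π a + π a'
  zero : ∀ a ∈ A, π a = 0 ↔ a ∈ N
  card : Nat.card U = N.relIndex A

theorem exists_qt {Ω : Type u} [Group Ω] {A N : Subgroup Ω} [Finite A] (he : El A) (hN : N ≤ A) :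
    ∃ (U : Type u) (_ : AddCommGroup U) (_ : Finite U) (π : Ω → U), Qt A N π := by
  classical
  let N' : AddSubgroup (AV he) :=
    { carrier := {v | (v.val : Ω) ∈ N}
      add_mem' := fun ha hb => N.mul_mem ha hb
      zero_mem' := N.one_mem
      neg_mem' := fun ha => N.inv_mem ha }
  refine ⟨AV he ⧸ N', inferInstance, inferInstance,
    fun x => if h : x ∈ A then QuotientAddGroup.mk (AV.mk he ⟨x, h⟩) else 0, hN, he, fun w => ?_,
    fun a ha a' ha' => ?_, fun a ha => ?_, ?_⟩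
  · obtain ⟨v, rfl⟩ := QuotientAddGroup.mk_surjective w
    exact ⟨v.val, v.val.2, dif_pos v.val.2⟩
  · simp only [dif_pos ha, dif_pos ha', dif_pos (A.mul_mem ha ha')]
    rfl
  · simp only [dif_pos ha, QuotientAddGroup.eq_zero_iff]
    rfl
  · have : Finite N := Finite.of_injective _ (inclusion_injective hN)
    have h1 := AddSubgroup.card_eq_card_quotient_mul_card_addSubgroup N'
    rw [AV.card, AV.card_of_iff (U := N') hN fun _ => Iff.rfl,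
      ← (N.subgroupOf A).card_mul_index, Nat.card_congr (subgroupOfEquivOfLe hN).toEquiv,
      mul_comm] at h1
    exact (Nat.eq_of_mul_eq_mul_right Nat.card_pos h1).symm

variable (A N f) in
/-- `f` acts trivially on `A / N`. -/
def Triv : Prop := ∀ a ∈ A, f * a * f⁻¹ * a ∈ N

variable (A N f) in
/-- `f` acts freely on `A / N`. -/
def Fre : Prop := ∀ a ∈ A, f * a * f⁻¹ * a ∈ N → ∃ a' ∈ A, a * (f * a' * f⁻¹ * a') ∈ N

namespace Qt
variable {U V : Type*} [AddCommGroup U] [AddCommGroup V] {π : Ω → U} (h : Qt A N π)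
include h

theorem two (w : U) : w + w = 0 := by
  obtain ⟨a, ha, rfl⟩ := h.onto w
  rw [← h.add a ha a ha, h.el a ha, h.zero 1 A.one_mem]
  exact N.one_mem

theorem add_eq_zero {w w' : U} : w + w' = 0 ↔ w = w' :=
  ⟨fun e => by rw [← add_zero w, ← h.two w', ← add_assoc, e, zero_add], fun e => e ▸ h.two w⟩

theorem lift {g : Ω → V} (g1 : ∀ a ∈ A, ∀ a' ∈ A, g (a * a') = g a + g a') (g2 : ∀ a ∈ N, g a = 0) :
    ∃ g' : U →+ V, ∀ a ∈ A, g' (π a) = g a := by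
  choose r r1 r2 using h.onto
  have key : ∀ a ∈ A, g (r (π a)) = g a := fun a ha => by
    have m := A.mul_mem ha (r1 (π a))
    have := g1 a ha _ m
    rw [← mul_assoc, h.el a ha, one_mul, g2 _ ((h.zero _ m).1 (by
      rw [h.add a ha _ (r1 _), r2, h.two])), add_zero] at this
    exact this
  refine ⟨AddMonoidHom.mk' (fun w => g (r w)) fun w w' => ?_, key⟩
  rw [← g1 _ (r1 w) _ (r1 w'), ← key _ (A.mul_mem (r1 w) (r1 w')), h.add _ (r1 w) _ (r1 w'), r2, r2]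

theorem conj (h1 : f ∈ 𝒩(A)) (h2 : f ∈ 𝒩(N)) (h3 : f * f ∈ 𝒞(A)) :
    ∃ g : U →+ U, (∀ a ∈ A, g (π a) = π (f * a * f⁻¹)) ∧ ∀ w, g (g w) = w := by
  have m : ∀ a ∈ A, f * a * f⁻¹ ∈ A := fun a ha => H6.conj_mem_of_mem_normalizer h1 ha
  obtain ⟨g, hg⟩ := h.lift (g := fun a => π (f * a * f⁻¹))
    (fun a ha a' ha' => by rw [← h.add _ (m a ha) _ (m a' ha'), conj_mul])
    fun a ha => (h.zero _ (m a (h.le ha))).2 (H6.conj_mem_of_mem_normalizer h2 ha)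
  refine ⟨g, hg, fun w => ?_⟩
  obtain ⟨a, ha, rfl⟩ := h.onto w
  rw [hg a ha, hg _ (m a ha)]
  congr 1
  calc _ = (f * f * a) * (f * f)⁻¹ := by group
    _ = a := by rw [← mem_cent.1 h3 a ha, mul_inv_cancel_right]

variable [Finite U] {g : U →+ U} (h1 : f ∈ 𝒩(A)) (hg : ∀ a ∈ A, g (π a) = π (f * a * f⁻¹))
include h1 hg

omit [Finite U] in
theorem fix_iff {a : Ω} (ha : a ∈ A) : g (π a) = π a ↔ f * a * f⁻¹ * a ∈ N := by
  have m := H6.conj_mem_of_mem_normalizer h1 ha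
  rw [← h.zero _ (A.mul_mem m ha), h.add _ m a ha, h.add_eq_zero, hg a ha]

theorem triv_iff : Triv A N f ↔ Nat.card {w // g w = w} = Nat.card U := by
  refine ⟨fun e => Nat.card_congr (Equiv.subtypeUnivEquiv fun w => ?_), fun e a ha => ?_⟩
  · obtain ⟨a, ha, rfl⟩ := h.onto w
    exact (h.fix_iff h1 hg ha).2 (e a ha)
  · obtain ⟨w, hw⟩ := (Subtype.val_injective.bijective_of_nat_card_le e.ge).2 (π a)
    exact (h.fix_iff h1 hg ha).1 (hw ▸ w.2)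

theorem fre (i : ∀ w, g (g w) = w) (e : Nat.card {w // g w = w} ^ 2 = Nat.card U) :
    Fre A N f := fun a ha h2 => by
  let δ : U →+ U := g + AddMonoidHom.id U
  have e1 : Nat.card δ.ker = Nat.card {w // g w = w} :=
    Nat.card_congr (Equiv.subtypeEquivRight fun w => h.add_eq_zero)
  have e2 := δ.ker.card_mul_index
  rw [AddSubgroup.index_ker, ← e, pow_two, ← e1] at e2
  have e3 : δ.range = δ.ker := add_eq_of_le_of_card (by
    rintro _ ⟨w, rfl⟩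
    change g (g w + w) + (g w + w) = 0
    rw [map_add, i, add_comm w, h.two]) (Nat.eq_of_mul_eq_mul_left Nat.card_pos e2).ge
  obtain ⟨w, hw⟩ := e3.ge (h.add_eq_zero.2 ((h.fix_iff h1 hg ha).2 h2) : π a ∈ δ.ker)
  obtain ⟨a', ha', rfl⟩ := h.onto w
  have m := H6.conj_mem_of_mem_normalizer h1 ha'
  refine ⟨a', ha', (h.zero _ (A.mul_mem ha (A.mul_mem m ha'))).1 ?_⟩
  rw [h.add a ha _ (A.mul_mem m ha'), h.add _ m _ ha', ← hg a' ha', h.add_eq_zero]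
  exact hw.symm

end Qt

theorem Fre.trans (he : El A) (hN : N ≤ A) (h1 : f ∈ 𝒩(A)) (h3 : f * f ∈ 𝒞(A)) (h : Fre A N f)
    (h' : Fre N ⊥ f) : Fre A ⊥ f := fun a ha e => by
  obtain ⟨a', ha', e1⟩ := h a ha (bot_le (a := N) e)
  have m := H6.conj_mem_of_mem_normalizer h1 ha'
  rw [mem_bot, mul_eq_one_iff_eq_inv, he.inv ha] at e
  have e2 : f * (f * a' * f⁻¹) * f⁻¹ = a' := by
    calc _ = (f * f * a') * (f * f)⁻¹ := by group
      _ = a' := by rw [← mem_cent.1 h3 a' ha', mul_inv_cancel_right]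
  obtain ⟨n, hn, e3⟩ := h' _ e1 (by
    rw [← conj_mul, ← conj_mul, e, e2, he.comm ha' m, he _ (hN e1)]
    exact one_mem _)
  refine ⟨a' * n, A.mul_mem ha' (hN hn), ?_⟩
  convert e3 using 1
  rw [← conj_mul, mul_assoc (f * a' * f⁻¹), ← mul_assoc (f * n * f⁻¹),
    he.comm (H6.conj_mem_of_mem_normalizer h1 (hN hn)) ha']
  group

theorem Sd.baer (h : Sd F A1 A2) (fS : f ∈ S) (h1 : f ∈ 𝒩(A1)) (h2 : f ∈ 𝒩(A2))
    (h3 : f * f ∈ A1 ⊓ A2) :
    (Triv A1 (A1 ⊓ A2) f ∧ Triv A2 (A1 ⊓ A2) f ∧ Triv (A1 ⊓ A2) (Cn F A1 A2) f) ∨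
      (Fre A1 (A1 ⊓ A2) f ∧ Fre (A1 ⊓ A2) (Cn F A1 A2) f ∧ ¬ Triv A1 (A1 ⊓ A2) f ∧
        ¬ Triv A2 (A1 ⊓ A2) f) := by
  have := finite_of_le h.le1
  have := finite_of_le h.le2
  have := finite_of_le (inf_le_left.trans h.le1 : A1 ⊓ A2 ≤ S)
  have p := h.toPair
  obtain ⟨U, _, _, πU, qU⟩ := exists_qt h.el1 (inf_le_left : A1 ⊓ A2 ≤ A1)
  obtain ⟨W, _, _, πW, qW⟩ := exists_qt h.el2 (inf_le_right : A1 ⊓ A2 ≤ A2)
  obtain ⟨R, _, _, πR, qR⟩ := exists_qt (h.el1.mono inf_le_left) (p.cn_le (F := F))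
  have nD : f ∈ 𝒩((A1 ⊓ A2 : Subgroup Ω)) := inf_normalizer_le_normalizer_inf ⟨h1, h2⟩
  have nC : f ∈ 𝒩(Cn F A1 A2) := H6.cj_eq_self_iff.1 (by
    rw [cj_cn fS h.le1, H6.cj_eq_self_iff.2 h1, H6.cj_eq_self_iff.2 h2])
  have c3 := cent_comm.1 p.cent h3
  obtain ⟨fU, fU1, fU2⟩ := qU.conj h1 nD (cent_le_cent le_sup_left c3)
  obtain ⟨fW, fW1, fW2⟩ := qW.conj h2 nD (cent_le_cent le_sup_right c3)
  obtain ⟨fR, fR1, fR2⟩ := qR.conj nD nC (cent_le_cent (inf_le_left.trans le_sup_left) c3)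
  have cen : ∀ a ∈ A1, ∀ b ∈ A2, ∀ s ∈ A1 ⊔ A2, s * ⁅a, b⁆ * s⁻¹ = ⁅a, b⁆ := fun a ha b hb s hs => by
    rw [← mem_cent.1 (p.cent hs) _ (h.comm a ha b hb), mul_inv_cancel_right]
  have one : πR 1 = 0 := (qR.zero 1 (one_mem _)).2 (one_mem _)
  have ex : ∀ a ∈ A1, ∃ g : W →+ R, ∀ b ∈ A2, g (πW b) = πR ⁅a, b⁆ := fun a ha =>
    qW.lift (g := fun b => πR ⁅a, b⁆) (fun b hb b' hb' => by
      rw [← qR.add _ (h.comm a ha b hb) _ (h.comm a ha b' hb')]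
      congr 1
      rw [← cen a ha b' hb' b (mem_sup_right hb)]
      simp only [commutatorElement_def]
      group) fun b hb => by
      rw [commutatorElement_eq_one_iff_mul_comm.2 (h.el1.comm ha hb.1), one]
  choose! g hg using ex
  obtain ⟨β, hβ⟩ := qU.lift (g := g) (fun a ha a' ha' => AddMonoidHom.ext fun w => by
    obtain ⟨b, hb, rfl⟩ := qW.onto w
    rw [AddMonoidHom.add_apply, hg a ha b hb, hg a' ha' b hb, hg _ (A1.mul_mem ha ha') b hb,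
      add_comm, ← qR.add _ (h.comm a' ha' b hb) _ (h.comm a ha b hb)]
    congr 1
    rw [← cen a' ha' b hb a (mem_sup_left ha)]
    simp only [commutatorElement_def]
    group) fun a ha => AddMonoidHom.ext fun w => by
    obtain ⟨b, hb, rfl⟩ := qW.onto w
    rw [hg a ha.1 b hb, commutatorElement_eq_one_iff_mul_comm.2 (h.el2.comm ha.2 hb), one]
    rfl
  have cU : Nat.card U = Nat.card R := by rw [qU.card, qR.card, h.s3]
  have cW : Nat.card W = Nat.card R := by rw [qW.card, qR.card, h.s3, p.relIndex_eq]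
  have : Nontrivial R := by
    obtain ⟨a, ha, ha'⟩ := SetLike.not_le_iff_exists.1 p.not_le
    rw [← Finite.one_lt_card_iff_nontrivial, ← cU, Finite.one_lt_card_iff_nontrivial]
    exact ⟨_, 0, fun e => ha' ((qU.zero a ha).1 e).2⟩
  obtain ⟨e1, e2, e3, e4⟩ := PU.baer qU.two qW.two qR.two cU cW β (fun u w e => by
    obtain ⟨a, ha, rfl⟩ := qU.onto u
    obtain ⟨b, hb, rfl⟩ := qW.onto w
    rw [hβ a ha, hg a ha b hb, qR.zero _ (h.comm a ha b hb)] at e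
    rw [qU.zero a ha, qW.zero b hb]
    exact (h.nons a ha b hb (commutatorElement_eq_one_iff_mul_comm.1 (h.s2 ha hb e))).imp
      (fun e => ⟨ha, e⟩) fun e => ⟨e, hb⟩) fU fW fR fU2 fW2 fR2 fun u w => by
    obtain ⟨a, ha, rfl⟩ := qU.onto u
    obtain ⟨b, hb, rfl⟩ := qW.onto w
    have m1 := H6.conj_mem_of_mem_normalizer h1 ha
    have m2 := H6.conj_mem_of_mem_normalizer h2 hb
    rw [fU1 a ha, fW1 b hb, hβ a ha, hβ _ m1, hg a ha b hb, hg _ m1 _ m2, fR1 _ (h.comm a ha b hb),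
      conjugate_commutatorElement]
  rw [qU.triv_iff h1 fU1, qW.triv_iff h2 fW1, qR.triv_iff nD fR1, e1, e2, cU, cW]
  refine e4.imp (fun e => ⟨e, e, e⟩) fun e => ?_
  have : Nat.card {r // fR r = r} ≠ Nat.card R := fun e' => by
    rw [← e, pow_two] at e'
    nlinarith
  exact ⟨qU.fre h1 fU1 fU2 (by rw [e1, cU, e]), qR.fre nD fR1 fR2 e, this, this⟩

theorem Sd.ext_fix (h : Sd F A1 A2) (hS : IsPGroup 2 S) (hF : F.IsSaturated 2) (fS : f ∈ S)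
    (h1 : f ∈ 𝒩(A1)) (ff : f * f = 1) (fr : Fre A1 ⊥ f) {y : Ω → Ω} (hy : F.IsIso A1 A1 y)
    (e : ∀ a ∈ A1, y (f * a * f⁻¹) = f * y a * f⁻¹) :
    ∃ ψ, F.IsMor (A1 ⊔ zpowers f) ψ ∧ ψ f = f ∧ ∀ a ∈ A1, ψ a = y a := by
  obtain ⟨ψ, hψ, e1⟩ := (hF.isReceptive hS h.fn).exists_ext_of_le hy (R := zpowers f)
    (zpowers_le.2 ⟨fS, h1, f, fS, e⟩)
  have mf : f ∈ A1 ⊔ zpowers f := mem_sup_right (mem_zpowers f)
  have ha : f⁻¹ * ψ f ∈ A1 := h.cen ⟨S.mul_mem (S.inv_mem fS) (hψ.mem mf), mem_cent.2 fun x hx => by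
    obtain ⟨a, ha, rfl⟩ := hy.surj x hx
    have := hψ.map_conj mf (mem_sup_left ha)
    rw [e1 _ (H6.conj_mem_of_mem_normalizer h1 ha), e a ha, e1 a ha] at this
    calc y a * (f⁻¹ * ψ f) = f⁻¹ * (f * y a * f⁻¹) * ψ f := by group
      _ = _ := by rw [this]; group⟩
  have fi : f⁻¹ = f := inv_eq_of_mul_eq_one_right ff
  obtain ⟨a', ha', e2⟩ := fr _ ha (by
    rw [mul_inv_cancel_left, mul_assoc, fi, ← mul_assoc f, ff, one_mul, ← hψ.map_mul mf mf, ff,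
      hψ.map_one]
    exact one_mem _)
  refine ⟨fun x => a' * ψ x * a'⁻¹, (F.isMor_conj le_rfl (h.le1 ha')).comp' hψ fun x hx => hψ.mem hx,
    ?_, fun a ha => by
      simp only [e1 a ha]
      rw [h.el1.comm ha' (hy.mapsTo a ha), mul_inv_cancel_right]⟩
  rw [mem_bot, mul_eq_one_iff_eq_inv, inv_mul_eq_iff_eq_mul] at e2
  have m := H6.conj_mem_of_mem_normalizer h1 ha'
  simp only [e2]
  rw [h.el1.inv (A1.mul_mem m ha')]
  calc _ = a' * (f * f) * a' * f⁻¹ := by group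
    _ = f := by rw [ff, mul_one, h.el1 a' ha', one_mul, fi]

theorem exists_sq_mem {x : Ω} (hx : x ∉ A) : ∀ k : ℕ, x ^ 2 ^ k ∈ A →
    ∃ j : ℕ, x ^ j ∉ A ∧ x ^ j * x ^ j ∈ A
  | 0, h => absurd (by simpa using h) hx
  | k + 1, h => by
    by_cases e : x ^ 2 ^ k ∈ A
    · exact exists_sq_mem hx k e
    · exact ⟨2 ^ k, e, by rwa [← pow_add, ← two_mul, ← pow_succ']⟩

end

theorem Pre.norm_eq (h : Pre F A1 A2) (hS : IsPGroup 2 S) (hF : F.IsSaturated 2) (hm : Min F) :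
    normalizerIn S A1 = A1 ⊔ A2 := by
  have p := h.toPair
  refine le_antisymm (fun u0 hu0 => ?_) (le_inf (sup_le h.le1 h.le2) p.norm1)
  by_contra hB0
  obtain ⟨k, hk⟩ := H6.isPGroup_subgroup_iff.1 hS u0 hu0.1
  obtain ⟨j, hB, uu⟩ := exists_sq_mem hB0 k (hk ▸ one_mem _)
  have hu := (normalizerIn S A1).pow_mem hu0 j
  generalize u0 ^ j = u at hB uu hu
  have s1 := h.sd hS hF hm
  obtain ⟨t, ht, t1, t2⟩ := h.exists_swap hS hF
  have s2 : Sd F A2 A1 := by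
    have := s1.cj ht
    rwa [t1, t2] at this
  have n2 : A1 ⊔ A2 ≤ 𝒩(A2) := sup_comm A1 A2 ▸ p.symm.norm1
  have hBT : A1 ⊔ A2 ≤ normalizerIn S A1 := le_inf (sup_le h.le1 h.le2) p.norm1
  obtain ⟨D1, d1, d2, d3, d4⟩ := s1.s7 hS
  obtain ⟨D2, d1', d2', d3', d4'⟩ := s2.s7 hS
  have c1 : A1 ≤ 𝒩(D1) := fun a ha => cent_le_norm (mem_cent.2 fun x hx => h.el1.comm (d1 hx) ha)
  have c2 : A2 ≤ 𝒩(D2) := fun a ha => cent_le_norm (mem_cent.2 fun x hx => h.el2.comm (d1' hx) ha)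
  obtain ⟨b, hb, e1⟩ := d2 u hu.1 hu.2 (h.norm2 hu)
  have hub := (normalizerIn S A1).mul_mem hu (hBT (mem_sup_right hb))
  obtain ⟨a, ha, e2⟩ := d2' _ hub.1 (h.norm2 hub) hub.2
  have hab : b * a ∈ A1 ⊔ A2 := Subgroup.mul_mem _ (mem_sup_right hb) (mem_sup_left ha)
  have f1 := (normalizerIn S A1).mul_mem hub (hBT (mem_sup_left ha))
  have f2 := (𝒩(D1)).mul_mem e1 (c1 ha)
  have f3 : u * b * a ∉ A1 ⊔ A2 := by rwa [mul_assoc, Subgroup.mul_mem_cancel_right _ hab]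
  have f4 : u * b * a * (u * b * a) ∈ A1 ⊔ A2 := by
    have : u * b * a * (u * b * a) = u * u * (u⁻¹ * (b * a) * u) * (b * a) := by group
    rw [this]
    exact Subgroup.mul_mem _ (Subgroup.mul_mem _ uu (H6.conj_mem_of_mem_normalizer'
      (normalizer_inf_normalizer_le_normalizer_sup _ _ ⟨hu.2, h.norm2 hu⟩) hab)) hab
  generalize u * b * a = g at e2 f1 f2 f3 f4
  have f5 : g * g ∈ A1 ⊓ A2 := by
    obtain ⟨a', ha', b', hb', e⟩ := p.exists_mul f4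
    have g1 := (𝒩(D1)).mul_mem f2 f2
    have g2 := (𝒩(D2)).mul_mem e2 e2
    rw [e] at g1 g2 ⊢
    exact ⟨A1.mul_mem ha' (d3 b' hb' (((𝒩(D1)).mul_mem_cancel_left (c1 ha')).1 g1)),
      A2.mul_mem (d3' a' ha' (((𝒩(D2)).mul_mem_cancel_right (c2 hb')).1 g2)) hb'⟩
  have ci := s1.cn_inf s2 hS hF hm
  have key : ∀ g ∈ normalizerIn S A1, g ∉ A1 ⊔ A2 → g * g ∈ A1 ⊓ A2 → Fre (A1 ⊓ A2) ⊥ g ∧
      Fre A1 ⊥ g ∧ Fre A2 ⊥ g ∧ ¬ Triv A1 (A1 ⊓ A2) g ∧ ¬ Triv A2 (A1 ⊓ A2) g := by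
    intro g f1 f3 f5
    have b1 := s1.baer f1.1 f1.2 (h.norm2 f1) f5
    have b2 := s2.baer f1.1 (h.norm2 f1) f1.2 (inf_comm A1 A2 ▸ f5)
    rw [inf_comm A2 A1] at b2
    rcases b1 with b1 | b1 <;> rcases b2 with b2 | b2
    · refine absurd (h.baum g f1 fun d hd => ?_) f3
      have := ci.le ⟨b1.2.2 d hd, b2.2.2 d hd⟩
      rwa [mem_bot, mul_eq_one_iff_eq_inv, h.el1.inv hd.1, mul_inv_eq_iff_eq_mul] at this
    · exact absurd b1.1 b2.2.2.2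
    · exact absurd b2.1 b1.2.2.2
    have c3 := cent_comm.1 p.cent f5
    have nD : g ∈ 𝒩((A1 ⊓ A2 : Subgroup Ω)) := inf_normalizer_le_normalizer_inf ⟨f1.2, h.norm2 f1⟩
    have fD : Fre (A1 ⊓ A2) ⊥ g := by
      rcases s1.dich hS hF s2 ci with e | e
      · exact e ▸ b2.2.1
      refine Fre.trans (h.el1.mono inf_le_left) p.cn_le nD
        (cent_le_cent (inf_le_left.trans le_sup_left) c3) b1.2.1 fun c hc e' => ?_
      obtain ⟨d, hd, e1⟩ := b2.2.1 c (p.cn_le hc) (bot_le (a := Cn F A2 A1) e')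
      obtain ⟨x, hx, y, hy, rfl⟩ := (mem_sup_of_le_normalizer (P := Cn F A1 A2)
        (Q := Cn F A2 A1) fun x hx => cent_le_norm (mem_cent.2 fun y hy =>
          h.el2.comm (p.symm.cn_le hy).1 (p.cn_le hx).2)).1 (e hd)
      have x' := cn_map (F.isIso_conj_of_mem_normalizer h.le1 f1.1 f1.2) hx
      have y' := cn_map (F.isIso_conj_of_mem_normalizer h.le2 f1.1 (h.norm2 f1)) hy
      refine ⟨x, hx, ci.le ⟨Subgroup.mul_mem _ hc (Subgroup.mul_mem _ x' hx), ?_⟩⟩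
      refine (Subgroup.mul_mem_cancel_right _ (Subgroup.mul_mem _ y' hy)).1 ?_
      convert e1 using 1
      rw [← conj_mul, mul_assoc (g * x * g⁻¹) (g * y * g⁻¹), ← mul_assoc (g * y * g⁻¹),
        h.el2.comm y'.1 (p.cn_le hx).2]
      group
    exact ⟨fD, b1.1.trans h.el1 inf_le_left f1.2 (cent_le_cent le_sup_left c3) fD,
      b2.1.trans h.el2 inf_le_right (h.norm2 f1) (cent_le_cent le_sup_right c3) fD, b1.2.2⟩
  obtain ⟨d, hd, e3⟩ := (key g f1 f3 f5).1 _ f5 (by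
    rw [mul_assoc g, mul_inv_cancel_right, h.el1 _ f5.1]
    exact one_mem _)
  have ff : g * d * (g * d) = 1 := by
    have nD : g ∈ 𝒩((A1 ⊓ A2 : Subgroup Ω)) := inf_normalizer_le_normalizer_inf ⟨f1.2, h.norm2 f1⟩
    rw [← mem_bot.1 e3, ← mul_assoc (g * g),
      h.el1.comm f5.1 (H6.conj_mem_of_mem_normalizer nD hd).1]
    group
  have g1 := (normalizerIn S A1).mul_mem f1 (hBT (mem_sup_left hd.1))
  have g2 := (𝒩(D1)).mul_mem f2 (c1 hd.1)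
  have g3 := (𝒩(D2)).mul_mem e2 (c2 hd.2)
  have g4 : g * d ∉ A1 ⊔ A2 := by rwa [Subgroup.mul_mem_cancel_right _ (mem_sup_left hd.1)]
  generalize g * d = f at ff g1 g2 g3 g4
  obtain ⟨-, r1, r2, r3, r4⟩ := key f g1 g4 (ff ▸ one_mem _)
  obtain ⟨y1, y11, y12, y13⟩ := d4 f g1.1 g1.2 g2
  obtain ⟨y2, y21, y22, y23⟩ := d4' f g1.1 (h.norm2 g1) g3
  obtain ⟨ψ1, m1, p1, q1⟩ := s1.ext_fix hS hF g1.1 g1.2 ff r1 y11 y12
  obtain ⟨ψ2, m2, p2, q2⟩ := s2.ext_fix hS hF g1.1 (h.norm2 g1) ff r2 y21 y22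
  have fi : f⁻¹ = f := inv_eq_of_mul_eq_one_right ff
  have nt : ∀ A : Subgroup Ω, El A → f ∈ 𝒩(A) → ¬ Triv A (A1 ⊓ A2) f → ¬ A ⊓ 𝒞[f] ≤ A1 ⊓ A2 :=
    fun A he hn h1 h2 => h1 fun a ha => by
      have m := H6.conj_mem_of_mem_normalizer hn ha
      refine h2 ⟨A.mul_mem m ha, mem_cent1.2 ?_⟩
      nth_rewrite 2 [he.comm m ha]
      rw [fi]
      calc f * a * f * a * f = f * (a * (f * a * f)) := by group
        _ = _ := rfl
  refine hm.kill hS hF (x := f) (fun e => g4 (e ▸ one_mem _)) (Z1 := A1 ⊓ 𝒞[f]) (Z2 := A2 ⊓ 𝒞[f])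
    (D := A1 ⊓ A2) (inf_le_inf_right _ h.le1) (inf_le_inf_right _ h.le2) m1 m2
    (mem_sup_right (mem_zpowers f)) (mem_sup_right (mem_zpowers f)) p1 p2 (nt A1 h.el1 g1.2 r3)
    (nt A2 h.el2 (h.norm2 g1) r4) fun a ha haD b hb hbD => ?_
  have m := h.comm a ha.1 b hb.1
  have mf : f * ⁅a, b⁆ * f⁻¹ = ⁅a, b⁆ := by
    rw [conjugate_commutatorElement, ← mem_cent1.1 ha.2, ← mem_cent1.1 hb.2, mul_inv_cancel_right,
      mul_inv_cancel_right]
  have n1 : ⁅a, b⁆ ≠ 1 := fun e => (h.nons a ha.1 b hb.1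
    (commutatorElement_eq_one_iff_mul_comm.1 e)).elim (fun e => haD ⟨ha.1, e⟩) fun e => hbD ⟨e, hb.1⟩
  rw [q1 _ m.1, q2 _ m.2]
  refine ⟨mem_sup_left m.1, mem_sup_left m.2, ⟨y11.mapsTo _ m.1, mem_cent1.2 ?_⟩,
    fun e => n1 (s1.s2 ha.1 hb.1 (y13 _ m e.2)), ⟨y21.mapsTo _ m.2, mem_cent1.2 ?_⟩,
    fun e => n1 ?_⟩
  · have := y12 _ m.1
    rw [mf] at this
    exact eq_mul_inv_iff_mul_eq.1 this
  · have := y22 _ m.2
    rw [mf] at this
    exact eq_mul_inv_iff_mul_eq.1 this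
  · rw [← commutatorElement_inv, s2.s2 hb.1 ha.1 (by
      rw [← commutatorElement_inv]
      exact Subgroup.inv_mem _ (y23 _ m.symm e.1)), inv_one]

end Cfsg.Agent.PU
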