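import Cfsg.Agent.Lib.PU.Half2

/-!
The structure of `S`.
-/

set_option autoImplicit false

namespace Cfsg.Agent.PU

open Cfsg Cfsg.FusionSystem Subgroup Cfsg.Agent.FT
open Cfsg.Agent.H6 (cj RealizedIn SylIn)
open Cfsg.Agent.H9 (U4)
open Cfsg.Agent.SP (sA sB sZ sX)
open scoped commutatorElement

variable {Ω : Type*} [Group Ω] {S : Subgroup Ω} [Finite S] {F F' : FusionSystem S}
  {A1 A2 : Subgroup Ω} {t : Ω} {φ : Ω → Ω}


theorem Pre.half (h : Pre F A1 A2) (hS : IsPGroup 2 S) (hF : F.IsSaturated 2) (hm : Min F) :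
    (∃ t φ, Str F A1 A2 t φ) ∨ (Nat.card A1 = 4 ∧ 16 ≤ Nat.card S) := by
  have p := h.toPair
  have hB : A1 ⊔ A2 ≤ S := sup_le h.le1 h.le2
  have := finite_of_le hB
  have := finite_of_le h.le1
  have hN := h.norm_eq hS hF hm
  obtain ⟨t, ht, t1, t2⟩ := h.exists_swap hS hF
  have s1 := h.sd hS hF hm
  have s2 : Sd F A2 A1 := by
    have := s1.cj ht
    rwa [t1, t2] at this
  have hc := s1.cn_inf s2 hS hF hm
  have sw : ∀ s ∈ S, s ∈ 𝒩((A1 ⊔ A2 : Subgroup Ω)) → s ∉ A1 ⊔ A2 → cj s A1 = A2 ∧ cj s A2 = A1 :=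
    fun s hs hn hs' => by
      rcases p.iso_cases (F.isIso_conj_of_mem_normalizer hB hs hn) with e | e
      · exact (hs' (hN ▸ ⟨hs, mem_normalizer_of_finite e.1.mapsTo⟩)).elim
      · exact ⟨(F.isIso_conj h.le1 hs).unique e.1, (F.isIso_conj h.le2 hs).unique e.2⟩
  have mul : ∀ s ∈ S, ∀ u ∈ S, cj s A2 = A1 → cj u A1 = A2 → s * u ∈ A1 ⊔ A2 :=
    fun s hs u hu e1 e2 => hN ▸ ⟨S.mul_mem hs hu, H6.cj_eq_self_iff.1 (by rw [← H6.cj_cj, e2, e1])⟩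
  have cn : ∀ s ∈ S, cj s A1 = A2 → cj s A2 = A1 → cj s (Cn F A1 A2) = Cn F A2 A1 :=
    fun s hs e1 e2 => by rw [cj_cn hs h.le1, e1, e2]
  have cD : Nat.card (A1 ⊓ A2 : Subgroup Ω) * (A1 ⊓ A2).relIndex A1 = Nat.card A1 := by
    rw [← relIndex_bot_left, ← relIndex_bot_left, relIndex_mul_relIndex _ _ _ bot_le inf_le_left]
  have q2 : 2 ≤ (A1 ⊓ A2).relIndex A1 := by
    have a1 : (A1 ⊓ A2).relIndex A1 ≠ 0 := fun e => by
      rw [e, mul_zero] at cD; exact Nat.card_pos.ne cD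
    have a2 : (A1 ⊓ A2).relIndex A1 ≠ 1 := fun e =>
      p.not_le ((relIndex_eq_one.1 e).trans inf_le_right)
    omega
  obtain ⟨φ, φ1, d, hd, hd'⟩ := h.mv
  have := finite_of_le (inf_le_left.trans h.le1 : A1 ⊓ A2 ≤ S)
  by_cases h4 : 4 < Nat.card A1
  swap
  · have a1 : 1 < Nat.card (A1 ⊓ A2 : Subgroup Ω) := (one_lt_card_iff_ne_bot _).2 fun e => hd' (by
      rw [mem_bot.1 (e.le hd), φ1.mor.map_one]; exact A2.one_mem)
    have a2 : Nat.card A1 = 4 := by nlinarith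
    refine .inr ⟨a2, ?_⟩
    have a3 : A1 ⊔ A2 < S := lt_of_le_of_ne hB fun e => h.ne (by
      rw [← t1, H6.cj_eq_self_iff.2 (p.norm1 (e ▸ ht))])
    obtain ⟨c, hc⟩ := card_dvd_of_le hB
    have a4 := card_lt_of_lt a3
    have a5 := p.card_sup
    have a6 : 2 ≤ c := by
      by_contra e
      have : c = 0 ∨ c = 1 := by omega
      rcases this with rfl | rfl <;> omega
    rw [hc, a5, a2]
    nlinarith
  have hNB : normalizerIn S (A1 ⊔ A2) = S := by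
    by_contra hne
    obtain ⟨s, hs, hs'⟩ := SetLike.exists_of_lt
      (lt_normalizerIn hS (lt_of_le_of_ne normalizerIn_le hne))
    obtain ⟨A, hA, he, hcard, hnle⟩ : ∃ A ≤ normalizerIn S (A1 ⊔ A2), El A ∧
        Nat.card A = Nat.card A1 ∧ ¬ A ≤ A1 ⊔ A2 := by
      have k : ∀ A ≤ A1 ⊔ A2, cj s A ≤ normalizerIn S (A1 ⊔ A2) := fun A hA =>
        (H6.cj_mono s (hA.trans (le_normalizerIn hB))).trans (H6.cj_eq_self_iff.2 hs.2).le
      by_cases e1 : cj s A1 ≤ A1 ⊔ A2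
      · by_cases e2 : cj s A2 ≤ A1 ⊔ A2
        · refine (hs' ⟨hs.1, H6.cj_eq_self_iff.1 (eq_of_le_of_card_ge ?_ (H6.card_cj _ _).ge)⟩).elim
          rw [H6.cj_sup]
          exact sup_le e1 e2
        · exact ⟨_, k _ le_sup_right, h.el2.cj s, by rw [H6.card_cj, h.card], e2⟩
      · exact ⟨_, k _ le_sup_left, h.el1.cj s, H6.card_cj _ _, e1⟩
    obtain ⟨u, hu, hu'⟩ := SetLike.not_le_iff_exists.1 hnle
    obtain ⟨u1, u2⟩ := sw u (hA hu).1 (hA hu).2 hu'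
    have fx : ∀ x ∈ A, u * x * u⁻¹ = x := fun x hx => by rw [he.comm hu hx, mul_inv_cancel_right]
    have hle : (A1 ⊔ A2) ⊓ A ≤ A1 ⊓ A2 := fun x hx => by
      rcases p.mem_of_sq hx.1 (he x hx.2) with e | e
      · exact ⟨e, by rw [← fx x hx.2, ← u1]; exact H6.conj_mem_cj e⟩
      · exact ⟨by rw [← fx x hx.2, ← u2]; exact H6.conj_mem_cj e, e⟩
    have i2 : (A1 ⊔ A2).relIndex A = 2 := relIndex_eq_two_iff.2 ⟨u, hu, fun b hb => by
      by_cases e : b ∈ A1 ⊔ A2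
      · exact .inr ⟨e, fun e' => hu' (((A1 ⊔ A2).mul_mem_cancel_left e).1 e')⟩
      · exact .inl ⟨mul b (hA hb).1 u (hA hu).1 (sw b (hA hb).1 (hA hb).2 e).2 u1, e⟩⟩
    have c1 : Nat.card ((A1 ⊔ A2) ⊓ A : Subgroup Ω) * 2 = Nat.card A := by
      rw [← i2, ← inf_relIndex_right, ← relIndex_bot_left, ← relIndex_bot_left,
        relIndex_mul_relIndex _ _ _ bot_le inf_le_right]
    have c2 := card_le_of_le hle
    have c3 : 0 < Nat.card (A1 ⊓ A2 : Subgroup Ω) := Nat.card_pos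
    have c4 : (A1 ⊓ A2).relIndex A1 = 2 := by nlinarith
    rw [c4] at cD
    have c5 := eq_of_le_of_card_ge hle (by omega)
    have c6 : Cn F A1 A2 = ⊥ := eq_bot_iff.2 fun x hx => hc ▸ ⟨hx, by
      rw [← cn u (hA hu).1 u1 u2, ← fx x (c5.ge (p.cn_le hx)).2]
      exact H6.conj_mem_cj hx⟩
    have c7 := s1.s3
    rw [c6, relIndex_bot_left, c4] at c7
    omega
  have hφ := (s1.s1 φ1).resolve_left fun e => hd' (e d hd)
  refine .inl ⟨t, φ, p, ht, t1, t2, fun s hs => or_iff_not_imp_left.2 fun e =>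
    mul s hs t ht (sw s hs (hNB.ge hs).2 e).2 t1, φ1, ⟨d, hd, hd'⟩, fun x hx e1 e2 => ?_, h4⟩
  have a1 := hφ _ ⟨t2 ▸ H6.conj_mem_cj hx.2, t1 ▸ H6.conj_mem_cj hx.1⟩ e2
  have a2 : cj t (Cn F A2 A1) = Cn F A1 A2 := by rw [cj_cn ht h.le2, t1, t2]
  rw [← a2, H6.conj_mem_cj_iff] at a1
  exact mem_bot.1 (hc ▸ ⟨hφ x hx e1, a1⟩)

end Cfsg.Agent.PU
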