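import Cfsg.Agent.Lib.PU.Defs
import Cfsg.Agent.Lib.H6.FStar2

/-!
Transport of the conclusion; recognition of the last case.
-/

set_option autoImplicit false

namespace Cfsg.Agent.PU

open Cfsg Cfsg.FusionSystem Subgroup Cfsg.Agent.FT
open Cfsg.Agent.H6 (cj RealizedIn SylIn)
open scoped commutatorElement

universe u

theorem map_layer_le {G G' : Type*} [Group G] [Group G'] (e : G ≃* G') :
    (layer G).map (e : G →* G') ≤ layer G' := by
  rw [map_le_iff_le_comap]
  refine sSup_le fun K hK => map_le_iff_le_comap.1 (le_sSup ⟨hK.1.map e.surjective, ?_⟩)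
  exact H6.qs_iff.1 ((H6.qs_iff.2 hK.2).map e.injective)

theorem map_fs_equiv {G G' : Type*} [Group G] [Group G'] (e : G ≃* G') :
    (generalizedFittingSubgroup G).map (e : G →* G') = generalizedFittingSubgroup G' := by
  rw [generalizedFittingSubgroup, generalizedFittingSubgroup, Subgroup.map_sup,
    H1.map_fittingSubgroup_equiv]
  congr 1
  refine le_antisymm (map_layer_le e) ?_
  have := map_mono (f := (e : G →* G')) (map_layer_le e.symm)
  rwa [map_map, MulEquiv.coe_monoidHom_comp_coe_monoidHom_symm, map_id] at this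

theorem Last.of_equiv {G G' : Type*} [Group G] [Group G'] (e : G ≃* G') (h : Last G) :
    Last G' := by
  obtain ⟨K, _, _, h1, h2, h3, h4⟩ := h
  have e1 : generalizedFittingSubgroup G' ≃* generalizedFittingSubgroup G :=
    ((MulEquiv.subgroupMap e _).trans (MulEquiv.subgroupCongr (map_fs_equiv e))).symm
  refine ⟨K, inferInstance, inferInstance, ?_, ?_, ?_, ?_⟩
  · rcases h1 with ⟨⟨a⟩⟩ | ⟨⟨a⟩, b⟩
    exacts [.inl ⟨e1.trans a⟩, .inr ⟨⟨e1.trans a⟩, b⟩]
  · rw [← map_fs_equiv e, ← H1.map_pResidual_equiv 2 e]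
    exact map_mono h2
  · change Odd (relIndex _ _)
    rw [← map_fs_equiv e, ← H1.map_pResidual_equiv 2 e, relIndex_map_map_of_injective _ _ e.injective]
    exact h3
  · rw [← H1.map_pResidual_equiv 2 e, index_map_equiv, h4]

theorem Cases.of_equiv {S G G' : Type*} [Group S] [Group G] [Group G'] (e : G ≃* G')
    (h : Cases S G) : Cases S G' := by
  rcases h with ⟨h, K, _, _, h1, h2⟩ | ⟨h, K, _, _, r, h1, h2, L, h3, h4, h5, ⟨a⟩⟩ |
    ⟨h, h1, ⟨a⟩⟩ | ⟨h, h1⟩ | ⟨h, K, _, _, ω, h1, h2, ⟨a⟩⟩ | h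
  · refine .inl ⟨h, K, inferInstance, inferInstance, h1, ?_⟩
    rcases h2 with ⟨⟨a⟩⟩ | ⟨⟨a⟩⟩
    exacts [.inl ⟨e.symm.trans a⟩, .inr ⟨e.symm.trans a⟩]
  · refine .inr (.inl ⟨h, K, inferInstance, inferInstance, r, h1, h2, L.map (e : G →* G'),
      h3.map _ e.surjective, by rw [index_map_equiv, h4], (eq_bot_iff_forall _).2 fun g hg => ?_,
      ⟨(MulEquiv.subgroupMap e L).symm.trans a⟩⟩)
    have : e.symm g ∈ centralizer (L : Set G) := fun l hl => e.injective (by
      simpa using hg (e l) ⟨l, hl, rfl⟩)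
    rw [h5, mem_bot] at this
    simpa using congrArg e this
  · exact .inr (.inr (.inl ⟨h, h1, ⟨e.symm.trans a⟩⟩))
  · refine .inr (.inr (.inr (.inl ⟨h, ?_⟩)))
    rcases h1 with ⟨⟨a⟩⟩ | ⟨⟨a⟩⟩
    exacts [.inl ⟨e.symm.trans a⟩, .inr ⟨e.symm.trans a⟩]
  · exact .inr (.inr (.inr (.inr (.inl ⟨h, K, inferInstance, inferInstance, ω, h1, h2,
      ⟨e.symm.trans a⟩⟩))))
  · exact .inr (.inr (.inr (.inr (.inr (h.of_equiv e)))))

theorem Concl.ulift {Ω : Type u} [Group Ω] {S : Subgroup Ω} {F : FusionSystem S} (h : Concl F) :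
    ∃ (G : Type u) (_ : Group G) (_ : Finite G) (ι : S →* G),
      F.IsRealizedBy ι ∧ (∃ T : Sylow 2 G, (T : Subgroup G) = ι.range) ∧ Cases S G := by
  obtain ⟨G, _, _, ⟨ι, h1, T, hT⟩, h2⟩ := h
  let e : G ≃* ULift.{u} G := MulEquiv.ulift.symm
  refine ⟨ULift.{u} G, inferInstance, inferInstance, e.toMonoidHom.comp ι,
    H6.isRealizedBy_comp_equiv h1 e, ⟨T.mapSurjective (f := e.toMonoidHom) e.surjective, ?_⟩,
    h2.of_equiv e⟩
  exact (Sylow.coe_mapSurjective _ _).trans (by rw [hT, MonoidHom.range_comp])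

theorem last_of {G : Type*} [Group G] [Finite G] (N H : Subgroup G) [hNn : N.Normal]
    (hs : IsSimpleGroup N) (hn : ¬ IsMulCommutative N) (hc : 𝒞(N) = ⊥) (_hNH : N ≤ H)
    (h2 : H.index = 2) (ho : Odd (N.relIndex H)) (K : Type) [Field K] [Fintype K]
    (hN : Nonempty (N ≃* Matrix.ProjectiveSpecialLinearGroup (Fin 3) K) ∨
      (Nonempty (N ≃* PSp 2 K) ∧ ∃ e : ℕ, Odd e ∧ Fintype.card K = 2 ^ e)) : Last G := by
  have hsub : ∀ M ≤ N, N ≤ 𝒩(M) → M = N ∨ M = ⊥ := fun M hM h => by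
    rcases hs.eq_bot_or_eq_top_of_normal (M.subgroupOf N)
      ((normal_subgroupOf_iff_le_normalizer hM).2 h) with e | e
    · exact .inr (by rw [← map_subgroupOf_eq_of_le hM, e, Subgroup.map_bot])
    · exact .inl (le_antisymm hM (subgroupOf_eq_top.1 e))
  have hnc : ¬ N ≤ 𝒞(N) := fun h => hn (le_centralizer_iff_isMulCommutative.1 h)
  have hperf : ⁅N, N⁆ = N := by
    refine (hsub _ (commutator_le_left N N) (le_normalizer_of_normal)).resolve_right fun e => ?_
    exact hnc (commutator_eq_bot_iff_le_centralizer.1 e)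
  have hq : H6.QS N := ⟨fun e => hnc (e ▸ bot_le), hperf, fun M hM h =>
    (hsub M hM h).imp_right fun e => e.le.trans bot_le⟩
  have hcomp : H6.Comp N ⊤ := ⟨hq, H2.SN.of_normal le_top le_normalizer_of_normal⟩
  have hF : generalizedFittingSubgroup G = N := by
    rw [← H6.fs_top, H6.fs_eq]
    refine le_antisymm (sup_le (H6.lay_le fun L hL => ?_) ?_) (hcomp.le_lay.trans le_sup_left)
    · rcases hL.eq_or_cent hcomp with e | e
      · exact e.le
      · exact (e.trans hc.le).trans bot_le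
    · exact ((H6.cent_symm (hcomp.le_lay.trans (H6.lay_le_cent_fit ⊤))).trans hc.le).trans bot_le
  have hNR : N ≤ pResidual 2 G :=
    H6.le_of_perfect (p := 2) hperf fun y _ h => H1.mem_pResidual_of_coprime h
  have hR : pResidual 2 G = H := by
    have := normal_of_index_eq_two h2
    have hle : pResidual 2 G ≤ H := H1.pResidual_le H (IsPGroup.of_card (n := 1) h2)
    refine le_antisymm hle (relIndex_eq_one.1 ?_)
    obtain ⟨k, hk⟩ := H1.index_pResidual (G := G) 2
    exact Nat.eq_one_of_dvd_coprimes ((Nat.coprime_two_left.2 ho).pow_left k)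
      (hk ▸ relIndex_dvd_index_of_normal _ _) (relIndex_dvd_of_le_left _ hNR)
  refine ⟨K, inferInstance, inferInstance, ?_, ?_, ?_, ?_⟩
  · rw [hF]; exact hN
  · rw [hF]; exact hNR
  · rw [hF, hR]; exact ho
  · rw [hR, h2]

theorem Par.odd_exp {K : Type*} [Field K] [Fintype K] [CharP K 2] {σ : K ≃+* K}
    {Y : Subgroup (Tor K)} (h : Par true σ Y) : ∃ e : ℕ, Odd e ∧ Fintype.card K = 2 ^ e := by
  classical
  obtain ⟨n, -, hn⟩ := FiniteField.card K 2
  refine ⟨n, Nat.not_even_iff_odd.1 fun ⟨m, hm⟩ => ?_, hn⟩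
  have h3 : 3 ∣ Fintype.card Kˣ := by
    rw [Fintype.card_units, hn, hm, ← two_mul, pow_mul]
    simpa using Nat.sub_dvd_pow_sub_pow 4 1 m
  have : Fact (Nat.Prime 3) := ⟨by norm_num⟩
  obtain ⟨a, ha⟩ := exists_prime_orderOf_dvd_card 3 h3
  have h1 : (a : K) ^ 3 = 1 := by rw [← Units.val_pow_eq_pow_val, ← ha, pow_orderOf_eq_one, Units.val_one]
  have h0 : (a : K) ≠ 1 := fun e => by
    rw [show a = 1 from Units.ext e, orderOf_one] at ha; omega
  have h4 : (σ a - 1) * (σ a - a) * (σ a - a ^ 2) = 0 := by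
    have h5 : σ a ^ 3 = 1 := by rw [← map_pow, h1, map_one]
    have h6 : (a : K) ^ 2 + a + 1 = 0 := mul_left_cancel₀ (sub_ne_zero.2 h0) (by
      linear_combination h1)
    linear_combination h5 + (a * σ a - σ a ^ 2) * h6 - h1
  have h7 : σ (σ a) = a := by
    rcases mul_eq_zero.1 h4 with e | e
    · rcases mul_eq_zero.1 e with e | e
      · exact absurd (σ.injective ((sub_eq_zero.1 e).trans (map_one σ).symm)) h0
      · rw [sub_eq_zero.1 e, sub_eq_zero.1 e]
    · rw [sub_eq_zero.1 e, map_pow, sub_eq_zero.1 e]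
      linear_combination a * h1
  have h8 := h.sq a
  rw [if_pos rfl, h7] at h8
  exact h0 (mul_left_cancel₀ a.ne_zero (by linear_combination -h8))

end Cfsg.Agent.PU
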