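import Cfsg.Agent.Lib.PU.Kill
import Cfsg.Agent.Lib.H6.Real

/-!
The case of maximal class.
-/

set_option autoImplicit false
set_option linter.style.haveILetI false

namespace Cfsg.Agent.PU

open Cfsg Cfsg.FusionSystem Subgroup Cfsg.Agent.FT
open Cfsg.Agent.H6
open Cfsg.Agent.H2 (not_two_pow_succ_dvd)
open scoped commutatorElement Matrix MatrixGroups

namespace MCx

theorem exists_tw_sq (k : ℕ) : ∃ (K : Type) (_ : Field K) (_ : Fintype K) (φ : K →+* K) (ζ : Kˣ),
    Tw K k φ ζ ∧ ∃ r, Fintype.card K = r ^ 2 := by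
  obtain ⟨p, -, hp, e⟩ := Nat.forall_exists_prime_gt_and_modEq 0 (q := 2 ^ (k + 3))
    (a := 1 + 2 ^ (k + 2)) (by positivity)
    ((Nat.coprime_two_right.2 (odd_one.add_even ((even_two).pow_of_ne_zero (by omega)))).pow_right _)
  haveI := Fact.mk hp
  obtain ⟨t, hpt⟩ : ∃ t, p = 1 + 2 ^ (k + 2) + 2 ^ (k + 3) * t := by
    refine ⟨p / 2 ^ (k + 3), ?_⟩
    have h1 := Nat.mod_add_div p (2 ^ (k + 3))
    have h2 : 1 < 2 ^ (k + 2) := Nat.one_lt_two_pow (by omega)
    rw [e, Nat.mod_eq_of_lt (by rw [pow_succ 2 (k + 2)]; omega)] at h1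
    exact h1.symm
  letI : Fintype (GaloisField p 2) := Fintype.ofFinite _
  have hc : Fintype.card (GaloisField p 2) = p ^ 2 := by
    rw [← Nat.card_eq_fintype_card, GaloisField.card p 2 two_ne_zero]
  have hc' : Fintype.card (GaloisField p 2) - 1 =
      4 * 2 ^ (k + 1) * ((2 * t + 1) * (2 * (2 ^ k * (2 * t + 1)) + 1)) := by
    rw [hc, show p ^ 2 = 4 * 2 ^ (k + 1) * ((2 * t + 1) * (2 * (2 ^ k * (2 * t + 1)) + 1)) + 1 by
      rw [hpt]; ring, add_tsub_cancel_right]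
  obtain ⟨ζ, hζ⟩ := H2.exists_orderOf_eq_of_dvd (F := GaloisField p 2) (d := 4 * 2 ^ (k + 1)) ⟨_, hc'⟩
  refine ⟨GaloisField p 2, inferInstance, inferInstance, frobenius _ p, ζ, ⟨fun x => ?_, hζ, ?_,
    _, (odd_two_mul_add_one _).mul (odd_two_mul_add_one _), hc'⟩, p, hc⟩
  · rw [frobenius_def, frobenius_def, ← pow_mul, ← pow_two, ← hc, FiniteField.pow_card]
  · have h1 := zpow_eq_neg_one (ζ := ζ) (m := 2 ^ (k + 2)) (by positivity) (by rw [hζ]; ring)
    rw [zpow_natCast] at h1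
    have h2 : ζ ^ (1 + 2 ^ (k + 2) + 2 ^ (k + 3) * t) = -ζ := by
      rw [pow_add, pow_add, pow_mul, h1, show 2 ^ (k + 3) = orderOf ζ by rw [hζ]; ring,
        pow_orderOf_eq_one]
      simp
    rw [← hpt] at h2
    rw [frobenius_def, ← Units.val_pow_eq_pow_val, h2, Units.val_neg]

variable {K : Type*} [Field K]

theorem ker_innS : (innS (K := K)).ker = Subgroup.center SL(2, K) := by
  ext g
  rw [MonoidHom.mem_ker, innS_eq_one_iff, sl2_mem_center_iff]

/-- The image of `SL₂` is `PSL₂`. -/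
noncomputable def rangeInnS : PSL(2, K) ≃* (innS (K := K)).range :=
  (QuotientGroup.quotientMulEquivOfEq ker_innS.symm).trans (QuotientGroup.quotientKerEquivRange _)

theorem conj_eq_innS_mul (g : GL (Fin 2) K) :
    ∃ (s : SL(2, K)) (a : Kˣ), MulAut.conj g = innS s * dlt a := by
  refine ⟨⟨(g * (H2.glDiag (Matrix.GeneralLinearGroup.det g, 1))⁻¹).1, ?_⟩,
    Matrix.GeneralLinearGroup.det g, ?_⟩
  · rw [← Matrix.GeneralLinearGroup.val_det_apply, map_mul, map_inv]
    have : Matrix.GeneralLinearGroup.det (H2.glDiag (Matrix.GeneralLinearGroup.det g, 1)) =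
        Matrix.GeneralLinearGroup.det g := by
      ext
      rw [Matrix.GeneralLinearGroup.val_det_apply, H2.coe_glDiag, Matrix.det_fin_two_of]
      simp
    rw [this, mul_inv_cancel, Units.val_one]
  · trans MulAut.conj (g * (H2.glDiag (Matrix.GeneralLinearGroup.det g, 1))⁻¹) *
      MulAut.conj (H2.glDiag (Matrix.GeneralLinearGroup.det g, 1))
    · rw [← map_mul, inv_mul_cancel_right]
    · exact congrArg₂ (· * ·) (congrArg MulAut.conj (Units.ext rfl)) rfl

variable [Fintype K] {k : ℕ} {φ : K →+* K} {ζ : Kˣ}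

theorem center_range (h : Tw K k φ ζ) {g : MulAut (GL (Fin 2) K)} (hg : g ∈ (innS (K := K)).range)
    (hc : ∀ n ∈ (innS (K := K)).range, n * g = g * n) : g = 1 := by
  have hp : Group.IsPerfect SL(2, K) := ⟨Matrix.SL2.commutator_eq_top
    (a := (ζ : K)) ζ.ne_zero fun e => by
      have h1 : ζ ^ 2 = 1 := Units.ext (by simpa using e)
      have h2 := Nat.le_of_dvd two_pos (orderOf_dvd_of_pow_eq_one h1)
      rw [h.ord] at h2
      have : 0 < 2 ^ (k + 1) := by positivity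
      omega⟩
  have h1 : (rangeInnS (K := K)).symm ⟨g, hg⟩ ∈ Subgroup.center PSL(2, K) := by
    refine Subgroup.mem_center_iff.2 fun a => (rangeInnS (K := K)).injective ?_
    rw [map_mul, map_mul, MulEquiv.apply_symm_apply]
    exact Subtype.ext (hc _ (rangeInnS a).2)
  rw [Group.IsPerfect.center_quotient_center_eq_bot, Subgroup.mem_bot] at h1
  have := congrArg (rangeInnS (K := K)) h1
  rw [MulEquiv.apply_symm_apply, map_one] at this
  exact congrArg Subtype.val this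

theorem dlt_mem (h : Tw K k φ ζ) (a : Kˣ) :
    dlt a ∈ (innS (K := K)).range ⊔ zpowers (dlt ζ) := by
  obtain ⟨u, ⟨t, rfl⟩, e⟩ := h.card
  have h1 : (a ^ (2 * t + 1)) ^ (4 * 2 ^ (k + 1)) = 1 := by
    classical
    rw [← pow_mul, mul_comm, ← e, ← Fintype.card_units, pow_card_eq_one]
  have h2 : IsPrimitiveRoot ζ (4 * 2 ^ (k + 1)) := h.ord ▸ IsPrimitiveRoot.orderOf ζ
  haveI : NeZero (4 * 2 ^ (k + 1)) := ⟨by positivity⟩
  obtain ⟨i, -, hi⟩ := h2.eq_pow_of_mem_rootsOfUnity ((mem_rootsOfUnity _ _).2 h1)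
  have h3 : a = (a ^ t * a ^ t)⁻¹ * ζ ^ i := by rw [hi]; group
  rw [h3, map_mul, map_inv, ← innS_dS, map_pow dlt]
  exact mul_mem (mem_sup_left (inv_mem ⟨_, rfl⟩)) (mem_sup_right (pow_mem (mem_zpowers _) _))

/-- One active class over a dihedral group, in `PGL₂`. -/
theorem model_pgl (h : Tw K k φ ζ) : Model (2 ^ (k + 1)) 0 0 True False
    (MulAut.conj : GL (Fin 2) K →* MulAut (GL (Fin 2) K)).range := by
  set N := (innS (K := K)).range with hN
  have hH : (MulAut.conj : GL (Fin 2) K →* MulAut (GL (Fin 2) K)).range = N ⊔ zpowers (dlt ζ) := by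
    refine le_antisymm ?_ (sup_le ?_ (Subgroup.zpowers_le.2 ⟨_, rfl⟩))
    · rintro _ ⟨g, rfl⟩
      obtain ⟨s, a, e⟩ := conj_eq_innS_mul g
      rw [e]
      exact mul_mem (mem_sup_left ⟨_, rfl⟩) (dlt_mem h a)
    · rintro _ ⟨s, rfl⟩
      exact ⟨_, rfl⟩
  have hm : MC (zpowers (dlt ζ) ⊔ zpowers (innS wS)) (2 ^ (k + 1)) 0 0 (dlt ζ) (innS wS) := by
    refine mc_of_gens ⟨_, rfl⟩ (by rw [orderOf_injective _ dlt_injective, h.ord]) ?_ ?_ (by simp) rfl
    · rw [← map_mul, wS_mul_self, innS_eq_one_iff.2 (Or.inr rfl)]; simp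
    · rw [innS_wS_conj]; simp
  have hXN : dlt ζ ∈ normalizer (N : Set (MulAut (GL (Fin 2) K))) := conj_mem_normalizer_innS _
  have hi : ζ ^ ((2 ^ (k + 1) : ℕ) : ℤ) * ζ ^ ((2 ^ (k + 1) : ℕ) : ℤ) = -1 := by
    rw [← zpow_add, ← two_mul, h.half]
  have hXXN : dlt ζ * dlt ζ ∈ N := ⟨dS ζ, by rw [innS_dS, map_mul]⟩
  obtain ⟨u, hu, e⟩ := h.card_SL
  have hcN := card_range_innS h.two_ne
  have hYN : innS wS ∈ N := ⟨_, rfl⟩
  have hXN' : dlt ζ ∉ N := fun hx => by
    have := card_dvd_of_le (hm.le_of_mem hx hYN)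
    rw [hm.card] at this
    refine not_two_pow_succ_dvd hu e ?_
    rw [hcN, show 2 ^ (k + 4 + 1) = 2 * (8 * 2 ^ (k + 1)) by ring]
    exact Nat.mul_dvd_mul_left _ this
  obtain ⟨w, hw, -⟩ := h.exists_om
  rw [hH]
  refine ⟨_, _, _, sylIn_of_card (hm.le_of_mem (mem_sup_right (mem_zpowers _))
    (mem_sup_left hYN)) (k := k + 4) (by rw [hm.card]; ring) ?_, hm,
    iff_true_intro ⟨2 * (2 ^ (k + 1) : ℕ), innS w, mem_sup_left ⟨_, rfl⟩, ?_⟩,
    iff_false_intro (hm.not_gact (N := N) (sup_le le_normalizer (Subgroup.zpowers_le.2 hXN)) ?_ ?_)⟩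
  · rw [card_sup_zpowers_eq hXN hXXN hXN', ← hcN]
    exact not_two_pow_succ_dvd hu e
  · rw [zpow_zero, one_mul, ← map_inv, ← map_mul, ← map_mul, hw, ← map_zpow, innS_dS, hi,
      ← map_zpow, h.half]
  · rw [zpow_natCast, pow_succ', pow_mul, pow_two]
    exact pow_mem hXXN _
  · rw [zpow_one]
    exact fun hx => hXN' (by simpa using mul_mem hx (inv_mem hYN))

omit [Fintype K] in
theorem range_conj_equiv : Nonempty ((MulAut.conj : GL (Fin 2) K →* MulAut (GL (Fin 2) K)).range ≃*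
    GL (Fin 2) K ⧸ Subgroup.center (GL (Fin 2) K)) :=
  ⟨(QuotientGroup.quotientKerEquivRange _).symm.trans (QuotientGroup.quotientMulEquivOfEq (by
    ext g; rw [MonoidHom.mem_ker, H6.conj_eq_one_iff]))⟩

/-- The twisted extension of `PSL₂`. -/
theorem model_sd (h : Tw K k φ ζ) :
    ∃ H : Subgroup (MulAut (GL (Fin 2) K)), Model (2 ^ (k + 1)) 1 0 True False H ∧
      ∃ L : Subgroup H, L.Normal ∧ L.index = 2 ∧ Subgroup.centralizer (L : Set H) = ⊥ ∧
        Nonempty (L ≃* PSL(2, K)) := by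
  set X := dlt ζ * h.frob with hX
  set N := (innS (K := K)).range with hN
  have hXX : X * X = dlt (-(ζ * ζ)) := by
    rw [hX, mul_assoc, ← mul_assoc h.frob, h.frob_dlt, h.map_ζ, mul_assoc, h.frob_mul_self, mul_one,
      ← map_mul, mul_neg]
  have hev : Even (2 ^ (k + 1)) := even_two.pow_of_ne_zero (by omega)
  have hXz : X ^ (2 * (2 ^ (k + 1) : ℕ) : ℤ) = dlt (-1) := by
    rw [zpow_mul, zpow_two, hXX, ← map_zpow, zpow_natCast, hev.neg_pow, ← h.half, zpow_mul, zpow_two,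
      zpow_natCast]
  have hne : (-1 : Kˣ) ≠ 1 := fun e => h.two_ne (by
    have := congrArg Units.val e
    simp only [Units.val_neg, Units.val_one] at this
    linear_combination -this)
  have hXz' : X ^ 2 ^ (k + 2) = dlt (-1) := by
    rw [← hXz, ← zpow_natCast]; congr 1; push_cast; ring
  have hord : orderOf X = 4 * 2 ^ (k + 1) := by
    rw [show 4 * 2 ^ (k + 1) = 2 ^ (k + 2 + 1) by ring]
    refine orderOf_eq_prime_pow (fun e => hne (dlt_injective ?_)) ?_
    · rw [← hXz', e, map_one]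
    · rw [pow_succ, pow_mul, hXz', ← map_pow]; simp
  have hm : MC (zpowers X ⊔ zpowers (innS wS)) (2 ^ (k + 1)) 1 0 X (innS wS) := by
    refine mc_of_gens ⟨_, rfl⟩ hord ?_ ?_ ⟨2 ^ k, by push_cast; ring⟩ rfl
    · rw [← map_mul, wS_mul_self, innS_eq_one_iff.2 (Or.inr rfl)]; simp
    · have e1 : innS wS * h.frob = h.frob * innS wS := by rw [h.frob_innS, map_wS]
      have e2 : h.frob⁻¹ = h.frob := inv_eq_of_mul_eq_one_right h.frob_mul_self
      rw [mul_one, zpow_sub_one, hXz, hX, mul_inv_rev, e2, ← map_inv dlt, h.frob_dlt, map_inv, h.map_ζ,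
        ← mul_assoc (dlt (-1)), ← map_mul, inv_neg, neg_mul_neg, one_mul, ← innS_wS_conj,
        mul_assoc _ _ h.frob, mul_assoc _ (_ * _), mul_assoc _ h.frob, mul_assoc (innS wS)]
      congr 2
      rw [eq_inv_mul_iff_mul_eq, ← mul_assoc, e1, mul_inv_cancel_right]
  have hXN : X ∈ normalizer (N : Set (MulAut (GL (Fin 2) K))) := by
    refine mul_mem (conj_mem_normalizer_innS _) (mem_normalizer_of_conj_mem ?_)
    rintro _ ⟨s, rfl⟩
    rw [h.frob_innS, mul_inv_cancel_right]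
    exact ⟨_, rfl⟩
  have hi : ζ ^ ((2 ^ (k + 1) : ℕ) : ℤ) * ζ ^ ((2 ^ (k + 1) : ℕ) : ℤ) = -1 := by
    rw [← zpow_add, ← two_mul, h.half]
  have hXXN : X * X ∈ N := ⟨dS (ζ ^ ((2 ^ (k + 1) : ℕ) : ℤ) * ζ), by
    rw [innS_dS, hXX, mul_mul_mul_comm, hi, neg_one_mul]⟩
  obtain ⟨u, hu, e⟩ := h.card_SL
  have hcN := card_range_innS h.two_ne
  have hYN : innS wS ∈ N := ⟨_, rfl⟩
  have hXN' : X ∉ N := fun hx => by
    have := card_dvd_of_le (hm.le_of_mem hx hYN)
    rw [hm.card] at this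
    refine not_two_pow_succ_dvd hu e ?_
    rw [hcN, show 2 ^ (k + 4 + 1) = 2 * (8 * 2 ^ (k + 1)) by ring]
    exact Nat.mul_dvd_mul_left _ this
  obtain ⟨w, hw, -⟩ := h.exists_om
  have hcard := card_sup_zpowers_eq hXN hXXN hXN'
  have hU : SylIn 2 (zpowers X ⊔ zpowers (innS wS)) (N ⊔ zpowers X) := by
    refine sylIn_of_card (hm.le_of_mem (mem_sup_right (mem_zpowers _))
      (mem_sup_left hYN)) (k := k + 4) (by rw [hm.card]; ring) ?_
    rw [hcard, ← hcN]
    exact not_two_pow_succ_dvd hu e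
  have hn : N ⊔ zpowers X ≤ normalizer (N : Set (MulAut (GL (Fin 2) K))) :=
    sup_le le_normalizer (Subgroup.zpowers_le.2 hXN)
  have hidx : (N.subgroupOf (N ⊔ zpowers X)).index = 2 := by
    have h1 := (N.subgroupOf (N ⊔ zpowers X)).card_mul_index
    rw [Nat.card_congr (subgroupOfEquivOfLe (le_sup_left : N ≤ N ⊔ zpowers X)).toEquiv, hcard,
      mul_comm] at h1
    exact Nat.eq_of_mul_eq_mul_right Nat.card_pos h1
  refine ⟨N ⊔ zpowers X, ⟨_, _, _, hU, hm,
    iff_true_intro ⟨2 * (2 ^ (k + 1) : ℕ), innS w, mem_sup_left ⟨_, rfl⟩, ?_⟩,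
    iff_false_intro (hm.not_gact (N := N) hn ?_ ?_)⟩, N.subgroupOf _,
    normal_of_index_eq_two hidx, hidx, ?_,
    ⟨(subgroupOfEquivOfLe (le_sup_left : N ≤ N ⊔ zpowers X)).trans rangeInnS.symm⟩⟩
  · rw [zpow_zero, one_mul, ← map_inv, ← map_mul, ← map_mul, hw, ← map_zpow, innS_dS, hi, hXz]
  · rw [zpow_natCast, pow_succ', pow_mul, pow_two]
    exact pow_mem hXXN _
  · rw [zpow_one]
    exact fun hx => hXN' (by simpa using mul_mem hx (inv_mem hYN))
  · refine (eq_bot_iff_forall _).2 fun g hg => ?_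
    have hc : ∀ n ∈ N, n * g.1 = g.1 * n := fun n hn =>
      congrArg Subtype.val (hg ⟨n, mem_sup_left hn⟩ hn)
    by_contra hg1
    have hgN : g ∉ N.subgroupOf (N ⊔ zpowers X) := fun hgN =>
      hg1 (Subtype.ext (center_range h hgN hc))
    have hgg : g.1 * g.1 = 1 := center_range h (mul_self_mem_of_index_two hidx g) fun n hn => by
      rw [← mul_assoc, hc n hn, mul_assoc, hc n hn, mul_assoc]
    have hall : ∀ a ∈ N ⊔ zpowers X, a * g.1 = g.1 * a := fun a ha => by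
      by_cases haN : a ∈ N
      · exact hc a haN
      · have : (⟨a, ha⟩ * g : ↥(N ⊔ zpowers X)) ∈ N.subgroupOf (N ⊔ zpowers X) :=
          (mul_mem_iff_of_index_two hidx).2 (iff_of_false haN hgN)
        have h2 := hc _ this
        change a * g.1 * g.1 = g.1 * (a * g.1) at h2
        rw [← mul_assoc] at h2
        exact mul_right_cancel h2
    have := hm.eq_z (mem_of_central hU g.2 hgg hall)
      (orderOf_eq_prime (by rw [pow_two, hgg]) fun e => hg1 (Subtype.ext e))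
      fun a ha => hall a (hU.le ha)
    refine hgN ?_
    rw [mem_subgroupOf, this, zpow_mul, zpow_two]
    exact Subgroup.zpow_mem _ hXXN _

variable {Ω : Type*} [Group Ω] {S : Subgroup Ω} {F : FusionSystem S} {x y : Ω}

theorem act_zero {m : ℕ} (h : MC S m 1 0 x y) (hF : F.IsSaturated 2) (hO : F.core = ⊥) :
    Act F x y 0 := by
  haveI := h.finite
  by_contra hn
  refine h.z_ne_one (mem_bot.1 (hO ▸ F.center_le_core ((hF.mem_center_iff h.isPGroup).2
    ⟨h.zpow_mem _, fun g hg => ?_⟩)))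
  have ho : orderOf g = 2 := (isConjElt_orderOf hg).trans h.orderOf_z
  obtain ⟨i, rfl | rfl⟩ := (h.mem_iff g).1 hg.mem_right
  · exact h.inner_eq_z (zpow_mem_zpowers _ _) ho
  · rcases Int.even_or_odd i with ⟨j, hj⟩ | hj
    · exact absurd (h.act_congr ⟨j, by linarith⟩ ⟨_, hg.symm⟩) hn
    · rw [h.orderOf_outer_odd (by simpa using hj)] at ho
      omega

theorem not_act_one (h : MC S (2 ^ (k + 2)) 1 0 x y) (hF : F.IsSaturated 2) (hm : Min F) :
    ¬ Act F x y 1 := by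
  haveI := h.finite
  intro a1
  set m : ℕ := 2 ^ (k + 2) with hm4
  have hb : (2 : ℤ) ∣ (m : ℤ) * 0 := by simp
  obtain ⟨f, h1, h2, h3⟩ := (h.hasOdd_of_act hb hF a1).exists_oddAut
  obtain ⟨j, hj, e⟩ := h.oddAut_cases (h.P_le 1) h2 h3
  have hodd : Odd (1 * j + 0) := by
    obtain ⟨t, ht⟩ := h.two_dvd_of_mem_P hb (hj ▸ MC.outer_mem_P m 1 0 x y j)
    exact ⟨t, by linarith⟩
  rw [mcD_odd hodd] at e
  have hc : x ^ (m : ℤ) ∈ mcP m 1 0 x y 1 := by
    have := MC.inner_mem_P m 1 0 x y 1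
    rwa [mcD_odd (by decide)] at this
  have hcc : x ^ (m : ℤ) * x ^ (m : ℤ) = x ^ (2 * m : ℤ) := by rw [← zpow_add, two_mul]
  have hz : f (x ^ (2 * m : ℤ)) = x ^ (2 * m : ℤ) := by
    rw [← hcc, h1.mor.map_mul hc hc, e, h.outer_odd_sq hodd, hcc]
  have hUP : zpowers (x ^ (2 * m : ℤ)) ≤ mcP m 1 0 x y 1 :=
    Subgroup.zpowers_le.2 (hcc ▸ mul_mem hc hc)
  have hUS : zpowers (x ^ (2 * m : ℤ)) ≤ S := Subgroup.zpowers_le.2 (h.zpow_mem _)
  obtain ⟨n, c, c0, cn, -, cc, cs⟩ := hm.chain h.isPGroup hF (U := zpowers (x ^ (2 * m : ℤ)))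
    (zpowers_ne_bot.2 h.z_ne_one)
    (F.isFullyNormalized_of_le_normalizer hUS (h.le_normalizer_zpowers _))
  have key : ∀ i, x ^ (m : ℤ) ∉ c i := by
    intro i
    induction i with
    | zero =>
      rw [c0, mem_bot]
      intro e
      have := h.orderOf_c
      rw [e, orderOf_one] at this
      omega
    | succ i ih =>
      intro hx
      have h4 : x ^ j * y ∈ c (i + 1) := e ▸ cs (i + 1) _ f h1.mor hUP
        ((F.isIso_id hUS).congr fun g hg => (fix_zpowers h1.mor.isHomOn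
          (hUP (mem_zpowers _)) hz g hg).symm) _ hc hx
      have h5 : x ^ (1 : ℤ) * (x ^ j * y) * (x ^ (1 : ℤ))⁻¹ ∈ c (i + 1) :=
        cs (i + 1) S (fun g => x ^ (1 : ℤ) * g * (x ^ (1 : ℤ))⁻¹) (F.isMor_conj le_rfl (h.zpow_mem 1))
          hUS ((F.isIso_id hUS).congr fun g hg => by
            obtain ⟨l, rfl⟩ := mem_zpowers_iff.1 hg
            simp only [id]; group) _ (h.outer_mem j) h4
      rw [h.conj_outer] at h5
      have h6 := mul_mem (mul_mem h5 (inv_mem h4)) (mul_mem hx hx)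
      rw [h.outer_mul_inv, hcc, ← zpow_add,
        show j + (2 - 2 * (m : ℤ) * 1) * 1 - j + 2 * m = 2 by ring] at h6
      have h7 := cc i (commutator_mem_commutator h6 h4)
      rw [commutatorElement_def, mul_assoc, mul_assoc, ← zpow_neg, ← mul_assoc (x ^ j * y),
        h.outer_conj, ← zpow_add, h.zpow_eq (j := 4) (-1) (by ring)] at h7
      refine ih ?_
      rw [show (m : ℤ) = 4 * 2 ^ k by rw [hm4]; push_cast; ring, zpow_mul]
      exact Subgroup.zpow_mem _ h7 _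
  exact key n (cn ▸ ⟨h.zpow_mem _, h.le_normalizer_zpowers _ (h.zpow_mem _)⟩)

end MCx

open MCx

variable {Ω : Type*} [Group Ω] {S : Subgroup Ω} [Finite S] {F : FusionSystem S}

theorem concl_of_four (hS : IsPGroup 2 S) (hF : F.IsSaturated 2) (hO : F.core = ⊥) (hm : Min F)
    {V : Subgroup Ω} (hV : V ≤ S) (he : El V) (h4 : Nat.card V = 4)
    (hc : centralizerIn S V ≤ V) (h16 : 16 ≤ Nat.card S) : Concl F := by
  rcases dihedral_or_quasiDihedral hS (U := V.subgroupOf S) (isKleinFour_iff.2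
    ⟨by rw [Nat.card_congr (subgroupOfEquivOfLe hV).toEquiv, h4],
      fun g hg => Subtype.ext (he _ hg)⟩) (fun g hg => hc ⟨g.2, fun v hv =>
        congrArg Subtype.val (hg ⟨v, hV hv⟩ hv)⟩) with ⟨m, x, t, hm2, h⟩ | h
  · obtain ⟨e⟩ := h.nonempty_equiv (by omega)
    have hcard := h.card
    rw [card_top] at hcard
    obtain ⟨k, x, y, hk, h⟩ := exists_mc_of_dihedral hS (by omega) (topEquiv.symm.trans e)
    have hd : ∃ m : ℕ, 8 ≤ m ∧ Nonempty (S ≃* DihedralGroup m) :=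
      ⟨m, by omega, ⟨topEquiv.symm.trans e⟩⟩
    have hb : (2 : ℤ) ∣ (2 ^ k : ℕ) * 0 := by simp
    obtain ⟨j, rfl⟩ : ∃ j, k = j + 1 := by
      rcases k with _ | k
      · omega
      · exact ⟨k, rfl⟩
    obtain ⟨K, _, _, φ, ζ, hK⟩ := exists_tw j
    have pgl : RealizedIn F (MulAut.conj : GL (Fin 2) K →* MulAut (GL (Fin 2) K)).range →
        Concl F := fun hr => ⟨_, inferInstance, inferInstance, hr, Or.inl ⟨hd, K, inferInstance,
          inferInstance, Nat.odd_iff.2 hK.odd, Or.inr range_conj_equiv⟩⟩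
    by_cases a0 : Act F x y 0 <;> by_cases a1 : Act F x y 1
    · obtain ⟨L, _, _, φ', ζ', hL⟩ := exists_tw (j + 1)
      obtain ⟨u, hu, e⟩ := hL.card_sq
      exact ⟨PSL(2, L), inferInstance, inferInstance, ((model_PSL2 hL.odd hu e).realizedIn h hb hF
        (iff_true_intro a0) (iff_true_intro a1)).of_top, Or.inl ⟨hd, L, inferInstance,
          inferInstance, Nat.odd_iff.2 hL.odd, Or.inl ⟨MulEquiv.refl _⟩⟩⟩
    · exact pgl ((model_pgl hK).realizedIn h hb hF (iff_true_intro a0) (iff_false_intro a1))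
    · have h' := h.shift
      rw [zero_add] at h'
      exact pgl ((model_pgl hK).realizedIn h' hb hF
        (iff_true_intro (h.act_shift.2 (by simpa using a1)))
        (iff_false_intro fun e => a0 (h.act_congr ⟨1, by norm_num⟩ (h.act_shift.1 e))))
    · exact absurd (le_bot_iff.1 (hO ▸ (h.isNormal_top hb hF a0 a1).le_core)) h.ne_bot
  · obtain ⟨k, x, y, h'⟩ := exists_mc_of_isQuasiDihedral h
    have hb : (2 : ℤ) ∣ (2 ^ (k + 1) : ℕ) * 0 := by simp
    have a0 := act_zero h' hF hO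
    by_cases a1 : Act F x y 1
    · rcases k with _ | k
      · exact ⟨PSL(3, ZMod 3), inferInstance, inferInstance,
          ((model_SL3 (F := ZMod 3) (by simp) odd_one (j := 0) (by simp)).realizedIn h' hb hF
          (iff_true_intro a0) (iff_true_intro a1)).of_top.psl3,
          Or.inr (Or.inr (Or.inl ⟨h, h'.card, ⟨MulEquiv.refl _⟩⟩))⟩
      · exact absurd a1 (not_act_one h' hF hm)
    · obtain ⟨K, _, _, φ, ζ, hK, r, hr⟩ := exists_tw_sq k
      obtain ⟨H, hH, hL⟩ := MCx.model_sd hK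
      refine ⟨H, inferInstance, inferInstance,
        hH.realizedIn h' hb hF (iff_true_intro a0) (iff_false_intro a1),
        Or.inr (Or.inl ⟨h, K, inferInstance, inferInstance, r, ?_, hr, hL⟩)⟩
      have := Nat.odd_iff.2 hK.odd
      rw [hr] at this
      exact (Nat.odd_pow_iff two_ne_zero).1 this

end Cfsg.Agent.PU
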