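import Cfsg.Agent.Lib.PU.Kill
import Cfsg.Agent.Lib.Lead.Model2

/-!
The maximal bad subgroup and its model.
-/

set_option autoImplicit false

namespace Cfsg.Agent.PU

open Cfsg Cfsg.FusionSystem Subgroup Cfsg.Agent.FT
open Cfsg.Agent.H6 (cj RealizedIn SylIn)
open Cfsg.Agent.H9 (U4)
open Cfsg.Agent.SP (sA sB sZ sX)
open scoped commutatorElement

universe u

section
variable {Ω : Type*} [Group Ω] {S P : Subgroup Ω} {F N : FusionSystem S}

/-- A subgroup whose normalizer system is not contained in `N`. -/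
def Bad (F N : FusionSystem S) (P : Subgroup Ω) : Prop :=
  P ≠ ⊥ ∧ P ≤ S ∧ ∃ A f, F.IsNormMor P A f ∧ ¬ N.IsMor A f

theorem isMor_of_realized {H : Type*} [Group H] {ι : S →* H} (hι : F.IsRealizedBy ι) (hP : P ≤ S)
    {f : Ω → Ω} (h : H) (h1 : ∀ x ∈ P, f x ∈ S)
    (h2 : ∀ x ∈ P, homFun ι (f x) = h * homFun ι x * h⁻¹) : F.IsMor P f := by
  obtain ⟨s, hs⟩ := exists_grpIso_of_injective hι.1
  refine hι.isMor_iff.2 ⟨hP, fun x hx y hy => hs.inj (h1 _ (P.mul_mem hx hy))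
    (S.mul_mem (h1 x hx) (h1 y hy)) ?_, h1, h, h2⟩
  rw [hs.hom.map_mul (h1 x hx) (h1 y hy), h2 _ (P.mul_mem hx hy), h2 x hx, h2 y hy,
    hs.hom.map_mul (hP hx) (hP hy)]
  group

variable [Finite S] (hS : IsPGroup 2 S) (hF : F.IsSaturated 2)
include hS hF

theorem isMor_of_big (h0 : ¬ Bad F N S) (h1 : P ≠ ⊥)
    (hmax : ∀ Q, Bad F N Q → Nat.card (normalizerIn S Q) ≤ Nat.card P) {A : Subgroup Ω}
    {f : Ω → Ω} (hc : Nat.card P ≤ Nat.card A) (hf : F.IsMor A f) [Finite P] : N.IsMor A f := by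
  refine hF.alperin_induction hS (M := N.IsMor A) (fun _ _ h => h.congr) (N.isMor_id hf.le)
    (fun f Q g a1 a2 a3 a4 a5 => IsMor.comp (by_contra fun hn => ?_) a2 a5) hf
  have := finite_of_le a4.le_left
  have c := hc.trans (a1.card_le a5)
  have hb : Bad F N Q := ⟨fun e => h1 (card_le_one_iff_eq_bot _ |>.1 (by simpa [e] using c)),
    a4.le_left, Q, g, ⟨le_normalizerIn a4.le_left, g, by simpa using a4.mor, fun _ _ => rfl, a4⟩, hn⟩
  rcases a3 with rfl | a3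
  · exact h0 hb
  · exact absurd ((hmax Q hb).trans c) (not_le.2 (card_lt_of_lt (lt_normalizerIn hS (a3.lt hF hS))))

theorem Bad.fn (hb : Bad F N P)
    (big : ∀ f, F.IsMor (normalizerIn S P) f → N.IsMor (normalizerIn S P) f)
    (hmax : ∀ Q, Bad F N Q → Nat.card (normalizerIn S Q) ≤ Nat.card (normalizerIn S P)) :
    F.IsFullyNormalized P := by
  obtain ⟨h1, h2, A, f, ⟨h3, g, g1, g2, g3⟩, h4⟩ := hb
  obtain ⟨Q, ψ, hQ, hψ, hi⟩ := hF.exists_isFullyNormalized hS h2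
  have l0 := le_normalizerIn h2
  have l := sup_le h3 l0
  obtain ⟨ψ', a1, a2, -⟩ := ((big ψ hψ).isIso_img_of_le le_rfl).exists_symm
  obtain ⟨ψ'', b1, b2, -⟩ := (hψ.isIso_img_of_le l).exists_symm
  have hg : ∀ x ∈ A ⊔ P, g x ∈ normalizerIn S P := fun x hx =>
    ⟨g1.mem hx, g3.map_mem_normalizer g1 le_sup_right hx (l hx).2⟩
  have a3 := hψ.comp' (g1.comp' b1.mor b1.mapsTo) fun x hx => hg _ (b1.mapsTo x hx)
  have e : img (A ⊔ P) ψ = img A ψ ⊔ Q := by rw [(hψ.mono l).isHomOn.img_sup, hi.img_eq]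
  refine hQ.of_card_le hi.isConj.symm (hmax Q ⟨fun e => h1 ((eq_bot_iff_forall _).2 fun x hx =>
    (hi.mor.eq_one_iff hx).1 (mem_bot.1 (e ▸ hi.mapsTo x hx))), hQ.le, img A ψ, _,
    ⟨img_le_iff.2 fun x hx => ⟨hψ.mem (h3 hx), hi.map_mem_normalizer hψ l0 (h3 hx) (h3 hx).2⟩, _,
      e ▸ a3, fun _ _ => rfl, (a3.mono (e ▸ le_sup_right)).isIso_self fun y hy => ?_⟩, fun hn => h4 ?_⟩)
  · obtain ⟨x, hx, rfl⟩ := hi.surj y hy
    rw [b2 x (mem_sup_right hx)]
    exact hi.mapsTo _ (g3.mapsTo x hx)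
  · refine (a1.mor.comp' (hn.comp' ((big ψ hψ).mono h3) fun x hx => mem_img_of_mem ψ hx)
      fun x hx => mem_img_of_mem ψ (hg _ (b1.mapsTo _ (mem_img_of_mem ψ (mem_sup_left hx))))).congr
      fun x hx => ?_
    rw [b2 x (mem_sup_left hx), a2 _ (hg x (mem_sup_left hx)), g2 x hx]

end

theorem exists_st0 {Ω : Type u} [Group Ω] {S : Subgroup Ω} [Finite S] (hS : IsPGroup 2 S)
    {F : FusionSystem S} (hF : F.IsSaturated 2) (hm : Min F) {N : FusionSystem S}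
    (hN : N.IsSaturated 2) (hle : N ≤ F) (hne : N ≠ F)
    (hpar : ∀ R : Subgroup Ω, R ≠ ⊥ → R ≤ S → S ≤ Subgroup.normalizer (R : Set Ω) →
      (∀ P : Subgroup Ω, F.normalizerHom S P ⊆ F.normalizerHom R P) →
      ∀ P : Subgroup Ω, F.normalizerHom R P ⊆ N.Hom P) :
    ∃ (T : Subgroup Ω) (H : Type u) (_ : Group H) (_ : Finite H) (ι : T →* H) (M : Subgroup H),
      St0 F T ι M := by
  have hp : ∀ R : Subgroup Ω, R ≠ ⊥ → R ≤ S → S ≤ 𝒩(R) → (∀ f, F.IsIso S S f → ∀ c ∈ R, f c ∈ R) →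
      ¬ Bad F N R := by
    rintro R h1 h2 h3 h4 ⟨-, -, A, f, h5, h6⟩
    refine h6 (isMor_of_mem_Hom_of_eq (hpar R h1 h2 h3 (fun P φ hφ => ?_) A
      ((mem_normalizerHom_iff (φ := h5.isMor.isHomOn.toHom) fun _ _ => rfl).2 h5)) fun _ => rfl)
    obtain ⟨a1, g, a2, a3, a4⟩ := (mem_normalizerHom_iff fun x hx => (homFun_of_mem φ hx).symm).1 hφ
    exact (mem_normalizerHom_iff fun x hx => (homFun_of_mem φ hx).symm).2 ⟨le_inf
      (a1.trans normalizerIn_le) ((a1.trans normalizerIn_le).trans h3), g,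
      a2.mono (sup_le_sup_left h2 _), a3, (a4.mor.mono h2).isIso_self (h4 g a4)⟩
  obtain ⟨P, hP, hmax⟩ := Set.exists_max_image {P | Bad F N P} (fun P => Nat.card (normalizerIn S P))
    (Set.Finite.of_finite_image (f := fun B => B.subgroupOf S) (Set.toFinite _)
      fun B hB C hC e => by
      rw [← inf_eq_left.2 hB.2.1, ← inf_eq_left.2 hC.2.1]; exact subgroupOf_inj.1 e) (by
    by_contra hn
    refine hne (le_antisymm' hle (le_iff_isSubsystemOf.2 (hF.isSubsystemOf_of_essential hS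
      fun P _ f hf => by_contra fun h => hn ⟨P, fun e => h ((N.isMor_id hf.le_left).congr
        fun x hx => ?_), hf.le_left, P, f, ⟨le_normalizerIn hf.le_left, f, by simpa using hf.mor,
        fun _ _ => rfl, hf⟩, h⟩)))
    rw [mem_bot.1 (e.le hx), hf.mor.map_one, id])
  have hT : normalizerIn S P ≠ ⊥ := fun e => hP.1 (le_bot_iff.1 ((le_normalizerIn hP.2.1).trans e.le))
  have fn : ∀ Q, Bad F N Q → normalizerIn S P ≤ 𝒩(Q) →
      normalizerIn S Q = normalizerIn S P ∧ F.IsFullyNormalized Q := fun Q hQ hn => by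
    have e := (eq_of_le_of_card_ge (K := normalizerIn S Q) (le_inf normalizerIn_le hn)
      (hmax Q hQ)).symm
    exact ⟨e, hQ.fn hS hF (fun f hf => isMor_of_big hS hF (fun h => hp S h.1 le_rfl le_normalizer
      (fun f hf => hf.mapsTo) h) hT hmax (e ▸ le_rfl) hf) (e ▸ hmax)⟩
  have hPn := (fn P hP normalizerIn_le_normalizer).2
  obtain ⟨E, hE⟩ := F.exists_normalizerSystem hP.2.1
  have hEs := hE.isSaturated hF hS hPn
  have hTp : IsPGroup 2 (normalizerIn S P) := hS.to_le normalizerIn_le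
  have hsol := hm P hP.1 hPn E hE
  obtain ⟨H, _, ι, hfin, hι, ⟨U, hU⟩, hcc⟩ := Lead.exists_model hTp (H8.isConstrained_of_abSeries
    hEs hTp ((H8.isSolvableSystem_iff hEs hTp).1 hsol))
  rw [← Op_top Nat.prime_two] at hcc
  have hsyl : SylIn 2 ι.range ⊤ := hU ▸ H6.sylIn_top U
  have hO : NormalIn (Op 2 (⊤ : Subgroup H)) ⊤ := core_normal _ _
  have hOl : Op 2 ⊤ ≤ ι.range := hsyl.le_of_le_normalizer (St.Op2 _) le_top (le_top.trans hO.norm)
  obtain ⟨s, hs⟩ := hι.exists_isoVia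
  let Q := img (Op 2 ⊤) s
  have hQT : Q ≤ normalizerIn S P := hs.symm.img_le hOl
  have hQ : ∀ x, x ∈ Q ↔ x ∈ normalizerIn S P ∧ homFun ι x ∈ Op 2 ⊤ := fun x =>
    hs.symm.mem_img_iff hOl
  let c : H → Ω → Ω := fun h x => s (h * homFun ι x * h⁻¹)
  have cm : ∀ h, ∀ X ≤ normalizerIn S P, (∀ x ∈ X, h * homFun ι x * h⁻¹ ∈ ι.range) →
      F.IsMor X (c h) := fun h X h1 h2 => hE.isSubsystemOf.isMor (isMor_of_realized hι h1 h
    (fun x hx => hs.mem' _ (h2 x hx)) fun x hx => hs.right _ (h2 x hx))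
  have cO : ∀ h, ∀ x ∈ Q, h * homFun ι x * h⁻¹ ∈ Op 2 ⊤ := fun h x hx =>
    hO.conj_mem (mem_top h) ((hQ x).1 hx).2
  have cQ : ∀ h, ∀ x ∈ Q, c h x ∈ Q := fun h x hx => mem_img_of_mem s (cO h x hx)
  have cc : ∀ h k, ∀ x ∈ Q, c h (c k x) = c (h * k) x := fun h k x hx => by
    simp only [c]
    rw [hs.right _ (hOl (cO k x hx))]
    simp only [mul_assoc, mul_inv_rev]
  have c1 : ∀ x ∈ Q, c 1 x = x := fun x hx => by simp [c, hs.left x (hQT hx)]
  let M : Subgroup H :=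
    { carrier := {h | N.IsMor Q (c h)}
      one_mem' := (N.isMor_id (hQT.trans normalizerIn_le)).congr fun x hx => (c1 x hx).symm
      mul_mem' := fun {a b} ha hb => (IsMor.comp' ha hb (cQ b)).congr (cc a b)
      inv_mem' := fun {a} ha => ((IsMor.isIso_self ha (cQ a)).symm_of_left_inv fun x hx => by
        rw [cc _ _ x hx, inv_mul_cancel, c1 x hx]).mor }
  have hQn : E.IsNormal Q := hs.symm.isNormal (@groupFusionSystem_isNormal _ _ _ _ hOl hO.normal)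
  have hQc : centralizerIn (normalizerIn S P) Q ≤ Q := fun x hx => (hQ x).2 ⟨hx.1, hcc (by
    rw [← hs.symm.img_img hOl]; exact (hs.mem_centralizer_img_iff hQT hx.1).2 hx.2)⟩
  refine ⟨_, H, _, hfin, ι, M, normalizerIn_le, hT, hι.1, hsyl, fun X h1 f h h2 h3 =>
    hE.isSubsystemOf.isMor (isMor_of_realized hι h1 h h2 h3), hcc, ?_, fun e => ?_,
    solCh_of_realized hTp hEs hsol hι, fun C h1 h2 h3 h4 => ?_⟩
  · rintro _ ⟨t, rfl⟩
    refine (N.isMor_conj (hQT.trans normalizerIn_le) t.2.1).congr fun x hx => ?_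
    simp only [c]
    rw [← homFun_coe, ← hs.hom.map_conj t.2 (hQT hx), hs.left _ (mul_mem (mul_mem t.2 (hQT hx))
      (inv_mem t.2))]
  · obtain ⟨-, -, A, f, h1, h2⟩ := hP
    obtain ⟨g, g1, g2, g3⟩ := hQn.exists_ext ((isNormalizerSystem_iff.1 hE A f).2 h1)
    have g1' := hE.isSubsystemOf.isMor g1
    obtain ⟨e1, e2⟩ := fn Q ⟨fun e => hT (le_bot_iff.1 (le_trans (fun x hx => hQc ⟨hx, by
      rw [e, cent_bot]; trivial⟩) e.le)), hQT.trans normalizerIn_le, A, f, ⟨le_inf (h1.1.trans normalizerIn_le)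
      (h1.1.trans hQn.le_normalizer), g, g1', g2, hE.isSubsystemOf.isIso g3⟩, h2⟩ hQn.le_normalizer
    have e3 := (hF.isFullyCentralized hS e2).isCentric fun x hx =>
      hQc ⟨e1.le (centralizerIn_le_normalizerIn hx), hx.2⟩
    obtain ⟨-, -, -, h, e4⟩ := hι.isMor_iff.1 g3.mor
    have e5 : N.IsMor Q g := IsMor.congr (e.ge (mem_top h)) fun x hx => by
      simp only [c]; rw [← e4 x hx, hs.left _ (g3.mor.mem hx)]
    obtain ⟨g', a1, a2⟩ := (hN.isReceptive_of_centric hS (e3.of_isSubsystemOf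
      (le_iff_isSubsystemOf.1 hle))).exists_ext_of_le (e5.isIso_self g3.mapsTo)
      (le_trans (le_inf le_sup_left (h1.1.trans hQn.le_normalizer))
        (g1'.normalizerIn_le_extSub le_sup_right))
    rw [sup_comm] at a1
    obtain ⟨z, hz, a3⟩ := hF.exists_center_of_eqOn hS e3 le_sup_right (le_iff.1 hle _ _ a1) g1' a2
    exact h2 (((a1.comp' (N.isMor_conj a1.le (e3.le hz.1)) fun x hx => mul_mem (mul_mem
      (mem_sup_right hz.1) hx) (inv_mem (mem_sup_right hz.1))).mono le_sup_left).congr fun x hx =>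
      (a3 x (mem_sup_left hx)).symm.trans (g2 x hx))
  · obtain ⟨h, a1, a2⟩ := SetLike.not_le_iff_exists.1 h4
    have a3 : ∀ x ∈ C, h * homFun ι x * h⁻¹ ∈ img C (homFun ι) := fun x hx =>
      H6.conj_mem_of_mem_normalizer a1 (mem_img_of_mem _ hx)
    have a4 := cm h _ (sup_le hQT h1) (((isHomOn_conj ⊤ h).comp ((isHomOn_homFun ι).mono
      (sup_le hQT h1)) fun _ _ => trivial).mapsTo_sup (fun x hx => hOl (cO h x hx))
      fun x hx => hs.img_le h1 (a3 x hx))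
    have hb : Bad F N C := ⟨h2, h1.trans normalizerIn_le, Q, c h, ⟨le_inf (hQT.trans normalizerIn_le)
      (hQT.trans h3), _, a4, fun _ _ => rfl, (a4.mono le_sup_right).isIso_self fun x hx =>
      ((hs.mem_img_iff h1).1 (a3 x hx)).2⟩, a2⟩
    exact ⟨(fn C hb h3).1, (fn C hb h3).2, fun e => hp C h2 hb.2.1 (e.1.ge.trans h3) e.2 hb⟩

end Cfsg.Agent.PU
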