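import Cfsg.Agent.Lib.PU.Fin
import Cfsg.Agent.Lib.PU.MC
import Cfsg.Agent.Lib.PU.Step0
import Cfsg.Agent.Lib.PU.Blk2
import Cfsg.Agent.Lib.PU.Half3

/-!
Assembly.
-/

set_option autoImplicit false

namespace Cfsg.Agent.PU

open Cfsg Cfsg.FusionSystem Subgroup Cfsg.Agent.FT
open Cfsg.Agent.H6 (cj RealizedIn SylIn)
open Cfsg.Agent.H9 (U4)
open Cfsg.Agent.SP (sA sB sZ sX)
open scoped commutatorElement

universe u

theorem main {Ω : Type u} [Group Ω] {S : Subgroup Ω} [Finite S] (hS : IsPGroup 2 S)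
    {F : FusionSystem S} (hF : F.IsSaturated 2) (hO : F.core = ⊥) (hm : Min F)
    {N : FusionSystem S} (hN : N.IsSaturated 2) (hle : N ≤ F) (hne : N ≠ F)
    (hpar : ∀ R : Subgroup Ω, R ≠ ⊥ → R ≤ S → S ≤ Subgroup.normalizer (R : Set Ω) →
      (∀ P : Subgroup Ω, F.normalizerHom S P ⊆ F.normalizerHom R P) →
      ∀ P : Subgroup Ω, F.normalizerHom R P ⊆ N.Hom P) : Concl F := by
  obtain ⟨T, H, _, _, ι, M, h0⟩ := exists_st0 hS hF hm hN hle hne hpar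
  obtain ⟨Q, Z, R, γ, α, h1⟩ := h0.puf hS
  have h2 := h1.pre hS hF hm
  rcases h2.half hS hF hm with ⟨t, φ, h3⟩ | ⟨h3, h4⟩
  · exact h3.concl hS hF
  · exact concl_of_four hS hF hO hm h2.le1 h2.el1 h3 h2.cen h4

end Cfsg.Agent.PU
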