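import Cfsg.Agent.Lib.PU.Defs
import Cfsg.Agent.Lib.SP.Bas
import Cfsg.Agent.Lib.H9.SC

/-!
Essential subgroups outside `B`: the coordinate-free part.
-/

set_option autoImplicit false

namespace Cfsg.Agent.PU

open Cfsg Cfsg.FusionSystem Subgroup Cfsg.Agent.H7

variable {Ω : Type*} [Group Ω] {S B D R E : Subgroup Ω} {t : Ω}

/-- The commutator in the form used by the chain lemmas. -/
abbrev kk (a x : Ω) : Ω := x⁻¹ * (a * x * a⁻¹)

theorem kk_eq_one {a x : Ω} : kk a x = 1 ↔ a * x = x * a := by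
  rw [inv_mul_eq_one, eq_mul_inv_iff_mul_eq, eq_comm]

/-- The fixed points of `t` in `D`. -/
def Z0 (D : Subgroup Ω) (t : Ω) : Subgroup Ω := D ⊓ centralizer {t}

theorem mem_Z0 {z : Ω} : z ∈ Z0 D t ↔ z ∈ D ∧ z * t = t * z := by
  rw [Z0, mem_inf, mem_centralizer_singleton_iff]

theorem Z0_le : Z0 D t ≤ D := inf_le_left

/-- At most one nontrivial element. -/
def Small (Z : Subgroup Ω) : Prop := ∀ a ∈ Z, ∀ b ∈ Z, a ≠ 1 → b ≠ 1 → a = b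

/-- The coordinate-free description of `S`. -/
structure Ab (S B D R : Subgroup Ω) (t : Ω) : Prop where
  BS : B ≤ S
  tS : t ∈ S
  mem : ∀ s ∈ S, s ∈ B ∨ ∃ b ∈ B, s = b * t
  nt : t ∉ B
  tt : t * t = 1
  tB : ∀ b ∈ B, t⁻¹ * b * t ∈ B
  tD : ∀ d ∈ D, t⁻¹ * d * t ∈ D
  DR : D ≤ R
  RB : R ≤ B
  cen : ∀ d ∈ D, ∀ b ∈ B, b * d = d * b
  el : ∀ d ∈ D, d * d = 1
  comm : ∀ a ∈ B, ∀ b ∈ B, kk a b ∈ D
  sq : ∀ b ∈ B, b * b ∈ D
  memR : ∀ b ∈ B, b ∈ R ↔ kk b t ∈ D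
  tR : ∀ b ∈ B, kk b t ∈ R
  inv : ∀ r ∈ R, r * r = 1 → r ∈ D
  ex : ∃ r ∈ R, r ∉ D

/-- `t` inverts `R`. -/
structure CaseI (D R : Subgroup Ω) (t : Ω) : Prop where
  fix : ∀ d ∈ D, d * t = t * d
  inv : ∀ r ∈ R, r * t * (r * t) = 1
  sq : ∀ d ∈ D, ∃ r ∈ R, r * r = d
  two : ¬ Small D

/-- `t` acts freely on `D`. -/
structure CaseII (D : Subgroup Ω) (t : Ω) : Prop where
  surj : ∀ z ∈ Z0 D t, ∃ d ∈ D, kk d t = z
  mv : ∃ d ∈ D, d * t ≠ t * d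

namespace Ab

theorem t_inv (h : Ab S B D R t) : t⁻¹ = t := inv_eq_of_mul_eq_one_right h.tt

theorem DB (h : Ab S B D R t) : D ≤ B := h.DR.trans h.RB

theorem out (h : Ab S B D R t) {s : Ω} (hs : s ∈ S) (hB : s ∉ B) : ∃ b ∈ B, s = b * t :=
  (h.mem s hs).resolve_left hB

theorem not_mem (h : Ab S B D R t) {b : Ω} (hb : b ∈ B) : b * t ∉ B := fun h1 =>
  h.nt ((B.mul_mem_cancel_left hb).1 h1)

theorem mul_out (h : Ab S B D R t) {s s' : Ω} (hs : s ∈ S) (hB : s ∉ B) (hs' : s' ∈ S)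
    (hB' : s' ∉ B) : s * s' ∈ B := by
  obtain ⟨b, hb, rfl⟩ := h.out hs hB
  obtain ⟨b', hb', rfl⟩ := h.out hs' hB'
  have := B.mul_mem hb (h.tB b' hb')
  rwa [h.t_inv, ← mul_assoc, ← mul_assoc, mul_assoc _ b'] at this

theorem sq_mem (h : Ab S B D R t) {s : Ω} (hs : s ∈ S) : s * s ∈ B := by
  by_cases hB : s ∈ B
  exacts [B.mul_mem hB hB, h.mul_out hs hB hs hB]

theorem kk_mul (a b t : Ω) : kk a (b * t) = t⁻¹ * kk a b * t * kk a t := by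
  unfold kk; group

theorem kk_D (h : Ab S B D R t) {d b : Ω} (hd : d ∈ D) (hb : b ∈ B) : kk d b = 1 :=
  kk_eq_one.2 (h.cen d hd b hb).symm

theorem kk_D_out (h : Ab S B D R t) {d s : Ω} (hd : d ∈ D) (hs : s ∈ S) (hB : s ∉ B) :
    kk d s = kk d t := by
  obtain ⟨b, hb, rfl⟩ := h.out hs hB
  rw [kk_mul, h.kk_D hd hb, mul_one, inv_mul_cancel, one_mul]

theorem Z0_cen (h : Ab S B D R t) {z s : Ω} (hz : z ∈ Z0 D t) (hs : s ∈ S) : s * z = z * s := by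
  by_cases hB : s ∈ B
  · exact h.cen z hz.1 s hB
  · rw [eq_comm, ← kk_eq_one, h.kk_D_out hz.1 hs hB, kk_eq_one, (mem_Z0.1 hz).2]

theorem memR' (h : Ab S B D R t) {a s : Ω} (ha : a ∈ B) (hs : s ∈ S) (hB : s ∉ B) :
    a ∈ R ↔ kk a s ∈ D := by
  obtain ⟨b, hb, rfl⟩ := h.out hs hB
  rw [kk_mul, D.mul_mem_cancel_left (h.tD _ (h.comm a ha b hb)), h.memR a ha]

theorem kk_B (h : Ab S B D R t) {a s : Ω} (ha : a ∈ B) (hs : s ∈ S) : kk a s ∈ R := by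
  rcases h.mem s hs with hB | ⟨b, hb, rfl⟩
  · exact h.DR (h.comm a ha s hB)
  · rw [kk_mul]
    exact R.mul_mem (h.DR (h.tD _ (h.comm a ha b hb))) (h.tR a ha)

theorem kk_R (h : Ab S B D R t) {a s : Ω} (ha : a ∈ R) (hs : s ∈ S) : kk a s ∈ D := by
  by_cases hB : s ∈ B
  exacts [h.comm a (h.RB ha) s hB, (h.memR' (h.RB ha) hs hB).1 ha]

theorem kk_t (h : Ab S B D R t) {r : Ω} (hr : r ∈ R) : kk r t ∈ Z0 D t := by
  have h1 := h.kk_R hr h.tS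
  refine mem_Z0.2 ⟨h1, ?_⟩
  have h2 : (kk r t)⁻¹ = kk r t := inv_eq_of_mul_eq_one_right (h.el _ h1)
  calc kk r t * t = (kk r t)⁻¹ * t := by rw [h2]
    _ = r * t⁻¹ * r⁻¹ * (t * t) := by unfold kk; group
    _ = t * (t⁻¹ * (r * t⁻¹ * r⁻¹)) := by rw [h.tt]; group
    _ = t * kk r t := by rw [kk, h.t_inv]

theorem conj_t (r t : Ω) : t⁻¹ * r * t = kk r t * r := by unfold kk; group

theorem mem_Z0' {z : Ω} (hz : z ∈ D) (e : t⁻¹ * z * t = z) : z ∈ Z0 D t :=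
  mem_Z0.2 ⟨hz, by rw [← inv_mul_eq_iff_eq_mul, ← mul_assoc, e]⟩

theorem sq_R (h : Ab S B D R t) {r : Ω} (hr : r ∈ R) : r * r ∈ Z0 D t := by
  refine mem_Z0' (h.sq r (h.RB hr)) ?_
  have h1 := h.kk_R hr h.tS
  calc t⁻¹ * (r * r) * t = t⁻¹ * r * t * (t⁻¹ * r * t) := by group
    _ = kk r t * (r * kk r t) * r := by rw [conj_t]; simp only [mul_assoc]
    _ = r * r := by rw [h.cen _ h1 r (h.RB hr), ← mul_assoc, h.el _ h1, one_mul]

theorem kk_RR (h : Ab S B D R t) {a b : Ω} (ha : a ∈ R) (hb : b ∈ R) : kk a b ∈ Z0 D t := by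
  refine mem_Z0' (h.comm a (h.RB ha) b (h.RB hb)) ?_
  have h1 := h.kk_R ha h.tS
  have h2 := h.kk_R hb h.tS
  have e : t⁻¹ * kk a b * t = kk (t⁻¹ * a * t) (t⁻¹ * b * t) := by unfold kk; group
  rw [e, conj_t, conj_t]
  generalize kk a t = d at h1
  generalize kk b t = d' at h2
  have c1 := h.cen d h1 _ (B.mul_mem (B.mul_mem (h.RB ha) (B.mul_mem (h.DB h2) (h.RB hb)))
    (B.inv_mem (h.RB ha)))
  have c2 := h.cen d' h2 a (h.RB ha)
  calc kk (d * a) (d' * b) = (d' * b)⁻¹ * (d * (a * (d' * b) * a⁻¹) * d⁻¹) := by unfold kk; group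
    _ = (d' * b)⁻¹ * (a * d' * b * a⁻¹) := by rw [← c1]; group
    _ = kk a b := by rw [c2]; unfold kk; group

theorem kk_Rt (h : Ab S B D R t) {a b : Ω} (ha : a ∈ R) (hb : b ∈ R) :
    kk a (b * t) ∈ Z0 D t := by
  have h1 := h.kk_RR ha hb
  rw [kk_mul, mul_assoc t⁻¹, (mem_Z0.1 h1).2, inv_mul_cancel_left]
  exact mul_mem h1 (h.kk_t ha)

theorem kk_D_mem (h : Ab S B D R t) {d s : Ω} (hd : d ∈ D) (hs : s ∈ S) : kk d s ∈ Z0 D t := by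
  by_cases hB : s ∈ B
  · rw [h.kk_D hd hB]; exact one_mem _
  · rw [h.kk_D_out hd hs hB]; exact h.kk_t (h.DR hd)

theorem of_sq (h : Ab S B D R t) {s : Ω} (hs : s ∈ S) (hB : s ∉ B) (h2 : s * s ∈ D) :
    ∃ r ∈ R, s = r * t := by
  obtain ⟨b, hb, rfl⟩ := h.out hs hB
  refine ⟨b, (h.memR b hb).2 ?_, rfl⟩
  have e : kk b t = b⁻¹ * (b * t⁻¹ * (b * t)) * b⁻¹ := by unfold kk; group
  rw [e, h.t_inv, h.cen _ h2 _ (B.inv_mem hb), mul_assoc _ b⁻¹, ← mul_inv_rev]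
  exact D.mul_mem h2 (D.inv_mem (h.sq b hb))

theorem mem_Q (h : Ab S B D R t) {q : Ω} : q ∈ R ⊔ zpowers t ↔ q ∈ R ∨ ∃ r ∈ R, q = r * t := by
  refine ⟨fun hq => ?_, ?_⟩
  · have hn : t ∈ normalizer (R : Set Ω) := by
      have : ∀ x ∈ R, t⁻¹ * x * t ∈ R := fun x hx => by
        rw [conj_t]; exact R.mul_mem (h.DR (h.kk_R hx h.tS)) hx
      exact mem_normalizer_of_conj (fun x hx => by simpa only [h.t_inv] using this x hx) this
    rw [sup_comm] at hq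
    obtain ⟨r, hr, _, ⟨n, rfl⟩, rfl⟩ := (mem_sup_of_le_normalizer' (zpowers_le.2 hn)).1 hq
    have h2 : ∀ k : ℤ, t ^ (2 * k) = 1 := fun k => by
      rw [zpow_mul, zpow_two, h.tt, one_zpow]
    rcases Int.even_or_odd' n with ⟨k, rfl | rfl⟩
    · exact .inl (by simpa [h2] using hr)
    · exact .inr ⟨r, hr, by simp [zpow_add, h2]⟩
  · rintro (hq | ⟨r, hr, rfl⟩)
    exacts [mem_sup_left hq, mul_mem (mem_sup_left hr) (mem_sup_right (mem_zpowers t))]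

theorem Q_le (h : Ab S B D R t) : R ⊔ zpowers t ≤ S :=
  sup_le (h.RB.trans h.BS) (zpowers_le.2 h.tS)

theorem Q_inf (h : Ab S B D R t) {q : Ω} (hq : q ∈ R ⊔ zpowers t) (hB : q ∈ B) : q ∈ R := by
  rcases h.mem_Q.1 hq with hq | ⟨r, hr, rfl⟩
  exacts [hq, (h.not_mem (h.RB hr) hB).elim]

theorem mem_Z0_of_comm (h : Ab S B D R t) {e s : Ω} (he : e ∈ B) (hs : s ∈ S) (hB : s ∉ B)
    (hc : e * s = s * e) (h2 : e * e = 1) : e ∈ Z0 D t := by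
  rw [← kk_eq_one] at hc
  have hD := h.inv e ((h.memR' he hs hB).2 (hc ▸ D.one_mem)) h2
  exact mem_Z0.2 ⟨hD, by rw [← kk_eq_one, ← h.kk_D_out hD hs hB, hc]⟩

theorem shift (h : Ab S B D R t) (hc : CaseI D R t ∨ CaseII D t) {s z : Ω} (hs : s ∈ S)
    (hB : s ∉ B) (h2 : s * s = 1) (hz : z ∈ Z0 D t) :
    ∃ a ∈ B, a * s * a⁻¹ = s * z ∧ ∀ e ∈ B, e * s = s * e → a * e = e * a := by
  rcases hc with hc | hc
  · obtain ⟨b, hb, rfl⟩ := h.of_sq hs hB (h2 ▸ D.one_mem)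
    obtain ⟨r, hr, rfl⟩ := hc.sq z hz.1
    have h1 : ∀ a ∈ R, t * a = a⁻¹ * t := fun a ha => by
      have := inv_eq_of_mul_eq_one_right (hc.inv _ (R.inv_mem ha))
      rwa [mul_inv_rev, inv_inv, h.t_inv] at this
    have h3 : ∀ a ∈ R, ∀ a' ∈ R, a * a' = a' * a := fun a ha a' ha' => by
      have := h1 _ (R.mul_mem ha ha')
      rw [← mul_assoc, h1 a ha, mul_assoc, h1 a' ha', ← mul_assoc, mul_left_inj,
        ← mul_inv_rev, inv_inj] at this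
      exact this.symm
    refine ⟨r, h.RB hr, ?_, fun e he hce => ?_⟩
    · rw [mul_assoc, mul_assoc, h1 _ (R.inv_mem hr), inv_inv, ← mul_assoc, h3 r hr b hb,
        mul_assoc b t, ← (mem_Z0.1 hz).2]
      simp only [mul_assoc]
    · exact h3 r hr e ((h.memR' he hs hB).2 ((kk_eq_one.2 hce).symm ▸ D.one_mem))
  · obtain ⟨d, hd, rfl⟩ := hc.surj z hz
    refine ⟨d, h.DB hd, ?_, fun e he _ => (h.cen d hd e he).symm⟩
    rw [← h.kk_D_out hd hs hB, mul_inv_cancel_left]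

end Ab

theorem comm_of_shift {α β : MulAut E} {z : Ω} (hz : z ∈ E)
    (hα : ∀ x ∈ E, equivFun α x = x ∨ equivFun α x = x * z)
    (hβ : ∀ x ∈ E, equivFun β x = x ∨ equivFun β x = x * z) (h1 : equivFun α z = z)
    (h2 : equivFun β z = z) : α * β = β * α :=
  mulEquiv_ext_equivFun fun x hx => by
    rw [equivFun_mul _ _ hx, equivFun_mul _ _ hx]
    have e1 := (isHomOn_equivFun α).map_mul hx hz
    have e2 := (isHomOn_equivFun β).map_mul hx hz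
    rcases hα x hx with a | a <;> rcases hβ x hx with b | b <;> simp only [a, b, e1, e2, h1, h2]

end Cfsg.Agent.PU
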