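import Cfsg.Agent.Lib.PU.OutA

/-!
Essential subgroups outside `B`: the fusion argument.
-/

set_option autoImplicit false

namespace Cfsg.Agent.PU

open Cfsg Cfsg.FusionSystem Subgroup Cfsg.Agent.H7

variable {Ω : Type*} [Group Ω] {S B D R E : Subgroup Ω} {t : Ω} [Finite S] {F : FusionSystem S}

/-- `X` is invariant under `Aut_F(E)`. -/
abbrev Invt (F : FusionSystem S) (E X : Subgroup Ω) : Prop :=
  ∀ g, F.IsIso E E g → ∀ x ∈ E, x ∈ X → g x ∈ X

theorem mem_norm_of_kk (hE : E ≤ S) {a : Ω} (h : ∀ x ∈ E, kk a x ∈ E) :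
    a ∈ normalizer (E : Set Ω) :=
  have := finite_of_le hE
  mem_normalizer_of_finite fun x hx => by simpa using E.mul_mem hx (h x hx)

namespace Ab

theorem Z0_le_E (h : Ab S B D R t) (hE : F.IsEssential 2 E) : Z0 D t ≤ E := fun _ hz =>
  SP.mem_of_comm hE (h.BS (h.DB hz.1)) fun _ hx => h.Z0_cen hz (hE.le hx)

theorem exists_tau (h : Ab S B D R t) (hc : CaseI D R t ∨ CaseII D t) (hE : F.IsEssential 2 E)
    {s z : Ω} (hs : s ∈ E) (hB : s ∉ B) (h2 : s * s = 1) (hcen : ∀ x ∈ E, x * s = s * x)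
    (hz : z ∈ Z0 D t) (h1 : z ≠ 1) :
    ∃ τ ∈ autInducedBy S E, τ ∉ Inn E ∧ (∀ x ∈ E, x ∈ B → equivFun τ x = x) ∧
      ∀ x ∈ E, x ∉ B → equivFun τ x = x * z := by
  obtain ⟨a, ha, e1, e2⟩ := h.shift hc (hE.le hs) hB h2 hz
  have k1 : ∀ x ∈ E, x ∈ B → a * x * a⁻¹ = x := fun x hx hxB => by
    rw [e2 x hxB (hcen x hx), mul_inv_cancel_right]
  have k2 : ∀ x ∈ E, x ∉ B → a * x * a⁻¹ = x * z := fun x hx hxB => by
    have := k1 _ (E.mul_mem hx hs) (h.mul_out (hE.le hx) hxB (hE.le hs) hB)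
    calc a * x * a⁻¹ = a * (x * (s * s)) * a⁻¹ := by rw [h2, mul_one]
      _ = a * (x * s) * a⁻¹ * (a * s * a⁻¹) := by group
      _ = x * z := by rw [this, e1, mul_assoc, ← mul_assoc s, h2, one_mul]
  have hn : a ∈ normalizer (E : Set Ω) :=
    have := finite_of_le hE.le
    mem_normalizer_of_finite fun x hx => by
      by_cases hxB : x ∈ B
      · rwa [k1 x hx hxB]
      · rw [k2 x hx hxB]; exact E.mul_mem hx (h.Z0_le_E hE hz)
  refine ⟨conjAut E hn, conjAut_mem_autInducedBy (h.BS ha) hn, fun hi => h1 ?_,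
    fun x hx hxB => by rw [equivFun_conjAut _ hx, k1 x hx hxB],
    fun x hx hxB => by rw [equivFun_conjAut _ hx, k2 x hx hxB]⟩
  obtain ⟨b, hb, e⟩ := mem_inn_iff.1 hi
  have := e ⟨s, hs⟩
  rw [coe_conjAut] at this
  simp only [e1, hcen b hb, mul_inv_cancel_right] at this
  exact mul_eq_left.1 this

theorem small_of_cen (h : Ab S B D R t) (hc : CaseI D R t ∨ CaseII D t) (hS : IsPGroup 2 S)
    (hF : F.IsSaturated 2) (hE : F.IsEssential 2 E) {s : Ω} (hs : s ∈ E) (hB : s ∉ B)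
    (h2 : s * s = 1) (hcen : ∀ x ∈ E, x * s = s * x) : Small (Z0 D t) := by
  by_contra hn
  obtain ⟨M, hM⟩ := H9.exists_essCtx hS hF hE
  obtain ⟨α, hα, hαM⟩ := hM.data.exists_not_mem
  have hg := isIso_of_mem_autGroup hE.le hα
  have hZ := h.Z0_le_E hE
  obtain ⟨z, hz, hz1, hzB⟩ : ∃ z ∈ Z0 D t, z ≠ 1 ∧ equivFun α z ∈ B := by
    simp only [Small, not_forall] at hn
    obtain ⟨a, ha, b, hb, h1, h3, hab⟩ := hn
    by_cases haB : equivFun α a ∈ B
    · exact ⟨a, ha, h1, haB⟩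
    by_cases hbB : equivFun α b ∈ B
    · exact ⟨b, hb, h3, hbB⟩
    refine ⟨a * b, mul_mem ha hb, fun e => hab ?_, ?_⟩
    · rw [eq_inv_of_mul_eq_one_left e, inv_eq_of_mul_eq_one_right (h.el b hb.1)]
    · rw [hg.mor.map_mul (hZ ha) (hZ hb)]
      exact h.mul_out (hg.mor.mem (hZ ha)) haB (hg.mor.mem (hZ hb)) hbB
  have hz' : equivFun α z ∈ Z0 D t :=
    h.mem_Z0_of_comm hzB (hE.le hs) hB (hcen _ (hg.mapsTo z (hZ hz)))
      (by rw [← hg.mor.map_mul (hZ hz) (hZ hz), h.el z hz.1, hg.mor.map_one])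
  obtain ⟨τ, hτ, hτI, a1, a2⟩ := h.exists_tau hc hE hs hB h2 hcen hz'
    (by rwa [Ne, hg.mor.eq_one_iff (hZ hz)])
  obtain ⟨τ', hτ', hτI', b1, b2⟩ := h.exists_tau hc hE hs hB h2 hcen hz hz1
  have hA := hM.data.sylow.le hτ'
  have e : ∀ x ∈ E, equivFun (α * τ' * α⁻¹) x = equivFun α (equivFun τ' (equivFun α⁻¹ x)) :=
    fun x hx => by rw [equivFun_mul _ _ hx, equivFun_mul _ _ (equivFun_mem _ hx)]
  have hcm : α * τ' * α⁻¹ * τ = τ * (α * τ' * α⁻¹) := by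
    refine comm_of_shift (hZ hz') (fun x hx => ?_) (fun x hx => ?_) ?_ (a1 _ (hZ hz') hzB)
    · have hy := equivFun_mem α⁻¹ hx
      rw [e x hx]
      by_cases hxB : equivFun α⁻¹ x ∈ B
      · exact .inl (by rw [b1 _ hy hxB, equivFun_apply_inv _ hx])
      · exact .inr (by rw [b2 _ hy hxB, hg.mor.map_mul hy (hZ hz), equivFun_apply_inv _ hx])
    · by_cases hxB : x ∈ B
      exacts [.inl (a1 x hx hxB), .inr (a2 x hx hxB)]
    · rw [e _ (hZ hz'), equivFun_inv_apply _ (hZ hz), b1 z (hZ hz) (h.DB hz.1)]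
  refine hαM (hM.data.mem_of_conj_mem hτ' hτI' hα (hM.data.mem_of_conj_mem hτ hτI
    (mul_mem (mul_mem hα hA) (inv_mem hα)) ?_))
  rw [hcm, mul_inv_cancel_right]
  exact hM.data.le_M hτ

theorem Z0_invt (h : Ab S B D R t) (hc : CaseI D R t ∨ CaseII D t) (hS : IsPGroup 2 S)
    (hF : F.IsSaturated 2) (hE : F.IsEssential 2 E) (hle : ¬ E ≤ B) : Invt F E (Z0 D t) := by
  intro g hg x hx hxZ
  have hy := hg.mapsTo x hx
  have h2 : g x * g x = 1 := by rw [← hg.mor.map_mul hx hx, h.el x hxZ.1, hg.mor.map_one]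
  have hcen : ∀ e ∈ E, e * g x = g x * e := fun e he => by
    obtain ⟨e, he', rfl⟩ := hg.surj e he
    rw [← hg.mor.map_mul he' hx, ← hg.mor.map_mul hx he', h.Z0_cen hxZ (hE.le he')]
  by_cases hB : g x ∈ B
  · obtain ⟨s, hs, hsB⟩ := SetLike.not_le_iff_exists.1 hle
    exact h.mem_Z0_of_comm hB (hE.le hs) hsB (hcen s hs).symm h2
  exfalso
  have hsm := h.small_of_cen hc hS hF hE hy hB h2 hcen
  rcases hc with hc | hc
  · exact hc.two fun a ha b hb => hsm a (mem_Z0.2 ⟨ha, hc.fix a ha⟩) b (mem_Z0.2 ⟨hb, hc.fix b hb⟩)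
  by_cases hn : ∀ e ∈ E, e ∈ B → e ∈ D
  · obtain ⟨r, hr, hrD⟩ := h.ex
    obtain ⟨b, hb, eb⟩ := h.of_sq (hE.le hy) hB (h2 ▸ D.one_mem)
    have hz : kk r (g x) ∈ Z0 D t := eb ▸ h.kk_Rt hr hb
    obtain ⟨d, hd, ed⟩ := hc.surj _ hz
    rw [← h.kk_D_out hd (hE.le hy) hB] at ed
    have hrd := B.mul_mem (h.RB hr) (h.DB hd)
    have c1 : g x * (r * d) = r * d * g x := by
      rw [eq_comm, ← kk_eq_one]
      calc kk (r * d) (g x) = (g x)⁻¹ * (r * g x * (kk d (g x) * r⁻¹)) := by unfold kk; group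
        _ = kk r (g x) * kk r (g x) := by
          rw [ed, ← h.Z0_cen hz (h.BS (B.inv_mem (h.RB hr)))]; simp only [kk, mul_assoc]
        _ = 1 := h.el _ hz.1
    refine hrD ((D.mul_mem_cancel_right hd).1 (hn _ (SP.mem_of_comm hE (h.BS hrd) fun e he => ?_)
      hrd))
    by_cases heB : e ∈ B
    · exact (h.cen e (hn e he heB) _ hrd).symm
    · have := h.cen _ (hn _ (E.mul_mem he hy) (h.mul_out (hE.le he) heB (hE.le hy) hB)) _ hrd
      calc e * (r * d) = e * (g x * (g x * (r * d))) := by rw [← mul_assoc (g x), h2, one_mul]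
        _ = e * g x * (r * d) * g x := by rw [c1]; simp only [mul_assoc]
        _ = r * d * e := by rw [← this, mul_assoc, mul_assoc e, h2, mul_one]
  · push Not at hn
    obtain ⟨e, he, heB, heD⟩ := hn
    have hR : e ∈ R := (h.memR' heB (hE.le hy) hB).2 ((kk_eq_one.2 (hcen e he)).symm ▸ D.one_mem)
    have : e * e = x := hsm _ (h.sq_R hR) x hxZ (fun e1 => heD (h.inv e hR e1)) fun e1 =>
      hB (by rw [e1, hg.mor.map_one]; exact B.one_mem)
    exact hB (by rw [← this, hg.mor.map_mul he he]; exact h.sq_mem (hg.mor.mem he))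

theorem fin (h : Ab S B D R t) (hS : IsPGroup 2 S) (hF : F.IsSaturated 2) (hE : F.IsEssential 2 E)
    (hle : ¬ E ≤ B) (hR : R ≤ E) (hD : Invt F E D) {X : Subgroup Ω} (hX : Invt F E X)
    (hRX : R ≤ X) (hXB : ∀ x ∈ E, x ∈ X → x ∈ B) : False := by
  have hB : B ≤ E := fun b hb => SP.mem_of_ch3 hS hE (h.DR.trans hRX) hD hX (h.BS hb)
    (mem_norm_of_kk hE.le fun x hx => hR (h.kk_B hb (hE.le hx)))
    (fun x _ hx => mul_inv_eq_iff_eq_mul.2 (h.cen x hx b hb))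
    (fun x hx hxX => h.comm b hb x (hXB x hx hxX)) fun x hx => hRX (h.kk_B hb (hE.le hx))
  obtain ⟨s, hs, hsB⟩ := SetLike.not_le_iff_exists.1 hle
  refine (hE.lt hF hS).not_ge fun x hx => ?_
  by_cases hxB : x ∈ B
  exacts [hB hxB, (E.mul_mem_cancel_right hs).1 (hB (h.mul_out hx hxB (hE.le hs) hsB))]

theorem not_invt (h : Ab S B D R t) (hc : CaseII D t) (hS : IsPGroup 2 S) (hF : F.IsSaturated 2)
    (hE : F.IsEssential 2 E) (hle : ¬ E ≤ B) (hR : R ≤ E) : ¬ Invt F E D := fun hD => by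
  refine h.fin hS hF hE hle hR hD (X := centralizer (D : Set Ω)) (fun g hg x hx hxC d hd => ?_)
    (fun r hr d hd => (h.cen d hd r (h.RB hr)).symm) fun x hx hxC => ?_
  · obtain ⟨g', hg', -, e⟩ := hg.exists_symm
    have hdE := hR (h.DR hd)
    rw [← e d hdE, ← hg.mor.map_mul (hg'.mapsTo d hdE) hx, ← hg.mor.map_mul hx (hg'.mapsTo d hdE),
      hxC _ (hD g' hg' d hdE hd)]
  · by_contra hxB
    obtain ⟨d, hd, hne⟩ := hc.mv
    exact hne (by rw [← kk_eq_one, ← h.kk_D_out hd (hE.le hx) hxB, kk_eq_one, hxC d hd])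

/-- The preimage of `Ω₁(Z(E/Z₀))`. -/
def W (h : Ab S B D R t) (hE : E ≤ S) : Subgroup Ω where
  carrier := {p | p ∈ E ∧ (∀ x ∈ E, kk x p ∈ Z0 D t) ∧ p * p ∈ Z0 D t}
  one_mem' := ⟨E.one_mem, fun x _ => by simp [kk], by simp⟩
  mul_mem' := fun {a b} ha hb => ⟨E.mul_mem ha.1 hb.1, fun x hx => by
    have : kk x (a * b) = b⁻¹ * kk x a * b * kk x b := by unfold kk; group
    rw [this, mul_assoc b⁻¹, ← h.Z0_cen (ha.2.1 x hx) (hE hb.1), inv_mul_cancel_left]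
    exact mul_mem (ha.2.1 x hx) (hb.2.1 x hx), by
    have : a * b * (a * b) = a * a * kk b a * (b * b) := by unfold kk; group
    rw [this]
    exact mul_mem (mul_mem ha.2.2 (ha.2.1 b hb.1)) hb.2.2⟩
  inv_mem' := fun {a} ha => ⟨E.inv_mem ha.1, fun x hx => by
    have : kk x a⁻¹ = a * (kk x a)⁻¹ * a⁻¹ := by unfold kk; group
    rw [this, h.Z0_cen (inv_mem (ha.2.1 x hx)) (hE ha.1), mul_inv_cancel_right]
    exact inv_mem (ha.2.1 x hx), by
    rw [← mul_inv_rev]; exact inv_mem ha.2.2⟩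

omit [Finite S] in
theorem kk_symm (a x : Ω) : kk x a = a⁻¹ * (x * (kk a x)⁻¹ * x⁻¹) * a := by unfold kk; group

omit [Finite S] in
theorem kk_symm_Z0 (h : Ab S B D R t) {a x : Ω} (ha : a ∈ S) (hx : x ∈ S)
    (hk : kk a x ∈ Z0 D t) : kk x a ∈ Z0 D t := by
  rw [kk_symm, h.Z0_cen (inv_mem hk) hx, mul_inv_cancel_right, h.Z0_cen (inv_mem hk) (inv_mem ha),
    inv_mul_cancel_right]
  exact inv_mem hk

theorem ess_out (h : Ab S B D R t) (hc : CaseI D R t ∨ CaseII D t) (hS : IsPGroup 2 S)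
    (hF : F.IsSaturated 2) (hE : F.IsEssential 2 E) (hle : ¬ E ≤ B) :
    E = R ⊔ zpowers t ∧ CaseII D t ∧ Small (Z0 D t) := by
  have hZ := h.Z0_invt hc hS hF hE hle
  have hZE := h.Z0_le_E hE
  obtain ⟨s, hs, hsB⟩ := SetLike.not_le_iff_exists.1 hle
  have hD : D ≤ E := fun d hd => SP.mem_of_ch2 hS hE hZ (h.BS (h.DB hd))
    (mem_norm_of_kk hE.le fun x hx => hZE (h.kk_D_mem hd (hE.le hx)))
    (fun x _ hx => mul_inv_eq_iff_eq_mul.2 (h.Z0_cen hx (h.BS (h.DB hd))))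
    fun x hx => h.kk_D_mem hd (hE.le hx)
  have hW : Invt F E (h.W hE.le) := fun g hg p hp hpW => ⟨hg.mapsTo p hp, fun x hx => by
    obtain ⟨x, hx', rfl⟩ := hg.surj x hx
    have := hZ g hg _ (hZE (hpW.2.1 x hx')) (hpW.2.1 x hx')
    rwa [hg.mor.map_mul (inv_mem hp) (mul_mem (mul_mem hx' hp) (inv_mem hx')),
      hg.mor.map_conj hx' hp, hg.mor.map_inv hp] at this, by
    rw [← hg.mor.map_mul hp hp]; exact hZ g hg _ (mul_mem hp hp) hpW.2.2⟩
  have hDW : D ≤ h.W hE.le := fun d hd => ⟨hD hd, fun x hx =>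
    h.kk_symm_Z0 (h.BS (h.DB hd)) (hE.le hx) (h.kk_D_mem hd (hE.le hx)),
    (h.el d hd).symm ▸ one_mem _⟩
  have hWB : ∀ p ∈ h.W hE.le, p ∈ B → p ∈ R := fun p hp hpB =>
    (h.memR' hpB (hE.le hs) hsB).2
      (h.kk_symm_Z0 (hE.le hs) (h.BS hpB) (hp.2.1 s hs)).1
  have hR : R ≤ E := fun r hr => SP.mem_of_ch3 hS hE (Z0_le.trans hDW) hZ hW (h.BS (h.RB hr))
    (mem_norm_of_kk hE.le fun x hx => hD (h.kk_R hr (hE.le hx)))
    (fun x _ hx => mul_inv_eq_iff_eq_mul.2 (h.Z0_cen hx (h.BS (h.RB hr))))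
    (fun x hx hxW => by
      by_cases hxB : x ∈ B
      · exact h.kk_RR hr (hWB x hxW hxB)
      · obtain ⟨b, hb, rfl⟩ := h.of_sq (hE.le hx) hxB hxW.2.2.1
        exact h.kk_Rt hr hb)
    fun x hx => hDW (h.kk_R hr (hE.le hx))
  have hDZ : CaseI D R t → ∀ d ∈ D, d ∈ Z0 D t := fun hc d hd => mem_Z0.2 ⟨hd, hc.fix d hd⟩
  have hQ : E = R ⊔ zpowers t := by
    by_contra hne
    have hWR : ∀ p ∈ h.W hE.le, p ∈ B := fun p hp => by
      by_contra hpB
      obtain ⟨b, hb, rfl⟩ := h.of_sq (hE.le hp.1) hpB hp.2.2.1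
      have hEB : ∀ x ∈ E, x ∈ B → x ∈ R := fun x hx hxB =>
        (h.memR' hxB (hE.le hp.1) hpB).2 (hp.2.1 x hx).1
      have ht := (E.mul_mem_cancel_left (hR hb)).1 hp.1
      refine hne (le_antisymm (fun x hx => h.mem_Q.2 ?_) (sup_le hR (zpowers_le.2 ht)))
      rcases h.mem x (hE.le hx) with hxB | ⟨c, hc, rfl⟩
      exacts [.inl (hEB x hx hxB), .inr ⟨c, hEB c ((E.mul_mem_cancel_right ht).1 hx) hc, rfl⟩]
    have hDi : Invt F E D := fun g hg d hd hdD =>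
      have := hW g hg d hd (hDW hdD)
      h.inv _ (hWB _ this (hWR _ this))
        (by rw [← hg.mor.map_mul hd hd, h.el d hdD, hg.mor.map_one])
    rcases hc with hc | hc
    · exact h.fin hS hF hE hle hR hDi hW (fun r hr => ⟨hR hr, fun x hx =>
        h.kk_symm_Z0 (h.BS (h.RB hr)) (hE.le hx) (hDZ hc _ (h.kk_R hr (hE.le hx))), h.sq_R hr⟩)
        fun x _ hx => hWR x hx
    · exact h.not_invt hc hS hF hE hle hR hDi
  rcases hc with hc | hc
  · have hDi : Invt F E D := fun g hg d hd hdD => (hZ g hg d hd (hDZ hc d hdD)).1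
    refine (h.fin hS hF hE hle hR hDi (X := R) (fun g hg r hr hrR => ?_) le_rfl
      fun x _ hx => h.RB hx).elim
    rcases h.mem_Q.1 (hQ ▸ hg.mapsTo r hr) with h1 | ⟨b, hb, e⟩
    · exact h1
    · have := hc.inv b hb
      rw [← e, ← hg.mor.map_mul hr hr, hg.mor.eq_one_iff (mul_mem hr hr)] at this
      exact h.DR (hDi g hg r hr (h.inv r hrR this))
  refine ⟨hQ, hc, ?_⟩
  have hn := h.not_invt hc hS hF hE hle hR
  simp only [Invt, not_forall] at hn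
  obtain ⟨g, hg, d, hd, hdD, hgd⟩ := hn
  have hB : g d ∉ B := fun hB => hgd (h.inv _ (h.Q_inf (hQ ▸ hg.mapsTo d hd) hB)
    (by rw [← hg.mor.map_mul hd hd, h.el d hdD, hg.mor.map_one]))
  have key : ∀ a ∈ Z0 D t, a ≠ 1 → a = g (kk d t) := fun a ha h1 => by
    obtain ⟨d1, hd1, rfl⟩ := hc.surj a ha
    obtain ⟨x, hx, e⟩ := hg.surj d1 (hD hd1)
    have e1 : kk d1 t = g (kk x d) := by
      rw [← h.kk_D_out hd1 (hg.mor.mem hd) hB, ← e,
        hg.mor.map_mul (inv_mem hd) (mul_mem (mul_mem hx hd) (inv_mem hx)),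
        hg.mor.map_conj hx hd, hg.mor.map_inv hd]
    have e2 : kk x d = kk d x := by
      have hk := h.kk_D_mem hdD (hE.le hx)
      rw [kk_symm, h.Z0_cen (inv_mem hk) (hE.le hx), mul_inv_cancel_right,
        h.Z0_cen (inv_mem hk) (inv_mem (hE.le hd)), inv_mul_cancel_right,
        inv_eq_of_mul_eq_one_right (h.el _ hk.1)]
    rw [e1, e2] at h1 ⊢
    by_cases hxB : x ∈ B
    · exact (h1 (by rw [h.kk_D hdD hxB, hg.mor.map_one])).elim
    · rw [h.kk_D_out hdD (hE.le hx) hxB]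
  exact fun a ha b hb h1 h2 => (key a ha h1).trans (key b hb h2).symm

theorem not_ess_of_sc (h : Ab S B D R t) (hS : IsPGroup 2 S) (hF : F.IsSaturated 2)
    (hsc : F.StronglyClosed B) : ¬ F.IsEssential 2 (R ⊔ zpowers t) := fun hE => by
  have hR : Invt F (R ⊔ zpowers t) R := fun g hg r hr hrR =>
    h.Q_inf (hg.mapsTo r hr) ((stronglyClosed_iff.1 hsc).2 _ g hg.mor r hr (h.RB hrR))
  exact h.fin hS hF hE (fun hle => h.nt (hle (mem_sup_right (mem_zpowers t)))) le_sup_left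
    (fun g hg d hd hdD => h.inv _ (hR g hg d hd (h.DR hdD))
      (by rw [← hg.mor.map_mul hd hd, h.el d hdD, hg.mor.map_one])) hR le_rfl
    fun x _ hx => h.RB hx

end Ab

end Cfsg.Agent.PU
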