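import Cfsg.Agent.Lib.PU.FrBas
import Cfsg.Agent.Lib.SP.Bas

/-!
Essential subgroups inside `B`.
-/

set_option autoImplicit false

namespace Cfsg.Agent.PU

open Cfsg Cfsg.FusionSystem Subgroup Cfsg.Agent.FT
open Cfsg.Agent.H6 (cj RealizedIn SylIn)
open Cfsg.Agent.H9 (U4)
open Cfsg.Agent.SP (sA sB sZ sX)
open scoped commutatorElement

variable {Ω : Type*} [Group Ω] {S : Subgroup Ω} [Finite S] {F F' : FusionSystem S}
  {K : Type*} [Field K] [Fintype K] [CharP K 2] {sp : Bool} {σ : K ≃+* K}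
  {Y : Subgroup (Tor K)} {w : U4 K →* Ω} {t : Ω}

section
omit [Finite S] [Fintype K]

theorem Ker.mem_map_iff (h : Ker sp w) {P : Subgroup (U4 K)}
    (hP : ∀ u v : U4 K, u.z = v.z → u.i = v.i → u ∈ P → v ∈ P) {u : U4 K} :
    w u ∈ P.map w ↔ u ∈ P := by
  refine ⟨?_, fun hu => ⟨u, hu, rfl⟩⟩
  rintro ⟨v, hv, e⟩
  obtain ⟨-, h1, h2, -⟩ := h.eq_iff.1 e
  exact hP v u h1 h2 hv

theorem Ker.mem_sZ (h : Ker sp w) {u : U4 K} : w u ∈ (sZ K).map w ↔ u.z = 0 ∧ u.i = 0 :=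
  h.mem_map_iff (P := sZ K) fun _ _ h1 h2 hu => ⟨h1 ▸ hu.1, h2 ▸ hu.2⟩

theorem Ker.mem_sA (h : Ker sp w) {u : U4 K} : w u ∈ (sA K).map w ↔ u.i = 0 :=
  h.mem_map_iff fun _ _ _ h2 hu => SP.mem_sA.2 (h2 ▸ SP.mem_sA.1 hu)

theorem Ker.mem_sB (h : Ker sp w) {u : U4 K} : w u ∈ (sB K).map w ↔ u.z = 0 :=
  h.mem_map_iff fun _ _ h1 _ hu => SP.mem_sB.2 (h1 ▸ SP.mem_sB.1 hu)

theorem Ker.mem_sR (h : Ker sp w) {u : U4 K} : w u ∈ (sR σ).map w ↔ u.z = σ u.i :=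
  h.mem_map_iff fun _ _ h1 h2 hu => PU.mem_sR.2 (h1 ▸ h2 ▸ PU.mem_sR.1 hu)

theorem Ker.comm_iff (h : Ker sp w) {u v : U4 K} : w u * w v = w v * w u ↔
    u.i * v.z = v.i * u.z ∧ (sp = true → u.i ^ 2 * v.z = v.i ^ 2 * u.z) := by
  have two : (2 : K) = 0 := CharTwo.two_eq_zero
  rw [← map_mul, ← map_mul, h.eq_iff]
  simp only [SP.mul_x, SP.mul_y, SP.mul_z, SP.mul_i, two, zero_mul, add_zero]
  refine ⟨fun ⟨h1, _, _, h4⟩ => ⟨by linear_combination h1, fun hs => by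
    linear_combination h4 hs⟩, fun ⟨h1, h4⟩ => ⟨by linear_combination h1, add_comm _ _,
    add_comm _ _, fun hs => by linear_combination h4 hs⟩⟩

theorem Ker.sq_iff (h : Ker sp w) {u : U4 K} : w u * w u = 1 ↔ u.i = 0 ∨ u.z = 0 := by
  have two : (2 : K) = 0 := CharTwo.two_eq_zero
  rw [← map_mul, h, ← mul_eq_zero]
  simp only [SP.mul_x, SP.mul_y, SP.mul_z, SP.mul_i]
  refine ⟨fun ⟨h1, _⟩ => by linear_combination h1 - u.y * two, fun h1 =>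
    ⟨by linear_combination h1 + u.y * two, by linear_combination u.z * two,
      by linear_combination u.i * two, fun _ => by
        linear_combination u.i * h1 + (u.x + u.i * u.y) * two⟩⟩

theorem Ker.comm_of_sZ (h : Ker sp w) {d b : Ω} (hd : d ∈ (sZ K).map w) (hb : b ∈ w.range) :
    b * d = d * b := by
  obtain ⟨u, hu, rfl⟩ := hd
  obtain ⟨v, rfl⟩ := hb
  simp [h.comm_iff, hu.1, hu.2]

omit [CharP K 2] in
theorem inv_mul_conj_mem_sZ {a b : Ω} (ha : a ∈ w.range) (hb : b ∈ w.range) :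
    a⁻¹ * (b * a * b⁻¹) ∈ (sZ K).map w := by
  obtain ⟨u, rfl⟩ := ha
  obtain ⟨v, rfl⟩ := hb
  refine ⟨u⁻¹ * (v * u * v⁻¹), ?_, by simp⟩
  rw [SP.inv_mul_conj]
  exact ⟨rfl, rfl⟩

end

theorem Fr.ess_in (h : Fr F sp σ Y w t) (hp : Par sp σ Y) (hF : F.IsSaturated 2) {E : Subgroup Ω}
    (hE : F.IsEssential 2 E) (hle : E ≤ w.range) :
    E = (sB K).map w ∨ E = (sA K).map w ∨ E = w.range := by
  have hS := h.isPGroup
  have hk := h.ker
  have hfin : Finite E := finite_of_le hE.le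
  have hZ : (sZ K).map w ≤ E := fun a ha =>
    SP.mem_of_comm hE (h.range_le (map_le_range _ _ ha)) fun x hx => hk.comm_of_sZ ha (hle hx)
  have key : (∀ g, F.IsIso E E g → ∀ x ∈ E, x ∈ (sZ K).map w → g x ∈ (sZ K).map w) →
      E = w.range := fun hi => le_antisymm hle fun a ha =>
    SP.mem_of_ch2 hS hE hi (h.range_le ha)
      (mem_normalizer_of_finite fun x hx => by
        simpa using E.mul_mem hx (hZ (inv_mul_conj_mem_sZ (hle hx) ha)))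
      (fun x _ hx => mul_inv_eq_iff_eq_mul.2 (hk.comm_of_sZ hx ha))
      fun x hx => inv_mul_conj_mem_sZ (hle hx) ha
  by_cases hn : ∀ e ∈ centralizerIn E E, e ∈ (sZ K).map w
  · exact .inr (.inr (key fun g hg x hx hxZ => hn _ (hg.isIso_center.mapsTo x
      (mem_centralizerIn'.2 ⟨hx, fun y hy => hk.comm_of_sZ hxZ (hle hy)⟩))))
  push Not at hn
  obtain ⟨e, he, heZ⟩ := hn
  obtain ⟨heE, hc⟩ := mem_centralizerIn'.1 he
  obtain ⟨e, rfl⟩ := hle heE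
  rw [hk.mem_sZ] at heZ
  by_cases hi : e.i = 0
  · have hz : e.z ≠ 0 := fun h => heZ ⟨h, hi⟩
    have hle' : E ≤ (sA K).map w := fun x hx => by
      obtain ⟨u, rfl⟩ := hle hx
      simpa [hi, hz, hk.mem_sA] using (hk.comm_iff.1 (hc _ hx)).1
    refine .inr (.inl (le_antisymm hle' ?_))
    rintro _ ⟨a, ha, rfl⟩
    refine SP.mem_of_comm hE (h.range_le ⟨a, rfl⟩) fun x hx => ?_
    obtain ⟨u, hu, rfl⟩ := hle' hx
    simp [hk.comm_iff, SP.mem_sA.1 ha, SP.mem_sA.1 hu]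
  by_cases hz : e.z = 0
  · have hle' : E ≤ (sB K).map w := fun x hx => by
      obtain ⟨u, rfl⟩ := hle hx
      simpa [hi, hz, hk.mem_sB] using (hk.comm_iff.1 (hc _ hx)).1
    refine .inl (le_antisymm hle' ?_)
    rintro _ ⟨a, ha, rfl⟩
    refine SP.mem_of_comm hE (h.range_le ⟨a, rfl⟩) fun x hx => ?_
    obtain ⟨u, hu, rfl⟩ := hle' hx
    simp [hk.comm_iff, SP.mem_sB.1 ha, SP.mem_sB.1 hu]
  refine .inr (.inr (key fun g hg x hx hxZ => ?_))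
  obtain ⟨u, hu⟩ := hle (hg.mapsTo x hx)
  have h1 := hc _ (hg.mapsTo x hx)
  obtain ⟨v, hv, rfl⟩ := hxZ
  have h2 : g (w v) * g (w v) = 1 := by
    rw [← hg.mor.map_mul hx hx, hk.sq_iff.2 (.inl hv.2), hg.mor.map_one]
  rw [← hu] at h1 h2 ⊢
  have h1 := (hk.comm_iff.1 h1).1
  rw [hk.mem_sZ]
  rcases hk.sq_iff.1 h2 with h | h
  · exact ⟨by simpa [h, hi] using h1, h⟩
  · exact ⟨h, by simpa [h, hz] using h1⟩

end Cfsg.Agent.PU
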