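import Cfsg.Agent.Lib.PU.Outer1
import Cfsg.Agent.Lib.PU.OutB

/-!
Essential subgroups outside `B`.
-/

set_option autoImplicit false

namespace Cfsg.Agent.PU

open Cfsg Cfsg.FusionSystem Subgroup Cfsg.Agent.FT
open Cfsg.Agent.H6 (cj RealizedIn SylIn)
open Cfsg.Agent.H9 (U4)
open Cfsg.Agent.SP (sA sB sZ sX)
open scoped commutatorElement

variable {Ω : Type*} [Group Ω] {S : Subgroup Ω} [Finite S] {F F' : FusionSystem S}
  {K : Type*} [Field K] [Fintype K] [CharP K 2] {sp : Bool} {σ : K ≃+* K}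
  {Y : Subgroup (Tor K)} {w : U4 K →* Ω} {t : Ω}

section
omit [Finite S] [Fintype K]

omit [CharP K 2] in
theorem Fr.kk_t (h : Fr F sp σ Y w t) (u : U4 K) : kk (w u) t = w (sw sp σ u * u⁻¹) := by
  rw [map_mul, map_inv, ← h.conj, kk, h.t_inv]; simp only [mul_assoc]

omit [CharP K 2] in
theorem Fr.conj'' (h : Fr F sp σ Y w t) (u : U4 K) : t⁻¹ * w u * t = w (sw sp σ u) := by
  rw [h.t_inv, h.conj]

omit [CharP K 2] in
theorem Fr.comm_t (h : Fr F sp σ Y w t) {u : U4 K} : w u * t = t * w u ↔ w (sw sp σ u) = w u := by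
  rw [← h.conj'', mul_assoc, inv_mul_eq_iff_eq_mul]

omit [CharP K 2] in
theorem sig_inv (σ : K ≃+* K) (x : K) : σ (σ⁻¹ x) = x := σ.apply_symm_apply x

omit [CharP K 2] in
theorem inv_sig (σ : K ≃+* K) (x : K) : σ⁻¹ (σ x) = x := σ.symm_apply_apply x

theorem Fr.ab (h : Fr F sp σ Y w t) : Ab S w.range ((sZ K).map w) ((sR σ).map w) t where
  BS := h.range_le
  tS := h.tS
  mem s hs := by
    obtain ⟨u, rfl | rfl⟩ := (h.mem s).1 hs
    exacts [.inl ⟨u, rfl⟩, .inr ⟨_, ⟨u, rfl⟩, rfl⟩]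
  nt := h.nt
  tt := h.tt
  tB := by rintro _ ⟨u, rfl⟩; exact ⟨_, (h.conj'' u).symm⟩
  tD := by
    rintro _ ⟨u, hu, rfl⟩
    rw [h.conj'', h.ker.mem_sZ]
    simp [sw, hu.1, hu.2]
  DR := map_mono fun u hu => by rw [mem_sR, hu.1, hu.2, map_zero]
  RB := map_le_range _ _
  cen _ hd _ hb := h.ker.comm_of_sZ hd hb
  el := by rintro _ ⟨u, hu, rfl⟩; exact h.ker.sq_iff.2 (.inl hu.2)
  comm _ ha _ hb := inv_mul_conj_mem_sZ hb ha
  sq := by
    rintro _ ⟨u, rfl⟩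
    rw [← map_mul, h.ker.mem_sZ, SP.mul_z, SP.mul_i]
    exact ⟨CharTwo.add_self_eq_zero _, CharTwo.add_self_eq_zero _⟩
  memR := by
    rintro _ ⟨u, rfl⟩
    rw [h.kk_t, h.ker.mem_sR, h.ker.mem_sZ, SP.mul_z, SP.mul_i, SP.inv_z, SP.inv_i]
    simp only [sw, add_neg_eq_zero]
    exact ⟨fun e => ⟨e.symm, by rw [e, inv_sig]⟩, fun e => e.1.symm⟩
  tR := by
    rintro _ ⟨u, rfl⟩
    rw [h.kk_t, h.ker.mem_sR, SP.mul_z, SP.mul_i, SP.inv_z, SP.inv_i]
    simp only [sw, map_add, sig_inv, CharTwo.neg_eq, add_comm]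
  inv := by
    rintro _ ⟨u, hu, rfl⟩ h2
    have hu := mem_sR.1 hu
    rw [h.ker.mem_sZ]
    rcases h.ker.sq_iff.1 h2 with e | e
    · exact ⟨by rw [hu, e, map_zero], e⟩
    · exact ⟨e, by simpa [e] using hu.symm⟩
  ex := ⟨w ⟨0, 0, 1, 1⟩, h.ker.mem_sR.2 (map_one σ).symm, by simp [h.ker.mem_sZ]⟩

theorem Fr.mem_Z0 (h : Fr F sp σ Y w t) {u : U4 K} : w u ∈ Z0 ((sZ K).map w) t ↔
    u.z = 0 ∧ u.i = 0 ∧ if sp then σ u.y = u.x else σ u.y = u.y := by
  rw [PU.mem_Z0, h.ker.mem_sZ, and_assoc, h.comm_t, h.ker.eq_iff]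
  refine and_congr_right fun hz => and_congr_right fun hi => ?_
  cases sp
  · simp [sw, hz, hi]
  · simp only [sw, hz, hi, mul_zero, add_zero, map_zero, if_true, true_and, forall_const]
    exact ⟨fun e => e.2, fun e => ⟨by rw [← e, inv_sig], e⟩⟩

theorem Fr.caseII (h : Fr F sp σ Y w t) (hp : Par sp σ Y) (hc : sp = true ∨ σ ≠ 1) :
    CaseII ((sZ K).map w) t := by
  have two : (2 : K) = 0 := CharTwo.two_eq_zero
  cases sp
  · obtain ⟨a, ha⟩ : ∃ a, σ a ≠ a := by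
      by_contra hn
      push Not at hn
      exact hc.resolve_left (by simp) (RingEquiv.ext hn)
    have h1 : σ a + a ≠ 0 := fun e => ha (by linear_combination e - a * two)
    have h2 : σ (σ a) = a := by simpa using hp.sq a
    refine ⟨?_, w ⟨0, a, 0, 0⟩, ⟨_, ⟨rfl, rfl⟩, rfl⟩, ?_⟩
    · rintro _ hz
      obtain ⟨u, -, rfl⟩ := hz.1
      obtain ⟨hz, hi, e⟩ := h.mem_Z0.1 hz
      simp only [Bool.false_eq_true, if_false] at e
      refine ⟨w ⟨0, u.y * a / (σ a + a), 0, 0⟩, ⟨_, ⟨rfl, rfl⟩, rfl⟩, ?_⟩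
      rw [h.kk_t, h.ker.eq_iff]
      simp only [sw, H9.U4.mul_def, H9.U4.inv_def, hz, hi, CharTwo.neg_eq, mul_zero, add_zero,
        map_zero, Bool.false_eq_true, if_false, true_and, IsEmpty.forall_iff, and_true, map_div₀,
        map_mul, map_add, e, h2, add_comm a]
      field_simp
    · rw [Ne, h.comm_t, h.ker.eq_iff]
      simp [sw, ha]
  · refine ⟨?_, w ⟨0, 1, 0, 0⟩, ⟨_, ⟨rfl, rfl⟩, rfl⟩, ?_⟩
    · rintro _ hz
      obtain ⟨u, -, rfl⟩ := hz.1
      obtain ⟨hz, hi, e⟩ := h.mem_Z0.1 hz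
      refine ⟨w ⟨0, u.y, 0, 0⟩, ⟨_, ⟨rfl, rfl⟩, rfl⟩, ?_⟩
      rw [h.kk_t, h.ker.eq_iff]
      simpa [sw, H9.U4.mul_def, H9.U4.inv_def, hz, hi, CharTwo.neg_eq] using e
    · rw [Ne, h.comm_t, h.ker.eq_iff]
      simp [sw]

end

omit [Finite S] in
theorem Fr.caseI (h : Fr F false 1 Y w t) (hp : Par false 1 Y) :
    CaseI ((sZ K).map w) ((sR 1).map w) t where
  fix := by
    rintro _ ⟨u, hu, rfl⟩
    rw [h.comm_t, h.ker.eq_iff]
    simp [sw, hu.1, hu.2]
  inv := by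
    rintro _ ⟨u, hu, rfl⟩
    have hu : u.z = u.i := hu
    rw [mul_assoc, ← mul_assoc t, h.conj, ← map_mul, h.ker]
    simp only [sw, H9.U4.mul_def, hu, RingAut.one_apply, inv_one, Bool.false_eq_true, if_false,
      IsEmpty.forall_iff, and_true, CharTwo.add_self_eq_zero, and_self]
    linear_combination (u.y + u.i * u.i) * (CharTwo.two_eq_zero : (2 : K) = 0)
  sq := by
    rintro _ ⟨u, hu, rfl⟩
    obtain ⟨a, ha⟩ := FiniteField.isSquare_of_char_two (ringChar.eq K 2) u.y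
    refine ⟨w ⟨0, 0, a, a⟩, ⟨_, rfl, rfl⟩, ?_⟩
    rw [← map_mul, h.ker.eq_iff]
    simp [H9.U4.mul_def, hu.1, hu.2, ha, CharTwo.add_self_eq_zero]
  two := fun hs => by
    have h2 : 2 < Fintype.card K := by simpa using hp.big
    obtain ⟨a, h0, h1⟩ : ∃ a : K, a ≠ 0 ∧ a ≠ 1 := by
      obtain ⟨a, b, c, hab, hac, hbc⟩ := Fintype.two_lt_card_iff.1 h2
      by_contra hn
      push Not at hn
      have k := fun x => or_iff_not_imp_left.2 (hn x)
      rcases k a with rfl | rfl <;> rcases k b with rfl | rfl <;> rcases k c with rfl | rfl <;>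
        contradiction
    have := hs (w ⟨0, a, 0, 0⟩) ⟨_, ⟨rfl, rfl⟩, rfl⟩ (w ⟨0, 1, 0, 0⟩) ⟨_, ⟨rfl, rfl⟩, rfl⟩
      (by simp [h.ker _, h0]) (by simp [h.ker _])
    exact h1 (h.ker.eq_iff.1 this).1

omit [Finite S] in
theorem Fr.cases (h : Fr F sp σ Y w t) (hp : Par sp σ Y) :
    CaseI ((sZ K).map w) ((sR σ).map w) t ∨ CaseII ((sZ K).map w) t := by
  by_cases hc : sp = true ∨ σ ≠ 1
  · exact .inr (h.caseII hp hc)
  · push Not at hc
    obtain ⟨h1, rfl⟩ := hc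
    obtain rfl : sp = false := by simpa using h1
    exact .inl (h.caseI hp)

omit [Finite S] in
theorem Fr.exc (h : Fr F sp σ Y w t) (hp : Par sp σ Y) (hc : CaseII ((sZ K).map w) t)
    (hs : Small (Z0 ((sZ K).map w) t)) : Exc sp σ := by
  classical
  have two : (2 : K) = 0 := CharTwo.two_eq_zero
  cases sp
  · have hσ : σ ≠ 1 := by
      rintro rfl
      obtain ⟨d, hd, hne⟩ := hc.mv
      exact hne ((h.caseI hp).fix d hd)
    obtain ⟨a, ha⟩ : ∃ a, σ a ≠ a := by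
      by_contra hn
      push Not at hn
      exact hσ (RingEquiv.ext hn)
    have fx : ∀ y, σ y = y → y = 0 ∨ y = 1 := fun y hy => or_iff_not_imp_left.2 fun h0 =>
      (h.ker.eq_iff.1 (hs (w ⟨0, y, 0, 0⟩) (h.mem_Z0.2 (by simp [hy])) (w ⟨0, 1, 0, 0⟩)
        (h.mem_Z0.2 (by simp)) (by simp [h.ker _, h0]) (by simp [h.ker _]))).1
    have tr : ∀ x, σ x + x = 0 ∨ σ x + x = 1 := fun x => fx _ (by
      rw [map_add, add_comm]; simpa using hp.sq x)
    have h1 : σ a + a = 1 := (tr a).resolve_left fun e => ha (by linear_combination e - a * two)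
    have a0 : a ≠ 0 := fun e => ha (by rw [e, map_zero])
    have a1 : a ≠ 1 := fun e => ha (by rw [e, map_one])
    have hu : (Finset.univ : Finset K) = {0, 1, a, a + 1} := by
      refine (Finset.eq_univ_of_forall fun x => ?_).symm
      simp only [Finset.mem_insert, Finset.mem_singleton]
      rcases tr x with e | e
      · rcases fx x (by linear_combination e - x * two) with e | e <;> simp [e]
      · rcases fx (x + a) (by rw [map_add]; linear_combination e + h1 - (x + a - 1) * two) with e | e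
        · exact .inr (.inr (.inl (by linear_combination e - a * two)))
        · exact .inr (.inr (.inr (by linear_combination e - a * two)))
    refine .inl ⟨?_, rfl, hσ⟩
    have a2 : (0 : K) ≠ a + 1 := fun e => a1 (by linear_combination -e - two)
    rw [Nat.card_eq_fintype_card, ← Finset.card_univ, hu, Finset.card_insert_of_notMem (by
      simp [a0.symm, a2]), Finset.card_insert_of_notMem (by simp [a1.symm, a0]),
      Finset.card_pair (by simp)]
  · refine .inr ⟨Nat.card_eq_two_iff.2 ⟨0, 1, zero_ne_one, Set.eq_univ_of_forall fun y =>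
      or_iff_not_imp_left.2 fun h0 => ?_⟩, rfl⟩
    exact (h.ker.eq_iff.1 (hs (w ⟨σ y, y, 0, 0⟩) (h.mem_Z0.2 (by simp)) (w ⟨1, 1, 0, 0⟩)
      (h.mem_Z0.2 (by simp)) (by simp [h.ker _, h0]) (by simp [h.ker _]))).1

theorem Fr.ess_out (h : Fr F sp σ Y w t) (hp : Par sp σ Y) (hF : F.IsSaturated 2) {E : Subgroup Ω}
    (hE : F.IsEssential 2 E) (hle : ¬ E ≤ w.range) : E = QQ σ w t ∧ Exc sp σ :=
  let ⟨h1, h2, h3⟩ := h.ab.ess_out (h.cases hp) h.isPGroup hF hE hle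
  ⟨h1, h.exc hp h2 h3⟩

theorem Fr.sc_iff (h : Fr F sp σ Y w t) (hp : Par sp σ Y) (hF : F.IsSaturated 2) :
    F.StronglyClosed w.range ↔ ¬ F.IsEssential 2 (QQ σ w t) := by
  refine ⟨h.ab.not_ess_of_sc h.isPGroup hF, fun hn => stronglyClosed_iff.2
    ⟨h.range_le, fun P f hf => ?_⟩⟩
  refine hF.alperin_induction h.isPGroup (P := P) (M := fun f => ∀ x ∈ P, x ∈ w.range → f x ∈ w.range)
    (fun f g h1 e x hx hB => e x hx ▸ h1 x hx hB) (fun _ _ hB => hB)
    (fun f Q g _ h1 hQ hg hm x hx hB => ?_) hf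
  rcases hQ with rfl | hQ
  · obtain ⟨φ, hs, -⟩ := h.str hp
    have := hs.isIsoB hg
    rw [map_sup_map] at this
    exact this.mapsTo _ (h1 x hx hB)
  · by_cases hle : Q ≤ w.range
    · exact hle (hg.mapsTo _ (hm x hx))
    · exact (hn ((h.ess_out hp hF hQ hle).1 ▸ hQ)).elim

end Cfsg.Agent.PU
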