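import Cfsg.Agent.Lib.PU.JB

/-!
The amalgam argument.
-/

set_option autoImplicit false

namespace Cfsg.Agent.PU

open Cfsg Cfsg.FusionSystem Subgroup Cfsg.Agent.FT
open Cfsg.Agent.H6 (cj RealizedIn SylIn)
open Cfsg.Agent.H9 (U4)
open Cfsg.Agent.SP (sA sB sZ sX)
open scoped commutatorElement

section
variable {Γ : Type*} [Group Γ] {L B Q Z X G S G' S' Q' Z' : Subgroup Γ} {g γ δ d : Γ} {q m n : ℕ}

theorem le_norm_of_cj {K Y : Subgroup Γ} (h : ∀ a ∈ K, cj a Y ≤ Y) : K ≤ 𝒩(Y) := fun a ha =>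
  H6.cj_eq_self_iff.1 (le_antisymm (h a ha) (by
    have := H6.cj_mono a (h _ (K.inv_mem ha))
    rwa [H6.cj_cj_inv] at this))

theorem exists_mul_of_relIndex_le [Finite S] (hZ : Z ≤ S) (h : Q.relIndex S ≤ Q.relIndex Z) {s : Γ}
    (hs : s ∈ S) : ∃ z ∈ Z, ∃ y ∈ Q, s = z * y := by
  obtain ⟨x, hx⟩ := ((quotientSubgroupOfEmbeddingOfLE Q hZ).injective.bijective_of_nat_card_le
    h).2 (QuotientGroup.mk ⟨s, hs⟩)
  obtain ⟨z, rfl⟩ := QuotientGroup.mk_surjective x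
  rw [quotientSubgroupOfEmbeddingOfLE_apply_mk, QuotientGroup.eq, mem_subgroupOf] at hx
  exact ⟨z, z.2, _, hx, (mul_inv_cancel_left _ _).symm⟩

theorem comm_mul_cent {z s y : Γ} (h : z * y = y * z) : ⁅z, s * y⁆ = ⁅z, s⁆ := by
  calc ⁅z, s * y⁆ = z * s * (y * z⁻¹ * y⁻¹) * s⁻¹ := by rw [commutatorElement_def]; group
    _ = ⁅z, s⁆ := by rw [← (Commute.inv_left h).eq, commutatorElement_def]; group

/-- The local properties of a flag. -/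
structure Loc (q : ℕ) (G S Q Z : Subgroup Γ) : Prop where
  fin : Finite S
  SG : S ≤ G
  QG : G ≤ 𝒩(Q)
  QS : Q ≤ S
  ne : ¬ S ≤ Q
  ZG : G ≤ 𝒩(Z)
  el : El Z
  ZQ : Z ≤ Q
  QZ : Q ≤ 𝒞(Z)
  oz : OZ S ≤ Z
  a : ∀ s ∈ S, s ∉ Q → ∀ z ∈ Z, s * z = z * s → z ∈ 𝒞(S)
  qe : Q.relIndex S = q
  b : q ≤ (𝒞(S)).relIndex Z
  c : ∀ z ∈ Z, ∀ s ∈ S, ⁅z, s⁆ ∈ 𝒞(S)
  d : ∀ z ∈ Z, ∀ s ∈ S, ⁅z, s⁆ ∈ 𝒞(G) → ⁅z, s⁆ = 1

theorem PUD.loc [Finite B] (h : PUD L B Q Z g) : Loc (Q.relIndex B) L B Q Z :=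
  ⟨inferInstance, h.gen ▸ le_sup_left, h.QL.norm, h.QB, h.ne, h.ZL.norm, h.el, h.ZQ, h.QZ, h.oz,
    h.a, rfl, h.b, h.c, h.d⟩

theorem Loc.cj (h : Loc q G S Q Z) (γ : Γ) : Loc q (cj γ G) (cj γ S) (cj γ Q) (cj γ Z) := by
  have := h.fin
  have inj : Function.Injective (MulAut.conj γ).toMonoidHom := (MulAut.conj γ).injective
  refine ⟨Finite.of_equiv _ (H6.cjEquiv γ S).toEquiv, H6.cj_mono γ h.SG,
    H6.cj_normalizer γ Q ▸ H6.cj_mono γ h.QG, H6.cj_mono γ h.QS,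
    fun e => h.ne (H6.cj_le_cj_iff.1 e), H6.cj_normalizer γ Z ▸ H6.cj_mono γ h.ZG, ?_,
    H6.cj_mono γ h.ZQ, H6.cj_centralizer γ Z ▸ H6.cj_mono γ h.QZ, cj_OZ γ S ▸ H6.cj_mono γ h.oz, ?_,
    (H6.relIndex_cj _ _ _).trans h.qe, ?_, ?_, ?_⟩
  · rintro _ ⟨z, hz, rfl⟩
    rw [← map_mul, h.el z hz, map_one]
  · rintro _ ⟨s, hs, rfl⟩ h1 _ ⟨z, hz, rfl⟩ e
    rw [← map_mul, ← map_mul] at e
    rw [← H6.cj_centralizer]
    exact mem_map_of_mem _ (h.a s hs (fun h2 => h1 (mem_map_of_mem _ h2)) z hz (inj e))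
  · rw [← H6.cj_centralizer, H6.relIndex_cj]
    exact h.b
  · rintro _ ⟨z, hz, rfl⟩ _ ⟨s, hs, rfl⟩
    rw [← H6.cj_centralizer, ← map_commutatorElement]
    exact mem_map_of_mem _ (h.c z hz s hs)
  · rintro _ ⟨z, hz, rfl⟩ _ ⟨s, hs, rfl⟩ e
    rw [← H6.cj_centralizer, ← map_commutatorElement, mem_map_iff_mem inj] at e
    rw [← map_commutatorElement, h.d z hz s hs e, map_one]

theorem Loc.not_cent (h : Loc q G S Q Z) : ¬ Z ≤ 𝒞(S) := fun e => by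
  have := h.fin
  have h1 := h.b
  rw [relIndex_eq_one.2 e, ← h.qe] at h1
  exact h.ne (relIndex_eq_one.1 (le_antisymm h1 (Nat.pos_of_ne_zero FiniteIndex.index_ne_zero)))

theorem Loc.not_comm (h : Loc q G S Q Z) (h1 : Z' ≤ S) (h2 : ¬ Z' ≤ Q) : ¬ Z' ≤ 𝒞(Z) := fun e => by
  obtain ⟨s, hs, hsQ⟩ := SetLike.not_le_iff_exists.1 h2
  exact h.not_cent fun z hz => h.a s (h1 hs) hsQ z hz (mem_cent.1 (e hs) z hz).symm

theorem Loc.crit (h : Loc q G S Q Z) (h' : Loc q G' S' Q' Z') (h1 : Z' ≤ S) (h2 : ¬ Z' ≤ Q) :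
    ¬ Z ≤ Q' := fun e => h.not_comm h1 h2 (cent_comm.1 (e.trans h'.QZ))

theorem Loc.dec (h : Loc q G S Q Z) (h' : Loc q G' S' Q' Z') (h1 : Z' ≤ S) (h1' : Z ≤ S')
    (h2 : ¬ Z' ≤ Q) {s : Γ} (hs : s ∈ S') : ∃ z ∈ Z, ∃ y ∈ Q', s = z * y := by
  have := h'.fin
  have : Finite Z := Finite.of_injective _ (inclusion_injective h1')
  obtain ⟨t, ht, htQ⟩ := SetLike.not_le_iff_exists.1 h2
  refine exists_mul_of_relIndex_le h1' ?_ hs
  rw [h'.qe, ← inf_relIndex_right Q']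
  exact h.b.trans (relIndex_le_of_le_left (fun z hz => h.a t (h1 ht) htQ z hz.2
    (mem_cent.1 (h'.QZ hz.1) t ht)) FiniteIndex.index_ne_zero)

variable (L X) in
/-- Distance at most `n` from the base point. -/
def Nr : ℕ → Γ → Prop
  | 0, d => d ∈ L
  | n + 1, d => ∃ d', Nr n d' ∧ ∃ x ∈ X, ∃ l ∈ L, d = d' * x * l

theorem Nr.mul_L {l : Γ} (h : Nr L X n d) (hl : l ∈ L) : Nr L X n (d * l) := by
  cases n with
  | zero => exact L.mul_mem h hl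
  | succ n =>
    obtain ⟨d', h1, x, hx, l', hl', rfl⟩ := h
    exact ⟨d', h1, x, hx, l' * l, L.mul_mem hl' hl, mul_assoc _ _ _⟩

theorem Nr.mul (h : Nr L X m γ) : ∀ {n : ℕ} {d : Γ}, Nr L X n d → Nr L X (m + n) (γ * d)
  | 0, _, h' => h.mul_L h'
  | _ + 1, _, ⟨d', h1, x, hx, l, hl, e⟩ => ⟨γ * d', h.mul h1, x, hx, l, hl, by rw [e]; group⟩

theorem Nr.inv : ∀ {n : ℕ} {d : Γ}, Nr L X n d → Nr L X n d⁻¹
  | 0, _, h => L.inv_mem h
  | n + 1, _, ⟨d', h1, x, hx, l, hl, e⟩ => by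
    have h2 : Nr L X 1 (l⁻¹ * x⁻¹ * 1) := ⟨l⁻¹, L.inv_mem hl, x⁻¹, X.inv_mem hx, 1, L.one_mem, rfl⟩
    have := h2.mul h1.inv
    rw [add_comm] at this
    rw [e]
    convert this using 1
    group

theorem exists_nr (hd : d ∈ L ⊔ X) : ∃ n, Nr L X n d := by
  let K : Subgroup Γ :=
    { carrier := {d | ∃ n, Nr L X n d}
      one_mem' := ⟨0, L.one_mem⟩
      mul_mem' := fun ⟨_, h⟩ ⟨_, h'⟩ => ⟨_, h.mul h'⟩
      inv_mem' := fun ⟨_, h⟩ => ⟨_, h.inv⟩ }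
  have : L ⊔ X ≤ K := sup_le (fun l hl => ⟨0, hl⟩) fun x hx =>
    ⟨1, 1, L.one_mem, x, hx, 1, L.one_mem, by simp⟩
  exact this hd

variable (L B X) in
/-- An edge with its group. -/
def Ed (γ δ : Γ) (S : Subgroup Γ) : Prop :=
  ∃ l ∈ L, ∃ x ∈ X, ∃ l' ∈ L, δ = γ * l * x * l' ∧ S = cj (γ * l) B

theorem Ed.symm (hX : X ≤ 𝒩(B)) (h : Ed L B X γ δ S) : Ed L B X δ γ S := by
  obtain ⟨l, hl, x, hx, l', hl', rfl, rfl⟩ := h
  refine ⟨l'⁻¹, L.inv_mem hl', x⁻¹, X.inv_mem hx, l⁻¹, L.inv_mem hl, by group, ?_⟩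
  rw [mul_inv_cancel_right, ← H6.cj_cj _ x, H6.cj_eq_self_iff.2 (hX hx)]

theorem Ed.nr (h : Ed L B X γ δ S) : Nr L X 1 (γ⁻¹ * δ) := by
  obtain ⟨l, hl, x, hx, l', hl', rfl, -⟩ := h
  exact ⟨l, hl, x, hx, l', hl', by group⟩

theorem Ed.loc (h0 : Loc q L B Q Z) (h : Ed L B X γ δ S) :
    Loc q (cj γ L) S (cj γ Q) (cj γ Z) := by
  obtain ⟨l, hl, x, hx, l', hl', -, rfl⟩ := h
  have := h0.cj (γ * l)
  rwa [← H6.cj_cj _ _ L, ← H6.cj_cj _ _ Q, ← H6.cj_cj _ _ Z, H6.cj_eq_self_of_mem hl,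
    H6.cj_eq_self_iff.2 (h0.QG hl), H6.cj_eq_self_iff.2 (h0.ZG hl)] at this

theorem Nr.walk : ∀ {n : ℕ} {d : Γ}, Nr L X n d → ∃ (p : ℕ → Γ) (S : ℕ → Subgroup Γ),
    p 0 ∈ L ∧ p n = d ∧ ∀ i < n, Ed L B X (p i) (p (i + 1)) (S i)
  | 0, d, h => ⟨fun _ => d, fun _ => ⊥, h, rfl, fun _ hi => absurd hi (Nat.not_lt_zero _)⟩
  | n + 1, d, ⟨d', h1, x, hx, l, hl, e⟩ => by
    obtain ⟨p, S, p0, pn, hp⟩ := h1.walk
    refine ⟨Function.update p (n + 1) d, Function.update S n (cj (d' * 1) B), ?_, by simp,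
      fun i hi => ?_⟩
    · rwa [Function.update_of_ne (by omega)]
    · rcases Nat.lt_succ_iff_lt_or_eq.1 hi with hi | rfl
      · rw [Function.update_of_ne (by omega), Function.update_of_ne (by omega),
          Function.update_of_ne (by omega)]
        exact hp i hi
      · rw [Function.update_of_ne (by omega), Function.update_self, Function.update_self, pn]
        exact ⟨1, L.one_mem, x, hx, l, hl, by rw [e, mul_one], rfl⟩

theorem walk_nr {p : ℕ → Γ} {S : ℕ → Subgroup Γ} {N : ℕ}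
    (hp : ∀ i < N, Ed L B X (p i) (p (i + 1)) (S i)) (i : ℕ) :
    ∀ k, i + k ≤ N → Nr L X k ((p i)⁻¹ * p (i + k))
  | 0, _ => by rw [add_zero, inv_mul_cancel]; exact L.one_mem
  | k + 1, h => by
    have := (walk_nr hp i k (by omega)).mul (hp (i + k) (by omega)).nr
    rwa [mul_assoc, mul_inv_cancel_left] at this

/-- Points at distance less than `n` are not critical. -/
def Far (L X Q Z : Subgroup Γ) (n : ℕ) : Prop := ∀ m < n, ∀ d, Nr L X m d → cj d Z ≤ Q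

theorem Far.le (h : Far L X Q Z n) (h1 : Nr L X m (γ⁻¹ * δ)) (hm : m < n) : cj δ Z ≤ cj γ Q := by
  have := H6.cj_mono γ (h m hm _ h1)
  rwa [H6.cj_cj, mul_inv_cancel_left] at this

theorem Far.le' (h : Far L X Q Z n) (h1 : Nr L X m (γ⁻¹ * δ)) (hm : m < n) : cj γ Z ≤ cj δ Q :=
  h.le (by simpa using h1.inv) hm

theorem PUD.extend [Finite B] (h : PUD L B Q Z g) (hX : X ≤ 𝒩(B))
    (hN : ∀ N ≤ B, L ≤ 𝒩(N) → X ≤ 𝒩(N) → N = ⊥) (far : Far L X Q Z (n + 1)) {p : ℕ → Γ}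
    {S : ℕ → Subgroup Γ} (hp : ∀ i < n + 1, Ed L B X (p i) (p (i + 1)) (S i))
    (cr : ¬ cj (p (n + 1)) Z ≤ cj (p 0) Q) : ∃ δ S', Ed L B X (p (n + 1)) δ S' ∧
      S n ⊔ S' = cj (p (n + 1)) L ∧ ¬ cj δ Z ≤ cj (p 1) Q := by
  have l0 := (hp 0 (by omega)).loc h.loc
  have l1 := ((hp 0 (by omega)).symm hX).loc h.loc
  have en := (hp n (by omega)).symm hX
  have ln := en.loc h.loc
  have i1 : cj (p (n + 1)) Z ≤ S 0 :=
    (far.le (by simpa [add_comm] using walk_nr hp 1 n (by omega)) (by omega)).trans l1.QS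
  have i2 : cj (p 0) Z ≤ S n :=
    (far.le' (by simpa using walk_nr hp 0 n (by omega)) (by omega)).trans
      ((hp n (by omega)).loc h.loc).QS
  obtain ⟨l, hl, -, -, -, -, -, eS⟩ := en
  set γ := p (n + 1) * l * g with hγ
  have hlg : l * g ∈ L := L.mul_mem hl h.gL
  have eL : cj γ L = cj (p (n + 1)) L := by
    rw [hγ, mul_assoc, ← H6.cj_cj, H6.cj_eq_self_of_mem hlg]
  have eZ : cj γ Z = cj (p (n + 1)) Z := by
    rw [hγ, mul_assoc, ← H6.cj_cj, h.ZL.cj_eq hlg]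
  have eG : S n ⊔ cj γ B = cj (p (n + 1)) L := by
    rw [eS, hγ, ← H6.cj_cj _ g, ← H6.cj_sup, ← h.gen, ← H6.cj_cj, H6.cj_eq_self_of_mem hl]
  have ed : ∀ x ∈ X, Ed L B X (p (n + 1)) (γ * x) (cj γ B) := fun x hx =>
    ⟨l * g, hlg, x, hx, 1, L.one_mem, by rw [hγ]; group, by rw [hγ, mul_assoc]⟩
  by_contra hc
  have hc' : ∀ x ∈ X, cj (γ * x) Z ≤ cj (p 1) Q := fun x hx => by
    by_contra e
    exact hc ⟨_, _, ed x hx, eG, e⟩
  set W := St.Wc Z X ⊤ with hW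
  have hZW : Z ≤ W := by
    have := St.le_Wc (A := Z) (H := X) (Y := ⊤) X.one_mem le_top
    rwa [H6.cj_one] at this
  have hWB : W ≤ B := St.Wc_le_iff.2 fun x hx _ => by
    rw [← H6.cj_eq_self_iff.2 (hX hx)]
    exact H6.cj_mono x (h.ZQ.trans h.QB)
  have hBW : B ≤ 𝒩(W) := le_norm_of_cj fun b hb => by
    rw [H6.cj_le_iff_le_cj]
    refine St.Wc_le_iff.2 fun x hx _ => ?_
    rw [← H6.cj_le_iff_le_cj]
    have : b ∈ 𝒩(cj x Z) := by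
      rw [← H6.cj_normalizer]
      exact H6.cj_mono x (h.loc.SG.trans h.ZL.norm) ((H6.cj_eq_self_iff.2 (hX hx)).ge hb)
    rw [H6.cj_eq_self_iff.2 this]
    exact St.le_Wc hx le_top
  have hW1 : cj γ W ≤ S 0 := by
    rw [H6.cj_le_iff_le_cj]
    refine St.Wc_le_iff.2 fun x hx _ => ?_
    rw [← H6.cj_le_iff_le_cj, H6.cj_cj]
    exact (hc' x hx).trans l1.QS
  have hZ0 : cj (p 0) Z ≤ 𝒩(cj γ W) := le_norm_of_commutator_le (commutator_le.2 fun w hw z hz => by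
    obtain ⟨z', hz', y, hy, rfl⟩ := ln.dec l0 i2 i1 (l0.crit ln i1 cr) (hW1 hw)
    rw [← commutatorElement_inv, comm_mul_cent (mem_cent.1 (l0.QZ hy) z hz), commutatorElement_inv]
    refine H6.cj_mono γ hZW (eZ.ge ?_)
    exact commutator_le_left (i2.trans (ln.SG.trans ln.ZG)) (commutator_mem_commutator hz' hz))
  have hB' : cj γ B ≤ 𝒩(cj γ W) := H6.cj_normalizer γ W ▸ H6.cj_mono γ hBW
  have hLW : L ≤ 𝒩(W) := by
    rw [← H6.cj_le_cj_iff (g := γ), eL, ← eG, H6.cj_normalizer]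
    refine sup_le (fun s hs => ?_) hB'
    obtain ⟨z, hz, y, hy, rfl⟩ := l0.dec ln i1 i2 cr hs
    exact Subgroup.mul_mem _ (hZ0 hz) (hB' (((ed 1 X.one_mem).loc h.loc).QS hy))
  have := hN W hWB hLW (St.le_norm_Wc le_rfl (by rw [norm_top]; exact le_top))
  exact h.loc.not_cent (hZW.trans (this.le.trans bot_le))

theorem PUD.walk [Finite B] (h : PUD L B Q Z g) (hX : X ≤ 𝒩(B))
    (hN : ∀ N ≤ B, L ≤ 𝒩(N) → X ≤ 𝒩(N) → N = ⊥) (far : Far L X Q Z (n + 1)) (hd : Nr L X (n + 1) d)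
    (cr : ¬ cj d Z ≤ Q) : ∃ (p : ℕ → Γ) (S : ℕ → Subgroup Γ),
      (∀ i, Ed L B X (p i) (p (i + 1)) (S i)) ∧ (∀ i, S i ⊔ S (i + 1) = cj (p (i + 1)) L) ∧
      ∀ i, ¬ cj (p (i + (n + 1))) Z ≤ cj (p i) Q := by
  let T := {t : (ℕ → Γ) × (ℕ → Subgroup Γ) // (∀ i < n + 1, Ed L B X (t.1 i) (t.1 (i + 1)) (t.2 i)) ∧
    ¬ cj (t.1 (n + 1)) Z ≤ cj (t.1 0) Q}
  have step : ∀ t : T, ∃ t' : T, (∀ i ≤ n, t'.1.1 i = t.1.1 (i + 1)) ∧
      (∀ i < n, t'.1.2 i = t.1.2 (i + 1)) ∧ t.1.2 n ⊔ t'.1.2 n = cj (t.1.1 (n + 1)) L := by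
    rintro ⟨⟨p, S⟩, hp, cr⟩
    obtain ⟨δ, S', e1, e2, e3⟩ := h.extend hX hN far hp cr
    refine ⟨⟨⟨Function.update (fun i => p (i + 1)) (n + 1) δ,
      Function.update (fun i => S (i + 1)) n S'⟩, fun i hi => ?_, ?_⟩,
      fun i hi => Function.update_of_ne (show i ≠ n + 1 by omega) δ (fun i => p (i + 1)),
      fun i hi => Function.update_of_ne (show i ≠ n by omega) S' (fun i => S (i + 1)), ?_⟩
    · dsimp only
      rcases Nat.lt_succ_iff_lt_or_eq.1 hi with hi | rfl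
      · rw [Function.update_of_ne (by omega), Function.update_of_ne (by omega),
          Function.update_of_ne (by omega)]
        exact hp (i + 1) (by omega)
      · rw [Function.update_of_ne (by omega), Function.update_self, Function.update_self]
        exact e1
    · dsimp only
      rw [Function.update_self, Function.update_of_ne (by omega)]
      exact e3
    · dsimp only
      rw [Function.update_self]
      exact e2
  choose f f1 f2 f3 using step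
  obtain ⟨p, S, p0, pn, hp⟩ := hd.walk (B := B)
  let t0 : T := ⟨⟨p, S⟩, hp, by
    dsimp only
    rwa [pn, h.QL.cj_eq p0]⟩
  have e1 : ∀ i ≤ n + 1, ∀ k, (f^[k] t0).1.1 i = (f^[k + i] t0).1.1 0 := by
    intro i
    induction i with
    | zero => exact fun _ _ => rfl
    | succ i ih =>
      intro hi k
      rw [← f1 _ i (by omega), ← Function.iterate_succ_apply' f, ih (by omega), Nat.succ_add]
      rfl
  have e2 : ∀ i ≤ n, ∀ k, (f^[k] t0).1.2 i = (f^[k + i] t0).1.2 0 := by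
    intro i
    induction i with
    | zero => exact fun _ _ => rfl
    | succ i ih =>
      intro hi k
      rw [← f2 _ i (by omega), ← Function.iterate_succ_apply' f, ih (by omega), Nat.succ_add]
      rfl
  refine ⟨fun i => (f^[i + n] t0).1.1 0, fun i => (f^[i + n] t0).1.2 0, fun i => ?_, fun i => ?_,
    fun i => ?_⟩
  · have := (f^[i + n] t0).2.1 0 (by omega)
    rwa [e1 (0 + 1) (by omega), show i + n + (0 + 1) = i + 1 + n by omega] at this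
  · have := f3 (f^[i] t0)
    rwa [← Function.iterate_succ_apply' f, e2 n le_rfl, e2 n le_rfl, e1 _ le_rfl,
      show i + (n + 1) = i + 1 + n by omega] at this
  · have := (f^[i + n] t0).2.2
    rwa [e1 _ le_rfl, show i + n + (n + 1) = i + (n + 1) + n by omega] at this

end

/-- An infinite walk of critical pairs. -/
structure Wk {Γ : Type*} [Group Γ] (q n : ℕ) (G S Q Z : ℕ → Subgroup Γ) : Prop where
  two : 2 ≤ n
  lo : ∀ i, Loc q (G i) (S i) (Q i) (Z i)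
  lo' : ∀ i, Loc q (G (i + 1)) (S i) (Q (i + 1)) (Z (i + 1))
  gen : ∀ i, S i ⊔ S (i + 1) = G (i + 1)
  cr : ∀ i, ¬ Z (i + n) ≤ Q i
  nr : ∀ i j, i < j + n → j < i + n → Z i ≤ Q j
  ex1 : ∀ j, ∀ a ∈ G (j + 1), ∀ m ≤ j, j + 2 < m + n → Z m ≤ cj a (Q j) ∧ cj a (Z j) ≤ Q m
  ex2 : ∀ j, ∃ l ∈ G (j + 1), cj l (Z j) ≤ Q (j + n)

namespace Wk
variable {Γ : Type*} [Group Γ] {q n : ℕ} {G S Q Z : ℕ → Subgroup Γ} (h : Wk q n G S Q Z)
  {i j k : ℕ} {r s z : Γ}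
include h

theorem zs1 (i : ℕ) : Z (i + n) ≤ S i :=
  (h.nr _ _ (by omega) (by have := h.two; omega)).trans (h.lo' i).QS

theorem zs2 (e : k + 1 = i + n) : Z i ≤ S k :=
  (h.nr _ _ (by have := h.two; omega) (by omega)).trans (h.lo k).QS

theorem dec1 (e : k + 1 = i + n) (hs : s ∈ S k) : ∃ z ∈ Z i, ∃ y ∈ Q (k + 1), s = z * y :=
  (h.lo i).dec (h.lo' k) (e ▸ h.zs1 i) (h.zs2 e) (e ▸ h.cr i) hs

theorem dec2 (hs : s ∈ S i) : ∃ z ∈ Z (i + n), ∃ y ∈ Q i, s = z * y := by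
  obtain ⟨k, e⟩ : ∃ k, k + 1 = i + n := ⟨i + n - 1, by have := h.two; omega⟩
  rw [← e]
  exact (h.lo' k).dec (h.lo i) (h.zs2 e) (e ▸ h.zs1 i)
    ((h.lo i).crit (h.lo' k) (e ▸ h.zs1 i) (e ▸ h.cr i)) hs

omit h in
variable (S Z) in
/-- Single commutators. -/
def R (i : ℕ) (r : Γ) : Prop := ∃ z ∈ Z i, ∃ s ∈ S i, r = ⁅z, s⁆

theorem rz (hr : R S Z i r) : ∃ z ∈ Z i, ∃ z' ∈ Z (i + n), r = ⁅z', z⁆⁻¹ := by
  obtain ⟨z, hz, s, hs, rfl⟩ := hr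
  obtain ⟨z', hz', y, hy, rfl⟩ := h.dec2 hs
  exact ⟨z, hz, z', hz', by
    rw [comm_mul_cent (mem_cent.1 ((h.lo i).QZ hy) z hz), commutatorElement_inv]⟩

theorem r' (e : k + 1 = i + n) (hz : z ∈ Z (k + 1)) (hs : s ∈ S k) : R S Z i ⁅z, s⁆⁻¹ := by
  obtain ⟨z', hz', y, hy, rfl⟩ := h.dec1 e hs
  exact ⟨z', hz', z, h.zs1 i (e ▸ hz), by
    rw [comm_mul_cent (mem_cent.1 ((h.lo' k).QZ hy) z hz), commutatorElement_inv]⟩

theorem r1 (hr : R S Z i r) : r ∈ Z i := by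
  obtain ⟨z, hz, s, hs, rfl⟩ := hr
  exact commutator_le_left ((h.lo i).SG.trans (h.lo i).ZG) (commutator_mem_commutator hz hs)

theorem r3 (hi : n ≤ i) (hr : R S Z i r) : ∀ t k, k + t + 1 = i + n → i ≤ k → r ∈ 𝒞(S k)
  | 0, k, e, _ => by
    obtain ⟨z, hz, z', hz', rfl⟩ := h.rz hr
    exact Subgroup.inv_mem _ ((h.lo' k).c z' (by rwa [← e] at hz') z (h.zs2 e hz))
  | t + 1, k, e, hk => by
    have h1 := r3 hi hr t (k + 1) (by omega) (by omega)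
    have h2 : r ∈ Z (k + 1) := (h.lo _).oz ⟨(h.lo _).QS (h.nr _ _ (by omega) (by omega) (h.r1 hr)),
      (h.lo i).el _ (h.r1 hr), mem_cent.1 h1⟩
    refine mem_cent.2 fun s hs => ?_
    obtain ⟨z, hz, y, hy, rfl⟩ := h.dec1 (i := k + 1 - n) (by omega) hs
    exact mem_cent1.1 (Subgroup.mul_mem _
      (cent_le_cent1 (h.r1 hr) ((h.lo i).QZ (h.nr _ _ (by omega) (by omega) hz)))
      (cent_le_cent1 h2 ((h.lo _).QZ hy)))

theorem r4 (hi : n ≤ i) (hr : R S Z i r) (h1 : i ≤ k) (h2 : k + 1 < i + n) : r ∈ 𝒞(G (k + 1)) := by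
  rw [← h.gen, cent_sup]
  exact ⟨h.r3 hi hr (i + n - k - 1) k (by omega) h1,
    h.r3 hi hr (i + n - k - 2) (k + 1) (by omega) (by omega)⟩

theorem r5 (hr : R S Z i r) (hc : r ∈ 𝒞(G i)) : r = 1 := by
  obtain ⟨z, hz, s, hs, rfl⟩ := hr
  exact (h.lo i).d z hz s hs hc

theorem r6 (hr : R S Z i r) (e : k + 1 = i + n) (hc : r ∈ 𝒞(G (k + 1))) : r = 1 := by
  obtain ⟨z, hz, z', hz', rfl⟩ := h.rz hr
  rw [(h.lo' k).d z' (by rwa [← e] at hz') z (h.zs2 e hz) ((Subgroup.inv_mem_iff _).1 hc), inv_one]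

theorem zm (hj : 2 * n ≤ j) {a : Γ} (ha : a ∈ G (j + 1)) {m : ℕ} (h1 : m < j) (h2 : j + 2 ≤ m + n) :
    Z m ≤ cj a (Q j) := by
  rcases h2.lt_or_eq with h2 | h2
  · exact (h.ex1 j a ha m h1.le h2).1
  by_contra hc
  have i1 : Z m ≤ cj a (S j) := by
    refine (h.nr m (j + 1) (by omega) (by omega)).trans ?_
    rw [← H6.cj_eq_self_iff.2 ((h.lo' j).QG ha)]
    exact H6.cj_mono a (h.lo' j).QS
  have i2 : cj a (Z j) ≤ S m := (h.ex1 j a ha (m + 1) h1 (by omega)).2.trans (h.lo' m).QS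
  refine (h.lo m).not_comm (h.zs1 m) (h.cr m) fun s hs => mem_cent.2 fun z hz => ?_
  rw [← commutatorElement_eq_one_iff_mul_comm]
  refine h.r6 ⟨z, hz, s, h.zs1 m hs, rfl⟩ (k := j + 1) h2 ?_
  obtain ⟨_, ⟨z1, hz1, rfl⟩, y, hy, rfl⟩ := ((h.lo j).cj a).dec (h.lo m) i1 i2 hc (h.zs1 m hs)
  rw [comm_mul_cent (mem_cent.1 ((h.lo m).QZ hy) z hz), ← commutatorElement_inv]
  obtain ⟨s1, hs1, rfl⟩ := i1 hz
  have hr : R S Z j ⁅z1, s1⁆ := ⟨z1, hz1, s1, hs1, rfl⟩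
  rw [← map_commutatorElement]
  have e : (MulAut.conj a).toMonoidHom ⁅z1, s1⁆ = ⁅z1, s1⁆ :=
    mul_inv_eq_iff_eq_mul.2 (mem_cent.1 (h.r4 (by omega) hr le_rfl (by omega)) a ha)
  rw [e]
  exact Subgroup.inv_mem _ (h.r4 (by omega) hr (by omega) (by omega))

theorem key (hj : 2 * n ≤ j) {u a : Γ} (hu : u ∈ Z j) (ha : a ∈ Z (j + n + 1)) :
    u * (a * u * a⁻¹) ∈ Z (j + 1) := by
  have two := h.two
  have ha' : a ∈ Z (j + 1 + n) := by rwa [add_right_comm]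
  have aG : a ∈ G (j + 1) := (h.lo _).SG (h.zs1 _ ha')
  have uQ : u ∈ Q (j + 1) := h.nr _ _ (by omega) (by omega) hu
  have uu := (h.lo j).el u hu
  have aa := (h.lo _).el a ha
  have ui : u⁻¹ = u := inv_eq_of_mul_eq_one_right uu
  have ai : a⁻¹ = a := inv_eq_of_mul_eq_one_right aa
  have u'Q : a * u * a⁻¹ ∈ Q (j + 1) := H6.conj_mem_of_mem_normalizer ((h.lo _).QG aG) uQ
  have ec : u * (a * u * a⁻¹) = ⁅u, a⁆ := by rw [commutatorElement_def, ui]; group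
  set c := u * (a * u * a⁻¹) with hc
  have cQ : c ∈ Q (j + 1) := (Q _).mul_mem uQ u'Q
  by_cases c1 : a ∈ 𝒞(S (j + n))
  · have a1 : a ∈ Z (j + n) := (h.lo _).oz ⟨(h.lo' _).QS ((h.lo _).ZQ ha), aa, mem_cent.1 c1⟩
    have hr : R S Z j c := ⟨u, hu, a, h.zs1 j a1, ec⟩
    exact (h.lo' j).oz ⟨(h.lo' j).QS cQ, (h.lo j).el _ (h.r1 hr),
      mem_cent.1 (ec ▸ (h.lo j).c u hu a (h.zs1 j a1))⟩
  by_cases c2 : u ∈ 𝒞(S j)
  · have u1 : u ∈ Z (j + 1) := (h.lo' j).oz ⟨(h.lo' j).QS uQ, uu, mem_cent.1 c2⟩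
    exact (Z _).mul_mem u1 (H6.conj_mem_of_mem_normalizer ((h.lo _).ZG aG) u1)
  have cQ1 : c ∈ Q (j + n) := by
    obtain ⟨k, e⟩ : ∃ k, k + 1 = j + n := ⟨j + n - 1, by omega⟩
    have a2 : a ∈ Q (j + n) := h.nr _ _ (by omega) (by omega) ha
    rw [ec]
    refine commutator_le_right (?_ : Z j ≤ _) (commutator_mem_commutator hu a2)
    exact (h.zs2 e).trans (e ▸ (h.lo' k).SG.trans (h.lo' k).QG)
  have e1 : ⁅a, c⁆⁻¹ = c * c := by
    rw [commutatorElement_inv, commutatorElement_def, mul_assoc, mul_assoc]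
    congr 1
    rw [hc, ai]
    calc a * ((u * (a * u * a))⁻¹ * a) = (a * a⁻¹) * u⁻¹ * a⁻¹ * u⁻¹ * a := by group
      _ = u * (a * u * a) := by rw [mul_inv_cancel, ui, ai]; group
  have e2 : c * c = ⁅u, a * u * a⁻¹⁆ := by
    rw [commutatorElement_def, hc]
    calc _ = u * (a * u * a⁻¹) * u * (a * u * a⁻¹) := by group
      _ = u * (a * u * a⁻¹) * u⁻¹ * (a * u⁻¹ * a⁻¹) := by rw [ui]
      _ = _ := by group
  have cc : c * c = 1 := h.r5 (e1 ▸ h.r' (i := j + 1) (k := j + n) (by omega) ha ((h.lo _).QS cQ1))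
    (h.r4 (by omega) ⟨u, hu, _, (h.lo' j).QS u'Q, e2⟩ le_rfl (by omega))
  have ac : a * c = c * a := by
    rw [← commutatorElement_eq_one_iff_mul_comm, ← inv_eq_one, e1, cc]
  have uu' : u * (a * u * a⁻¹) = a * u * a⁻¹ * u := by
    rw [← commutatorElement_eq_one_iff_mul_comm, ← e2, cc]
  have cQ2 : c ∈ Q (j + n + 1) := by
    by_contra e
    exact c1 ((h.lo' _).a c ((h.lo _).QS cQ1) e a ha ac.symm)
  have cQ3 : c ∈ Q j := by
    by_contra e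
    refine c2 ((h.lo j).a c ((h.lo' j).QS cQ) e u hu ?_)
    rw [hc, mul_assoc, ← uu']
  have zc : ∀ m ≤ j + 1, j + 2 ≤ m + n → Z m ≤ 𝒞[c] := fun m m1 m2 => by
    rcases m1.lt_or_eq with m1 | rfl
    swap
    · exact le_cent1_iff.2 ((h.lo _).QZ cQ)
    rcases (Nat.lt_succ_iff.1 m1).lt_or_eq with m1 | rfl
    swap
    · exact le_cent1_iff.2 ((h.lo _).QZ cQ3)
    refine le_cent1_iff.2 (Subgroup.mul_mem _ ?_ ?_)
    · exact cent_comm.1 ((h.nr m j (by omega) (by omega)).trans (h.lo j).QZ) hu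
    · exact cent_comm.1 ((h.zm hj aG m1 m2).trans ((h.lo j).cj a).QZ) (H6.conj_mem_cj hu)
  have ind : ∀ i ≤ n, ∀ y ∈ Q (j + 1), ∃ y' ∈ Q (j + 1), y' ∈ Q (j + 1 + i) ∧
      (y' ∈ 𝒞[c] → y ∈ 𝒞[c]) := by
    intro i
    induction i with
    | zero => exact fun _ y hy => ⟨y, hy, hy, id⟩
    | succ i ih =>
      intro hi y hy
      obtain ⟨y', h1, h2, h3⟩ := ih (by omega) y hy
      obtain ⟨z, hz, y'', h4, rfl⟩ := h.dec1 (i := j + 2 + i - n) (by omega) ((h.lo _).QS h2)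
      exact ⟨y'', ((Q _).mul_mem_cancel_left (h.nr _ _ (by omega) (by omega) hz)).1 h1, h4,
        fun e => h3 (Subgroup.mul_mem _ (zc _ (by omega) (by omega) hz) e)⟩
  have qc : Q (j + 1) ≤ 𝒞[c] := fun y hy => by
    obtain ⟨y', h1, h2, h3⟩ := ind n le_rfl y hy
    refine h3 (mem_cent1.2 ?_)
    have hr : R S Z j ⁅u, y'⁆ := ⟨u, hu, y', (h.lo' j).QS h1, rfl⟩
    have r1 := mem_cent.1 (h.r4 (by omega) hr le_rfl (by omega))
    have r2 := (h.lo j).el _ (h.r1 hr)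
    have ya := mem_cent.1 ((h.lo _).QZ h2) a ha'
    have ra := r1 a aG
    have ru := r1 u ((h.lo _).SG ((h.lo _).QS uQ))
    have yu : y' * u = ⁅u, y'⁆ * u * y' := by
      rw [← inv_eq_of_mul_eq_one_right r2, commutatorElement_inv, commutatorElement_def]
      group
    generalize ⁅u, y'⁆ = r at *
    have ya' : y' * a⁻¹ = a⁻¹ * y' := by rw [ai, ya]
    calc y' * (u * (a * u * a⁻¹)) = (y' * u) * a * u * a⁻¹ := by group
      _ = r * u * (y' * a) * u * a⁻¹ := by rw [yu]; group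
      _ = r * u * a * (y' * u) * a⁻¹ := by rw [← ya]; group
      _ = r * u * (a * r) * u * (y' * a⁻¹) := by rw [yu]; group
      _ = r * (u * r) * a * u * a⁻¹ * y' := by rw [ra, ya']; group
      _ = (r * r) * u * a * u * a⁻¹ * y' := by rw [ru]; group
      _ = u * (a * u * a⁻¹) * y' := by rw [r2]; group
  refine (h.lo _).oz ⟨(h.lo _).QS cQ, cc, fun s hs => ?_⟩
  obtain ⟨z, hz, y, hy, rfl⟩ := h.dec2 hs
  exact mem_cent1.1 (Subgroup.mul_mem _ (le_cent1_iff.2 ((h.lo _).QZ cQ2) (by rwa [add_right_comm]))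
    (qc hy))

theorem false : False := by
  obtain ⟨l, hl, e⟩ := h.ex2 (2 * n)
  have two := h.two
  generalize hj : 2 * n = j at *
  have n1 : S j ≤ 𝒩((Z j ⊔ Z (j + 1) : Subgroup Γ)) := H1.le_normalizer_sup
    ((h.lo j).SG.trans (h.lo j).ZG) ((h.lo' j).SG.trans (h.lo' j).ZG)
  have n2 : Z (j + 1 + n) ≤ 𝒩((Z j ⊔ Z (j + 1) : Subgroup Γ)) := le_norm_of_cj fun a ha => by
    rw [H6.cj_sup, H6.cj_eq_self_iff.2 ((h.lo _).ZG ((h.lo _).SG (h.zs1 _ ha)))]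
    refine sup_le (H6.cj_le_iff.2 fun u hu => ?_) le_sup_right
    rw [← inv_mul_cancel_left u (a * u * a⁻¹)]
    exact mul_mem_sup ((Z j).inv_mem hu) (h.key hj.le hu (by rwa [add_right_comm]))
  have n3 : G (j + 1) ≤ 𝒩((Z j ⊔ Z (j + 1) : Subgroup Γ)) := by
    rw [← h.gen]
    refine sup_le n1 fun s hs => ?_
    obtain ⟨z, hz, y, hy, rfl⟩ := h.dec2 hs
    exact Subgroup.mul_mem _ (n2 hz) (n1 ((h.lo' j).QS hy))
  obtain ⟨k, ek⟩ : ∃ k, k + 1 = j + n := ⟨j + n - 1, by omega⟩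
  refine (h.lo j).crit (h.lo' k) (ek ▸ h.zs1 j) (ek ▸ h.cr j) (le_sup_left.trans
    (?_ : Z j ⊔ Z (j + 1) ≤ _))
  rw [← H6.cj_eq_self_iff.2 (n3 hl), H6.cj_sup, H6.cj_eq_self_iff.2 ((h.lo _).ZG hl), ek]
  exact sup_le e (h.nr _ _ (by omega) (by omega))

end Wk

theorem PUD.push {Γ : Type*} [Group Γ] {L B Q Z X : Subgroup Γ} {g : Γ} [Finite B]
    (h : PUD L B Q Z g) (hX : X ≤ 𝒩(B))
    (hN : ∀ N ≤ B, L ≤ 𝒩(N) → X ≤ 𝒩(N) → N = ⊥) : ∃ x ∈ X, ¬ cj x Z ≤ Q := by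
  classical
  by_contra hc
  push Not at hc
  have ex : ∃ n, ∃ d, Nr L X n d ∧ ¬ cj d Z ≤ Q := by
    by_contra hn
    push Not at hn
    have h1 : St.Wc Z (L ⊔ X) ⊤ ≤ B := St.Wc_le_iff.2 fun d hd _ => by
      obtain ⟨n, e⟩ := exists_nr hd
      exact (hn n d e).trans h.QB
    have h2 := hN _ h1 (St.le_norm_Wc le_sup_left (by rw [norm_top]; exact le_top))
      (St.le_norm_Wc le_sup_right (by rw [norm_top]; exact le_top))
    have := St.le_Wc (A := Z) (H := L ⊔ X) (Y := ⊤) (one_mem _) le_top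
    rw [H6.cj_one, h2] at this
    exact h.loc.not_cent (this.trans bot_le)
  obtain ⟨d, hd, cr⟩ := Nat.find_spec ex
  have far : Far L X Q Z (Nat.find ex) := fun m hm d hd => by
    by_contra e
    exact Nat.find_min ex hm ⟨d, hd, e⟩
  generalize Nat.find ex = n at hd far
  have two : 2 ≤ n := by
    match n, hd with
    | 0, hd => exact absurd ((h.ZL.cj_eq hd).le.trans h.ZQ) cr
    | 1, ⟨l, hl, x, hx, l', hl', e⟩ =>
      refine absurd ?_ cr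
      rw [e, ← H6.cj_cj, ← H6.cj_cj, h.ZL.cj_eq hl', ← h.QL.cj_eq hl]
      exact H6.cj_mono l (hc x hx)
    | n + 2, _ => omega
  obtain ⟨n, rfl⟩ : ∃ k, n = k + 1 := ⟨n - 1, by omega⟩
  obtain ⟨p, S, h1, h2, h3⟩ := h.walk hX hN far hd cr
  have nr : ∀ i k, Nr L X k ((p i)⁻¹ * p (i + k)) := fun i k =>
    walk_nr (N := i + k) (fun i _ => h1 i) i k le_rfl
  refine Wk.false (q := Q.relIndex B) (n := n + 1) (G := fun i => cj (p i) L) (S := S)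
    (Q := fun i => cj (p i) Q) (Z := fun i => cj (p i) Z) ⟨two, fun i => (h1 i).loc h.loc,
      fun i => ((h1 i).symm hX).loc h.loc, h2, h3, fun i j a b => ?_, fun j a ha m m1 m2 => ?_,
      fun j => ?_⟩
  · rcases le_total i j with e | e
    · obtain ⟨k, rfl⟩ := Nat.exists_eq_add_of_le e
      exact far.le' (nr i k) (by omega)
    · obtain ⟨k, rfl⟩ := Nat.exists_eq_add_of_le e
      exact far.le (nr j k) (by omega)
  · obtain ⟨k, rfl⟩ := Nat.exists_eq_add_of_le m1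
    have e1 : Nr L X (k + 1 + 1) ((p m)⁻¹ * (a * p (m + k))) := by
      have := ((nr m (k + 1)).mul_L (H6.mem_cj.1 ha)).mul (h1 (m + k)).nr.inv
      convert this using 1
      rw [← add_assoc]
      group
    simp only [H6.cj_cj]
    exact ⟨far.le' e1 (by omega), far.le e1 (by omega)⟩
  · obtain ⟨l1, hl1, x1, hx1, l1', hl1', e1, -⟩ := (h1 j).symm hX
    obtain ⟨l2, hl2, x2, hx2, l2', hl2', e2, -⟩ := h1 (j + 1)
    obtain ⟨k, rfl⟩ : ∃ k, n = k + 1 := ⟨n - 1, by omega⟩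
    refine ⟨p (j + 1) * (l2 * l1⁻¹) * (p (j + 1))⁻¹,
      H6.conj_mem_cj (L.mul_mem hl2 (L.inv_mem hl1)), ?_⟩
    simp only [H6.cj_cj]
    have e3 : Nr L X 1 (l1'⁻¹ * (x1⁻¹ * x2) * l2') :=
      ⟨_, L.inv_mem hl1', _, X.mul_mem (X.inv_mem hx1) hx2, _, hl2', rfl⟩
    refine far.le' (m := 1 + k) ?_ (by omega)
    convert e3.mul (nr (j + 1 + 1) k) using 1
    rw [show j + 1 + 1 + k = j + (k + 1 + 1) by omega, e2]
    generalize p (j + 1) = y at e1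
    rw [e1]
    group

end Cfsg.Agent.PU
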