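import Cfsg.Agent.Lib.PU.JB
import Cfsg.Agent.Lib.PU.Kill
import Cfsg.Agent.Lib.PU.End
import Cfsg.Agent.Lib.PU.AV

/-!
Reduction to the module theorem.
-/

set_option autoImplicit false

namespace Cfsg.Agent.PU

open Cfsg Cfsg.FusionSystem Subgroup Cfsg.Agent.FT
open Cfsg.Agent.H6 (cj RealizedIn SylIn)
open Cfsg.Agent.H9 (U4)
open Cfsg.Agent.SP (sA sB sZ sX)
open scoped commutatorElement

variable {H : Type*} [Group H] [Finite H]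

/-- The output of the module theorem, read in the group. -/
structure RD (T M L O V A : Subgroup H) : Prop where
  BL : Bm T ≤ L
  ne : ¬ L ≤ M
  CM : L ⊓ 𝒞(V) ≤ M
  OL : NormalIn O L
  OT : O ≤ T
  O2 : Op 2 ⊤ ≤ O
  syl : SylIn 2 O (L ⊓ 𝒞(V))
  VL : NormalIn V L
  el : El V
  VO : V ≤ O
  maxA : A ∈ MaxE T
  AO : ¬ A ≤ O
  BA : Bm T ≤ A ⊔ (O ⊓ Bm T)
  card : (𝒞(A)).relIndex V = O.relIndex A
  cen : ∀ s ∈ Bm T, s ∉ O → ∀ v ∈ V, s * v = v * s → v ∈ 𝒞(A)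
  quad : ∀ v ∈ V, ∀ s ∈ Bm T, ⁅v, s⁆ ∈ 𝒞(A)
  cls : ∀ s ∈ Bm T, s ∉ O → ∀ s' ∈ Bm T, s' ∉ O → ∃ l ∈ L, l * s * l⁻¹ * s'⁻¹ ∈ 𝒞(V)
  ti : ∀ l ∈ L, ∀ s ∈ Bm T, s ∉ O → ∀ s' ∈ Bm T, l * s * l⁻¹ * s'⁻¹ ∈ 𝒞(V) →
    cj l (Bm T) ≤ Bm T ⊔ (L ⊓ 𝒞(V))
  gen : ∀ l ∈ L, ¬ cj l A ≤ A ⊔ (L ⊓ 𝒞(V)) → A ⊔ cj l A ⊔ (L ⊓ 𝒞(V)) = L ∧
    (∀ v ∈ V, ∀ s ∈ Bm T, ⁅v, s⁆ ∈ 𝒞(cj l A) → ⁅v, s⁆ = 1) ∧
    V ≤ ⁅V, A ⊔ cj l A⁆ ⊔ ZJ T
  nn : ¬ L ≤ 𝒩((A ⊔ (L ⊓ 𝒞(V)) : Subgroup H))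

theorem exists_L {T M : Subgroup H} (hT : SylIn 2 T ⊤) (hTM : T ≤ M) (hM : M ≠ ⊤)
    (hJ : 𝒩(Je T) ≤ M) : ∃ L P T0, SylIn 2 P L ∧ Bm T ≤ P ∧ P ≤ T ∧ ¬ L ≤ M ∧ NormalIn T0 L ∧
      T0 ≤ P ∧ Op 2 ⊤ ≤ T0 ∧ ∀ X, Bm T ≤ X → T0 ≤ X → X ≤ L → X = L ∨ X ≤ M := by
  have hW : St.Wc (Bm T) ⊤ T = Bm T :=
    le_antisymm (St.Wc_le_iff.2 fun g _ hg => (cj_Bm_eq hg).le) (by
      have := St.le_Wc (A := Bm T) (H := ⊤) (Y := T) (g := 1) trivial (by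
        rw [H6.cj_one]; exact Bm_le T)
      rwa [H6.cj_one] at this)
  obtain ⟨g, -, L, -, T0, h0, h⟩ := St.exists_LL (syl_iff_sylIn.2 hT) hTM le_top
    (fun e => hM (top_le_iff.1 e)) (Bm_le T) (core_normal _ _) (St.Op2 _) (by
      rw [hW]
      refine inf_le_right.trans ((norm_le_Je _).trans ?_)
      rwa [Je_eq (Je_le_Bm T) (Bm_le T)])
  obtain ⟨P, hP, h1, h2⟩ := h.exists_syl
  rw [syl_iff_sylIn] at hP
  obtain ⟨m, hm, h3⟩ := (hT.mono hTM le_top).exists_cj_le hP.isPGroup (h2.trans inf_le_right)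
  have eB : cj m (cj g (Bm T)) = Bm T := by
    rw [H6.cj_cj]
    exact cj_Bm_eq (by rw [← H6.cj_cj]; exact (H6.cj_mono m h1).trans h3)
  have eM : cj m M = M := H6.cj_eq_self_of_mem hm
  refine ⟨cj m L, cj m P, cj m T0, hP.cj m, eB ▸ H6.cj_mono m h1, h3, fun e => h.ne ?_,
    h.T_norm.cj m, H6.cj_mono m (hP.le_of_le_normalizer h.T_p h.T_norm.le
      (hP.le.trans h.T_norm.norm)), ?_, fun X x1 x2 x3 => ?_⟩
  · rw [← eM, H6.cj_le_cj_iff] at e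
    exact le_inf le_rfl e
  · exact ((core_normal _ (⊤ : Subgroup H)).cj_eq (mem_top m)).ge.trans (H6.cj_mono m h0)
  · rw [← eB, H6.cj_le_iff_le_cj] at x1
    rw [H6.cj_le_iff_le_cj] at x2
    rcases h.min _ x1 x2 (by
      rw [H6.cj_le_iff_le_cj, inv_inv]; exact x3) with e | e
    · left; rw [← e, H6.cj_cj_inv]
    · right
      rw [← eM, ← inv_inv m, ← H6.cj_le_iff_le_cj]
      exact e.trans inf_le_right

theorem odd_cent {x v : H} (hx : Odd (orderOf x)) (h1 : x * v * x⁻¹ * v⁻¹ * (x * v * x⁻¹ * v⁻¹) = 1)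
    (h2 : x * (x * v * x⁻¹ * v⁻¹) = x * v * x⁻¹ * v⁻¹ * x) : x * v = v * x := by
  refine mem_cent1.1 (St.mem_of_odd_of_pow_mem hx (k := 1) (mem_cent1.2 ?_))
  generalize hc : x * v * x⁻¹ * v⁻¹ = c at h1 h2
  have e : x * v = c * v * x := by rw [← hc]; group
  calc x ^ 2 ^ 1 * v = x * (x * v) := by rw [pow_one, pow_two, mul_assoc]
    _ = (x * c) * v * x := by rw [e]; group
    _ = c * (x * v) * x := by rw [h2]; group
    _ = (c * c) * v * x * x := by rw [e]; group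
    _ = v * x ^ 2 ^ 1 := by rw [h1, pow_one, pow_two]; group

/-- The measure count for a member of `MaxE`. -/
theorem maxE_count {T A V C : Subgroup H} (hA : A ∈ MaxE T) (he : El V) (hV : V ≤ T)
    (hC : C ≤ 𝒞(V)) (hVC : V ≤ C) :
    Nat.card V ≤ C.relIndex A * Nat.card (V ⊓ A : Subgroup H) := by
  have hc : C ⊓ A ≤ 𝒞(V) := inf_le_left.trans hC
  have h1 := hA.2.2 (C ⊓ A ⊔ V) (sup_le (inf_le_right.trans hA.1) hV)
    (El.sup (hA.2.1.mono inf_le_right) he (cent_comm.1 hc))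
  have h2 := H1.card_sup_mul_card_inf (hc.trans cent_le_norm)
  have e : C ⊓ A ⊓ V = V ⊓ A :=
    le_antisymm (le_inf inf_le_right (inf_le_left.trans inf_le_right))
      (le_inf (le_inf (inf_le_left.trans hVC) inf_le_right) inf_le_left)
  rw [e] at h2
  rw [H6.card_eq_relIndex_mul_inf C A] at h1
  refine Nat.le_of_mul_le_mul_left ?_ (Nat.card_pos (α := (C ⊓ A : Subgroup H)))
  rw [← h2]
  calc _ ≤ C.relIndex A * Nat.card (C ⊓ A : Subgroup H) * Nat.card (V ⊓ A : Subgroup H) :=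
        Nat.mul_le_mul_right _ h1
    _ = _ := by ring

theorem exists_RD {T M : Subgroup H} (hT : SylIn 2 T ⊤) (h0 : T ≠ ⊥) (hTM : T ≤ M) (hM : M ≠ ⊤)
    (cc : 𝒞(Op 2 (⊤ : Subgroup H)) ≤ Op 2 ⊤) (sol : SolCh T ⊤) (hJ : 𝒩(Je T) ≤ M)
    (hZ : 𝒩(OZ T) ≤ M) : ∃ L O V A, RD T M L O V A := by
  obtain ⟨L, P, T0, hP, hBP, hPT, hne, n0, h0P, hO0, hmin⟩ := exists_L hT hTM hM hJ
  have hBL : Bm T ≤ L := hBP.trans hP.le
  have zO : ∀ X : Subgroup H, Op 2 ⊤ ≤ X → OZ X ≤ Op 2 ⊤ := fun X hX z hz =>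
    cc (mem_cent.2 fun s hs => hz.2.2 s (hX hs))
  set V := St.Wc (OZ P) L ⊤ with hVd
  have hzV : OZ P ≤ V := by
    have := St.le_Wc (A := OZ P) (H := L) (Y := ⊤) L.one_mem le_top
    rwa [H6.cj_one] at this
  have hV0 : V ≤ T0 := St.Wc_le_iff.2 fun g hg _ => by
    rw [← n0.cj_eq hg]
    exact H6.cj_mono g ((zO P (hO0.trans h0P)).trans hO0)
  have nV : NormalIn V L := ⟨hV0.trans n0.le, St.le_norm_Wc le_rfl (by rw [norm_top]; exact le_top)⟩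
  have cenV : ∀ N, NormalIn N L → N ≤ P → N ≤ 𝒞(V) := fun N hN hNP =>
    cent_comm.1 (St.Wc_le_iff.2 fun g hg _ => by
      rw [← hN.cj_eq hg, ← H6.cj_centralizer]
      exact H6.cj_mono g fun z hz => mem_cent.2 fun s hs => hz.2.2 s (hNP hs))
  have c0 : T0 ≤ 𝒞(V) := cenV T0 n0 h0P
  have eV : El V := by
    have : V ≤ OZ V := St.Wc_le_iff.2 fun g hg h' z hz => by
      have hz' : z ∈ V := St.le_Wc hg h' hz
      refine ⟨hz', ?_, mem_cent.1 (c0 (hV0 hz'))⟩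
      obtain ⟨y, hy, rfl⟩ := hz
      rw [← map_mul, hy.2.1, map_one]
    exact (el_OZ V).mono this
  have hVT : V ≤ T := hV0.trans (h0P.trans hPT)
  set C := L ⊓ 𝒞(V) with hCd
  have nC : NormalIn C L := (NormalIn.refl L).inf_centralizer nV.norm
  have CM : C ≤ M := by
    refine inf_le_right.trans ((cent_le_cent (le_trans ?_ hzV)).trans (cent_le_norm.trans hZ))
    exact fun z hz => ⟨h0P (hO0 (zO T (hO0.trans (h0P.trans hPT)) hz)), hz.2.1,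
      fun s hs => hz.2.2 s (hPT hs)⟩
  have fra : ∀ N, NormalIn N L → N ≤ M → NormalIn (P ⊓ N) L := fun N hN hNM => by
    have hPn : P ≤ L ⊓ 𝒩((P ⊓ N : Subgroup H)) :=
      le_inf hP.le (H1.le_normalizer_inf le_normalizer (hP.le.trans hN.norm))
    refine ⟨inf_le_left.trans hP.le, ?_⟩
    rcases hmin _ (hBP.trans hPn) (h0P.trans hPn) inf_le_left with e | e
    · exact e ▸ inf_le_right
    · refine absurd (fun l hl => ?_) hne
      obtain ⟨n, hn, h'⟩ := (hP.inf_of_normal hN.le hN.norm).frattini hN.norm hl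
      exact (M.mul_mem_cancel_left (hNM hn)).1 (e ⟨L.mul_mem (hN.le hn) hl, h'⟩)
  have kerN : ∀ N, NormalIn N L → St.Od N ≤ 𝒞(V) → N ≤ C := fun N hN hO => by
    have e := St.Od_sup_syl (syl_iff_sylIn.2 (hP.inf_of_normal hN.le hN.norm))
    have hNM : N ≤ M := e ▸ sup_le ((le_inf ((St.Od_le N).trans hN.le) hO).trans CM)
      (inf_le_left.trans (hPT.trans hTM))
    exact le_inf hN.le (e ▸ sup_le hO (cenV _ (fra N hN hNM) inf_le_left))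
  have nO : NormalIn (P ⊓ C) L := fra C nC CM
  have h0C : T0 ≤ C := le_inf n0.le c0
  obtain ⟨A, hA, hAO⟩ : ∃ A ∈ MaxE T, ¬ A ≤ P ⊓ C := by
    by_contra hc
    push Not at hc
    refine hne ((nO.norm.trans (norm_le_Je _)).trans ?_)
    rwa [Je_eq (sSup_le hc) (inf_le_left.trans hPT)]
  have aB : ∀ A' ∈ MaxE T, A' ≤ Bm T := fun A' h' => (le_Je h').trans (Je_le_Bm T)
  have nV0 : NormalIn (V ⊓ 𝒞(St.Od L)) L := nV.inf_centralizer (St.Od_normal L).norm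
  obtain ⟨G, W, _, _, _, _, _, f, π, s⟩ := exists_sec nV nV0 inf_le_left eV
  have two : ∀ w w' : W, w + w' = w - w' := fun w w' => by
    rw [sub_eq_add_neg, neg_eq_of_add_eq_zero_left (s.mod.two w')]
  have cmm : ∀ l : L, ∀ v ∈ V, π (l * v * (l : H)⁻¹ * v⁻¹) = f l • π v - π v := fun l v hv => by
    rw [s.add _ (nV.conj_mem l.2 hv) _ (V.inv_mem hv), s.act l v hv, eV.inv hv, two]
  have oc : ∀ l : L, Odd (orderOf (l : H)) → ∀ v ∈ V, f l • π v = π v → (l : H) * v = v * l :=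
    fun l ho v hv e => by
      have m1 := V.mul_mem (nV.conj_mem l.2 hv) (V.inv_mem hv)
      have m2 := (s.zero _ m1).1 (by rw [cmm l v hv, e, sub_self])
      exact odd_cent ho (eV _ m1) (mem_cent.1 m2.2 _ (St.mem_Od l.2 ho))
  have fixc : ∀ l : L, ∀ v ∈ V, (l : H) * v = v * l → f l • π v = π v := fun l v hv e => by
    rw [← s.act l v hv, e, mul_inv_cancel_right]
  have kerO : ∀ N ≤ L, (∀ l : L, (l : H) ∈ N → Odd (orderOf (l : H)) → f l = 1) →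
      St.Od N ≤ 𝒞(V) := fun N hN h => St.Od_le_iff.2 fun x hx ho => mem_cent.2 fun v hv =>
    (oc ⟨x, hN hx⟩ ho v hv (by rw [h ⟨x, hN hx⟩ hx ho, one_smul])).symm
  have hK : mpre f ⊥ = C := by
    refine le_antisymm (kerN _ (normalIn_ker f) (kerO _ (mpre_le _ _) fun l hl _ => ?_)) fun x hx => ?_
    · obtain ⟨_, e⟩ := mem_mpre.1 hl
      exact mem_bot.1 e
    · refine mem_mpre.2 ⟨hx.1, mem_bot.2 (s.mod.faith _ fun w => ?_)⟩
      obtain ⟨v, hv, rfl⟩ := s.onto w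
      exact fixc _ v hv (mem_cent.1 hx.2 v hv).symm
  have f1 : ∀ l : L, f l = 1 ↔ (l : H) ∈ C := fun l => by
    rw [← hK, mem_mpre]
    exact ⟨fun e => ⟨l.2, e⟩, fun ⟨_, e⟩ => e⟩
  have hr : f.range = ⊤ := MonoidHom.range_eq_top.2 s.surj
  have mtop : mim f L = ⊤ := by rw [mim_dom, hr]
  have mle : ∀ X ≤ L, ∀ Y ≤ L, mim f X ≤ mim f Y ↔ X ≤ C ⊔ Y := fun X hX Y hY => by
    rw [mim_le_iff hX, mpre_mim hY, hK]
  obtain ⟨U1, u1, u2, cW⟩ := s.cnt ⊤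
  rw [le_antisymm u1 (fun v hv => (u2 v hv).2 trivial), AddSubgroup.card_top] at cW
  have pos : 0 < Nat.card (V ⊓ 𝒞(St.Od L) : Subgroup H) := Nat.card_pos
  have cA : ∀ A' ∈ MaxE T, Nat.card (mim f A') = C.relIndex A' := fun A' h' => by
    rw [card_mim ((aB A' h').trans hBL), hK]
  have inA : ∀ A' ∈ MaxE T, ∀ v ∈ V, v ∈ A' → π v ∈ fx W (mim f A') := fun A' h' v hv hvA a ha => by
    obtain ⟨l, hl, rfl⟩ := mem_mim.1 ha
    exact fixc l v hv (h'.2.1.comm hl hvA)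
  have off : ∀ A' ∈ MaxE T, mim f A' ≤ mim f (Bm T) ∧ El (mim f A') ∧
      Nat.card W ≤ Nat.card (mim f A') * Nat.card (fx W (mim f A')) := fun A' h' => by
    refine ⟨mim_mono (aB A' h'), el_iff.2 (mim_elem (el_iff.1 h'.2.1)), ?_⟩
    obtain ⟨U, -, u2, u3⟩ := s.cnt (fx W (mim f A'))
    have h1 := maxE_count h' eV hVT (C := C) inf_le_right (hV0.trans h0C)
    have h2 : Nat.card (V ⊓ A' : Subgroup H) ≤ Nat.card U :=
      card_le_of_le fun v hv => (u2 v hv.1).2 (inA A' h' v hv.1 hv.2)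
    rw [cW, ← cA A' h'] at h1
    rw [u3] at h2
    refine Nat.le_of_mul_le_mul_left (h1.trans ((Nat.mul_le_mul_left _ h2).trans_eq ?_)) pos
    ring
  have hAb : mim f A ≠ ⊥ := fun e => hAO (le_inf ((aB A hA).trans hBP) (by
    rwa [mim_eq_bot_iff ((aB A hA).trans hBL), hK] at e))
  have sP : SylIn 2 (mim f P) ⊤ := mtop ▸ syl_iff_sylIn.1 ((syl_iff_sylIn.2 hP).mim le_rfl f)
  have ff0 : FF0 W (mim f P) (mim f (Bm T)) (mim f (L ⊓ M)) := by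
    refine ⟨s.mod, sP, mim_mono hBP, mim_mono (le_inf hP.le (hPT.trans hTM)), fun e => hne ?_,
      fun X hX => ?_, fun N hN hN2 => ?_, ?_, ?_, mim f A, mim_mono ((aB A hA).trans hBP),
      (off A hA).2.1, hAb, (off A hA).2.2⟩
    · exact ((mle L le_rfl _ inf_le_left).1 (e ▸ le_top)).trans (sup_le CM inf_le_right)
    · have eX : mim f (mpre f X) = X := mim_mpre (hr ▸ le_top)
      rcases hmin (mpre f X) ((mim_le_iff hBL).1 hX) (h0C.trans (hK ▸ mpre_mono bot_le))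
        (mpre_le _ _) with e | e
      · left; rw [← eX, e, mtop]
      · right; rw [← eX]; exact mim_mono (le_inf (mpre_le _ _) e)
    · have nN : NormalIn (mpre f N) L := by
        have := (NormalIn.of_normal N).mpre f
        rwa [← mtop, mpre_mim le_rfl, sup_eq_right.2 (mpre_le _ _)] at this
      rw [← mim_mpre (f := f) (U := N) (hr ▸ le_top), mim_eq_bot_iff nN.le, hK]
      refine kerN _ nN (kerO _ nN.le fun l hl ho => ?_)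
      obtain ⟨_, e⟩ := mem_mpre.1 hl
      obtain ⟨k, hk⟩ := H6.isPGroup_subgroup_iff.1 hN2 _ e
      exact St.eq_one_of_odd_of_pow (ho.of_dvd_nat (by
        rw [Subgroup.orderOf_coe]; exact orderOf_map_dvd f l)) hk
    · refine eq_bot_iff.2 fun w hw => ?_
      obtain ⟨v, hv, rfl⟩ := s.onto w
      refine (s.zero v hv).2 ⟨hv, ?_⟩
      refine le_cent1_iff.1 (St.Od_le_iff.2 fun x hx ho => mem_cent1.2 ?_)
      exact oc ⟨x, hx⟩ ho v hv (hw _ trivial)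
    · have h1 := ((sol.mono hPT (le_top : L ≤ ⊤)).subgroupOf hP.le).map
        (H6.sylIn_top hP.toSylow) f
      rw [← MonoidHom.range_eq_map, hr] at h1
      exact h1.sol sP
  have key : ∀ A' ∈ MaxE T, (∀ v ∈ V, π v ∈ fx W (mim f A') ↔ v ∈ A') ∧
      Nat.card V = C.relIndex A' * Nat.card (V ⊓ A' : Subgroup H) := fun A' h' => by
    obtain ⟨U, u1, u2, u3⟩ := s.cnt (fx W (mim f A'))
    have h1 := maxE_count h' eV hVT (C := C) inf_le_right (hV0.trans h0C)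
    have h2 : V ⊓ A' ≤ U := fun v hv => (u2 v hv.1).2 (inA A' h' v hv.1 hv.2)
    have h3 : C.relIndex A' * Nat.card U ≤ Nat.card V := by
      rw [cW, u3, ← cA A' h', mul_left_comm]
      exact Nat.mul_le_mul_left _ (ff0.nov _ (off A' h').2.1)
    have h4 : V ⊓ A' = U := eq_of_le_of_card_ge h2 (Nat.le_of_mul_le_mul_left (h3.trans h1)
      (cA A' h' ▸ Nat.card_pos))
    refine ⟨fun v hv => ⟨fun e => ?_, inA A' h' v hv⟩, le_antisymm h1 (h4 ▸ h3)⟩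
    have := (u2 v hv).2 e
    rw [← h4] at this
    exact this.2
  obtain ⟨qB, alt, cls, ⟨g0, hg0⟩, ti, gen⟩ := ff0.ff (mim f '' MaxE T)
    (by rintro _ ⟨A', h', rfl⟩; exact off A' h') ⟨_, ⟨A, hA, rfl⟩, hAb⟩ (fun w hw b hb => by
      obtain ⟨v, hv, rfl⟩ := s.onto w
      obtain ⟨l, hl, rfl⟩ := mem_mim.1 hb
      exact fixc l v hv (mem_cent.1 hl.2 v (mem_ZJ.2 ⟨hVT hv, fun A' h' =>
        ((key A' h').1 v hv).1 (hw _ ⟨A', h', rfl⟩)⟩)).symm)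
  have eA : mim f A = mim f (Bm T) := (alt _ ⟨A, hA, rfl⟩).resolve_left hAb
  have hAL : A ≤ L := (aB A hA).trans hBL
  have kA : ∀ v ∈ V, π v ∈ fx W (mim f (Bm T)) ↔ v ∈ A := eA ▸ (key A hA).1
  have cAA : A ≤ 𝒞(A) := fun a ha => mem_cent.2 fun b hb => hA.2.1.comm hb ha
  have BA : Bm T ≤ A ⊔ (P ⊓ C ⊓ Bm T) := fun b hb => by
    obtain ⟨a, ha, e⟩ := mem_mim.1 (eA ▸ mem_mim_of_mem (f := f) hb (hBL hb))
    have m : (a : H)⁻¹ * b ∈ Bm T := (Bm T).mul_mem ((Bm T).inv_mem (aB A hA ha)) hb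
    have := (f1 (a⁻¹ * ⟨b, hBL hb⟩)).1 (by rw [map_mul, map_inv, e, inv_mul_cancel])
    rw [← mul_inv_cancel_left (a : H) b]
    exact mul_mem_sup ha ⟨⟨hBP m, this⟩, m⟩
  have VA : ∀ v ∈ V, v ∈ A → v ∈ 𝒞(Bm T) := fun v hv hvA =>
    le_cent1_iff.1 (BA.trans (sup_le (le_cent1_iff.2 (cAA hvA)) fun x hx =>
      mem_cent1.2 (mem_cent.1 hx.1.2.2 v hv).symm))
  have ne1 : ∀ s' (hs : s' ∈ Bm T), s' ∉ P ⊓ C → f ⟨s', hBL hs⟩ ≠ 1 := fun s' hs h' e =>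
    h' ⟨hBP hs, (f1 _).1 e⟩
  have cm2 : ∀ l : L, ∀ v ∈ V, ⁅v, (l : H)⁆ ∈ V ∧ π ⁅v, (l : H)⁆ = f l • π v - π v := fun l v hv => by
    have m1 := V.mul_mem (nV.conj_mem l.2 hv) (V.inv_mem hv)
    rw [← commutatorElement_inv, commutatorElement_def, eV.inv m1]
    exact ⟨m1, cmm l v hv⟩
  refine ⟨L, P ⊓ C, V, A, hBL, hne, CM, nO, inf_le_left.trans hPT, hO0.trans (le_inf h0P h0C),
    hP.inf_of_normal nC.le nC.norm, nV, eV, hV0.trans (le_inf h0P h0C), hA, hAO, BA, ?_,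
    fun b hb hbO v hv e => ?_, fun v hv b hb => ?_, fun b hb hbO b' hb' hbO' => ?_,
    fun l hl b hb hbO b' hb' e => ?_, fun l hl hn => ?_, fun hn => hg0 ?_⟩
  · have e1 : 𝒞(A) ⊓ V = V ⊓ A := le_antisymm (fun v hv => ⟨hv.2, MaxE.mem_of_comm hA (hVT hv.2)
      (eV v hv.2) (mem_cent.1 hv.1)⟩) fun v hv => ⟨cAA hv.2, hv.1⟩
    have e2 := H6.card_eq_relIndex_mul_inf 𝒞(A) V
    rw [e1, (key A hA).2] at e2
    rw [← Nat.eq_of_mul_eq_mul_right Nat.card_pos e2, inf_comm P C, ← inf_relIndex_right (C ⊓ P),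
      inf_assoc, inf_eq_right.2 ((aB A hA).trans hBP), inf_relIndex_right]
  · exact cAA ((kA v hv).1 (qB.cen _ (mem_mim_of_mem hb (hBL hb)) (ne1 b hb hbO) _
      (fixc ⟨b, hBL hb⟩ v hv e)))
  · obtain ⟨m, e⟩ := cm2 ⟨b, hBL hb⟩ v hv
    exact cAA ((kA _ m).1 (e ▸ qB.quad _ (mem_mim_of_mem hb (hBL hb)) _))
  · obtain ⟨c, hc⟩ := isConj_iff.1 (cls _ (mem_mim_of_mem hb (hBL hb)) (ne1 b hb hbO) _
      (mem_mim_of_mem hb' (hBL hb')) (ne1 b' hb' hbO'))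
    obtain ⟨l, rfl⟩ := s.surj c
    refine ⟨l, l.2, ((f1 (l * ⟨b, hBL hb⟩ * l⁻¹ * ⟨b', hBL hb'⟩⁻¹)).1 ?_).2⟩
    rw [map_mul, map_mul, map_mul, map_inv, map_inv, hc, mul_inv_cancel]
  · have e1 := (f1 (⟨l, hl⟩ * ⟨b, hBL hb⟩ * ⟨l, hl⟩⁻¹ * ⟨b', hBL hb'⟩⁻¹)).2
      ⟨(⟨l, hl⟩ * ⟨b, hBL hb⟩ * ⟨l, hl⟩⁻¹ * ⟨b', hBL hb'⟩⁻¹ : L).2, e⟩
    rw [map_mul, map_mul, map_mul, map_inv, map_inv, mul_inv_eq_one] at e1
    have e2 := ti (f ⟨l, hl⟩) _ (mem_mim_of_mem hb' (hBL hb')) (fun e3 => ne1 b hb hbO (by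
      rw [e3] at e1
      exact conj_eq_one_iff.1 e1)) (e1 ▸ H6.conj_mem_cj (mem_mim_of_mem hb (hBL hb)))
    rw [← mim_cj hl] at e2
    rw [sup_comm]
    exact (mle _ (H6.cj_le_of_mem hl hBL) _ hBL).1 e2.le
  · have hlA : cj l A ≤ L := H6.cj_le_of_mem hl hAL
    have eY : mim f (cj l A) = cj (f ⟨l, hl⟩) (mim f (Bm T)) := by rw [mim_cj hl, eA]
    have hn' : cj (f ⟨l, hl⟩) (mim f (Bm T)) ≠ mim f (Bm T) := fun e => hn (by
      rw [sup_comm]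
      exact (mle _ hlA _ hAL).1 (by rw [eY, e, eA]))
    obtain ⟨ln, gn⟩ := gen _ hn'
    have qY := qB.cj (f ⟨l, hl⟩)
    have cc' : Nat.card (mim f (Bm T)) = Nat.card (cj (f ⟨l, hl⟩) (mim f (Bm T))) :=
      (H6.card_cj _ _).symm
    have c0 : ∀ w, w ∈ fx W (mim f (Bm T)) → w ∈ fx W (cj (f ⟨l, hl⟩) (mim f (Bm T))) → w = 0 :=
      fun w h1 h2 => by
        have : w ∈ fx W (⊤ : Subgroup G) := by rw [← gn, fx_sup]; exact ⟨h1, h2⟩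
        rwa [ff0.fix] at this
    refine ⟨le_antisymm (sup_le (sup_le hAL hlA) inf_le_left) ?_, fun v hv b hb e => ?_,
      fun v hv => ?_⟩
    · rw [sup_comm]
      refine (mle _ le_rfl _ (sup_le hAL hlA)).1 ?_
      rw [mim_sup hAL hlA, eY, eA, gn]
      exact le_top
    · obtain ⟨m, e1⟩ := cm2 ⟨b, hBL hb⟩ v hv
      have e2 := ln.l _ (mem_mim_of_mem hb (hBL hb)) (π v) (by
        rw [← e1, ← eY]
        intro a ha
        obtain ⟨x, hx, rfl⟩ := mem_mim.1 ha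
        exact fixc x _ m (mem_cent.1 e x hx))
      rw [commutatorElement_eq_one_iff_mul_comm]
      by_cases hbO : b ∈ P ⊓ C
      · exact mem_cent.1 hbO.2.2 v hv
      · exact (mem_cent.1 (VA v hv ((kA v hv).1 (qB.cen _ (mem_mim_of_mem hb (hBL hb))
          (ne1 b hb hbO) _ e2))) b hb).symm
    · have aux : ∀ X ≤ A ⊔ cj l A, ∀ Y : Subgroup G, Quad W (mim f X) → Quad W Y →
          Nat.card (mim f X) = Nat.card Y → Line W (mim f X) Y →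
          (∀ w, w ∈ fx W (mim f X) → w ∈ fx W Y → w = 0) → ∀ w ∈ fx W (mim f X),
          ∃ c ∈ ⁅V, A ⊔ cj l A⁆, c ∈ V ∧ π c = w := fun X hX Y q1 q2 q3 q4 q5 w hw => by
        obtain ⟨a, ha, ha1⟩ := (ne_bot_iff_exists_ne_one' _).1 q1.ne
        obtain ⟨w', -, e⟩ := q4.onto' s.mod q1 q2 q3 ha ha1 hw
        obtain ⟨x, hx, rfl⟩ := mem_mim.1 ha
        obtain ⟨v', hv', rfl⟩ := s.onto w'
        obtain ⟨m, e1⟩ := cm2 x v' hv'
        refine ⟨_, commutator_mem_commutator hv' (hX hx), m, ?_⟩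
        rw [e1]
        exact sub_eq_zero.1 (q5 _ ((fx W _).sub_mem (q1.quad _ ha _) hw) e)
      obtain ⟨w1, hw1, w2, hw2, e⟩ := exists_add_of_sup (ln.sup s.mod qB qY cc') (π v)
      obtain ⟨c1, m1, m1', e1⟩ := aux A le_sup_left _ (eA ▸ qB) qY (eA ▸ cc') (eA ▸ ln) (eA ▸ c0)
        w1 (eA ▸ hw1)
      obtain ⟨c2, m2, m2', e2⟩ := aux (cj l A) le_sup_right _ (eY ▸ qY) qB (eY ▸ cc'.symm)
        (eY ▸ ln.symm) (eY ▸ fun w h1 h2 => c0 w h2 h1) w2 (eY ▸ hw2)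
      have m3 := V.mul_mem (V.mul_mem m1' m2') hv
      have e3 : π (c1 * c2 * v) = 0 := by
        rw [s.add _ (V.mul_mem m1' m2') _ hv, s.add _ m1' _ m2', e1, e2, ← e, s.mod.two]
      have m4 : c1 * c2 * v ∈ ZJ T := mem_ZJ.2 ⟨hVT m3, fun A' h' =>
        ((key A' h').1 _ m3).1 (e3 ▸ (fx W _).zero_mem)⟩
      rw [← inv_mul_cancel_left (c1 * c2) v]
      exact mul_mem_sup (Subgroup.inv_mem _ (Subgroup.mul_mem _ m1 m2)) m4
  · obtain ⟨l, rfl⟩ := s.surj g0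
    have e1 : mim f (A ⊔ C) = mim f (Bm T) := by
      rw [mim_sup hAL nC.le, (mim_eq_bot_iff nC.le).2 hK.ge, sup_bot_eq, eA]
    rw [← e1, ← mim_cj l.2, H6.cj_eq_self_iff.2 (hn l.2)]

end Cfsg.Agent.PU
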