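import Cfsg.Agent.Lib.PU.Red1

/-!
The Baumann argument.
-/

set_option autoImplicit false

namespace Cfsg.Agent.PU

open Cfsg Cfsg.FusionSystem Subgroup Cfsg.Agent.FT
open Cfsg.Agent.H6 (cj RealizedIn SylIn)
open Cfsg.Agent.H9 (U4)
open Cfsg.Agent.SP (sA sB sZ sX)
open scoped commutatorElement

variable {H : Type*} [Group H] [Finite H]

theorem RD.pud {T M L O V A : Subgroup H} (hT : IsPGroup 2 T) (h : RD T M L O V A) :
    ∃ L' Q Z g, PUD L' (Bm T) Q Z g ∧ ¬ L' ≤ M ∧ Op 2 ⊤ ⊓ Bm T ≤ Q := by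
  set C := L ⊓ 𝒞(V) with hCd
  have nC : NormalIn C L := (NormalIn.refl L).inf_centralizer h.VL.norm
  have hAB : A ≤ Bm T := (le_Je h.maxA).trans (Je_le_Bm T)
  have hAL : A ≤ L := hAB.trans h.BL
  have hOC : O ≤ 𝒞(V) := h.syl.le.trans inf_le_right
  have pC : ∀ X ≤ C, IsPGroup 2 X → X ≤ O := fun X h1 h2 =>
    h.syl.le_of_normalizes h2 h1 ((h1.trans nC.le).trans h.OL.norm)
  obtain ⟨E, ⟨hAE, hEL, hEC⟩, hmin⟩ := H7.exists_min_card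
    (𝓒 := {E : Subgroup H | A ≤ E ∧ E ≤ L ∧ E ⊔ C = L}) ⟨L, hAL, le_rfl, sup_eq_left.2 nC.le⟩
  obtain ⟨g, hg, hgA⟩ : ∃ g ∈ E, ¬ cj g A ≤ A ⊔ C := by
    by_contra hc
    push Not at hc
    refine h.nn (hEC.ge.trans (sup_le (fun e he => H6.mem_normalizer_of_cj_le ?_)
      (le_sup_right.trans le_normalizer)))
    rw [H6.cj_sup, nC.cj_eq (hEL he)]
    exact sup_le (hc e he) le_sup_right
  obtain ⟨g1, g2, -⟩ := h.gen g (hEL hg) hgA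
  have hgE : cj g A ≤ E := H6.cj_le_of_mem hg hAE
  have eE : A ⊔ cj g A = E := eq_of_le_of_card_ge (sup_le hAE hgE)
    (hmin _ ⟨le_sup_left, (sup_le hAE hgE).trans hEL, g1⟩)
  have cAA : A ≤ 𝒞(A) := fun a ha => mem_cent.2 fun b hb => h.maxA.2.1.comm hb ha
  have hVT : V ≤ T := h.VO.trans h.OT
  have hY : O ⊓ A ⊔ V ∈ MaxE T := by
    have hc : O ⊓ A ≤ 𝒞(V) := inf_le_left.trans hOC
    refine ⟨sup_le (inf_le_left.trans h.OT) hVT,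
      El.sup (h.maxA.2.1.mono inf_le_right) h.el (cent_comm.1 hc), fun A' h1 h2 =>
        (h.maxA.2.2 A' h1 h2).trans (le_of_eq ?_)⟩
    have h2 := H1.card_sup_mul_card_inf (hc.trans cent_le_norm)
    have e : O ⊓ A ⊓ V = 𝒞(A) ⊓ V := le_antisymm (inf_le_inf_right _ (inf_le_right.trans cAA))
      fun v hv => ⟨⟨h.VO hv.2, MaxE.mem_of_comm h.maxA (hVT hv.2) (h.el v hv.2) (mem_cent.1 hv.1)⟩,
        hv.2⟩
    rw [e, H6.card_eq_relIndex_mul_inf 𝒞(A) V, h.card, ← mul_assoc] at h2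
    rw [Nat.eq_of_mul_eq_mul_right Nat.card_pos h2, H6.card_eq_relIndex_mul_inf O A, mul_comm]
  have hYO : O ⊓ A ⊔ V ≤ O := sup_le inf_le_left h.VO
  have hVW : V ≤ ZJ O := fun v hv => mem_ZJ.2 ⟨h.VO hv, fun A' h' =>
    MaxE.mem_of_comm h' (h.VO hv) (h.el v hv) fun a ha => (mem_cent.1 (hOC (h'.1 ha)) v hv).symm⟩
  have hZW : ZJ T ≤ ZJ O := fun z hz => mem_ZJ.2 ⟨hYO (ZJ_le hY hz), fun A' h' =>
    ZJ_le ((maxE_of_le hY hYO h.OT).1 h').1 hz⟩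
  have hWY : ZJ O ≤ O ⊓ A ⊔ V := ZJ_le ((maxE_of_le hY hYO h.OT).2 ⟨hY, hYO⟩)
  have nD := centMod_normal (h.OL.norm.trans (norm_le_ZJ O)) h.VL.norm
  have hAD : A ≤ centMod L (ZJ O) V := fun a ha => mem_centMod.2 ⟨hAL ha, h.VL.norm (hAL ha),
    fun w hw => by
      obtain ⟨a0, ha0, v, hv, rfl⟩ := (FusionSystem.mem_sup_of_le_normalizer
        ((inf_le_left.trans hOC).trans cent_le_norm)).1 (hWY hw)
      have e : ⁅a0 * v, a⁆ = a0 * (v * (a * v⁻¹ * a⁻¹)) * a0⁻¹ * ⁅a0, a⁆ := by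
        simp only [commutatorElement_def]; group
      rw [e, commutatorElement_eq_one_iff_mul_comm.2 (h.maxA.2.1.comm ha0.2 ha), mul_one]
      exact h.VL.conj_mem (hAL ha0.2) (V.mul_mem hv (h.VL.conj_mem (hAL ha) (V.inv_mem hv)))⟩
  have hED : E ≤ centMod L (ZJ O) V := eE ▸ sup_le hAD (nD.cj_eq (hEL hg) ▸ H6.cj_mono g hAD)
  set Z := ZJ T ⊔ V with hZd
  have hZ : Z ≤ ZJ O := sup_le hZW hVW
  have eZ : El Z := (el_ZJ O).mono hZ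
  have hEZ : E ≤ 𝒩(Z) := le_norm_of_commutator_le
    ((commutator_mono hZ le_rfl).trans ((le_centMod_iff.1 hED).2.2.trans le_sup_right))
  have hBZ : Bm T ≤ 𝒩(Z) := H1.le_normalizer_sup (inf_le_right.trans cent_le_norm)
    (h.BL.trans h.VL.norm)
  have hLZ : Bm T ⊔ cj g (Bm T) ≤ 𝒩(Z) := sup_le hBZ (H6.cj_le_of_mem (hEZ hg) hBZ)
  have hLL : Bm T ⊔ cj g (Bm T) ≤ L := sup_le h.BL (H6.cj_le_of_mem (hEL hg) h.BL)
  have hEL' : E ≤ Bm T ⊔ cj g (Bm T) := eE ▸ sup_le_sup hAB (H6.cj_mono g hAB)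
  have eQ : O ⊓ 𝒞(Z) = O ⊓ Bm T := by
    rw [hZd, cent_sup]
    exact le_antisymm (fun x hx => ⟨hx.1, h.OT hx.1, hx.2.1⟩) fun x hx => ⟨hx.1, hx.2.2, hOC hx.1⟩
  have nQ : Bm T ⊔ cj g (Bm T) ≤ 𝒩((O ⊓ Bm T : Subgroup H)) :=
    eQ ▸ H1.le_normalizer_inf (hLL.trans h.OL.norm) (H1.le_normalizer_centralizer hLZ)
  have hZQ : Z ≤ O ⊓ Bm T := eQ ▸ le_inf (hZ.trans inf_le_left) fun a ha =>
    mem_cent.2 fun b hb => eZ.comm hb ha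
  have VA : ∀ v ∈ V, v ∈ 𝒞(A) → v ∈ 𝒞(Bm T) := fun v hv hvA =>
    le_cent1_iff.1 (h.BA.trans (sup_le (le_cent1_iff.2 hvA) fun x hx =>
      mem_cent1.2 (mem_cent.1 (hOC hx.1) v hv).symm))
  have zc : ZJ T ≤ 𝒞(Bm T) := cent_comm.1 inf_le_right
  have dec : ∀ z ∈ Z, ∃ z0 ∈ ZJ T, ∃ v ∈ V, z = z0 * v ∧ ∀ s ∈ Bm T, ⁅z, s⁆ = ⁅v, s⁆ := fun z hz => by
    obtain ⟨z0, hz0, v, hv, rfl⟩ := (FusionSystem.mem_sup_of_le_normalizer
      (((ZJ_le h.maxA).trans hAL).trans h.VL.norm)).1 hz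
    refine ⟨z0, hz0, v, hv, rfl, fun s hs => ?_⟩
    have e1 := mem_cent.1 (zc hz0) s hs
    have e2 := eZ.comm (mem_sup_left hz0) (mem_sup_right hv)
    rw [commutatorElement_def, e2]
    calc v * z0 * s * (v * z0)⁻¹ * s⁻¹ = v * (z0 * s) * (v * z0)⁻¹ * s⁻¹ := by group
      _ = ⁅v, s⁆ := by rw [← e1, commutatorElement_def]; group
  have cV : ∀ v ∈ V, ∀ s ∈ Bm T, ⁅v, s⁆ ∈ V := fun v hv s hs =>
    commutator_le_left (h.BL.trans h.VL.norm) (commutator_mem_commutator hv hs)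
  have nO : ∀ s ∈ Bm T, s ∉ O ⊓ Bm T → s ∉ O := fun s hs h1 h2 => h1 ⟨h2, hs⟩
  have pB : IsPGroup 2 (Bm T) := hT.to_le (Bm_le T)
  refine ⟨Bm T ⊔ cj g (Bm T), O ⊓ Bm T, Z, g, ⟨hEL' hg, rfl, pB,
    ⟨inf_le_right.trans le_sup_left, nQ⟩, inf_le_right,
    fun e => h.AO ((hAB.trans e).trans inf_le_left),
    ⟨(hZQ.trans inf_le_right).trans le_sup_left, hLZ⟩, eZ, hZQ, eQ ▸ inf_le_right,
    (OZ_Bm T).le.trans le_sup_left, fun s hs hsQ z hz e => ?_, ?_, fun z hz s hs => ?_,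
    fun z hz s hs e => ?_, fun s hs hsQ s' hs' hsQ' => ?_⟩, fun e => h.ne ?_,
    inf_le_inf_right _ h.O2⟩
  · obtain ⟨z0, hz0, v, hv, rfl, e1⟩ := dec z hz
    refine (𝒞(Bm T)).mul_mem (zc hz0) (VA v hv (h.cen s hs (nO s hs hsQ) v hv ?_))
    rw [eq_comm, ← commutatorElement_eq_one_iff_mul_comm, ← e1 s hs,
      commutatorElement_eq_one_iff_mul_comm, e]
  · have e1 : O ⊓ Bm T ⊔ A = Bm T :=
      le_antisymm (sup_le inf_le_right hAB) (h.BA.trans (sup_comm _ _).le)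
    calc (O ⊓ Bm T).relIndex (Bm T) = (O ⊓ Bm T).relIndex (O ⊓ Bm T ⊔ A) := by rw [e1]
      _ = (O ⊓ Bm T).relIndex A := relIndex_sup_of_norm ((hAB.trans le_sup_left).trans nQ)
      _ = O.relIndex A := by
        rw [← inf_relIndex_right (O ⊓ Bm T), inf_assoc, inf_eq_right.2 hAB, inf_relIndex_right]
      _ = (𝒞(A)).relIndex V := h.card.symm
      _ ≤ (𝒞(Bm T)).relIndex V :=
        relIndex_le_of_le_left (cent_le_cent hAB) FiniteIndex.index_ne_zero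
      _ ≤ (𝒞(Bm T)).relIndex Z := relIndex_le_of_le_right le_sup_right FiniteIndex.index_ne_zero
  · obtain ⟨z0, hz0, v, hv, -, e1⟩ := dec z hz
    rw [e1 s hs]
    exact VA _ (cV v hv s hs) (h.quad v hv s hs)
  · obtain ⟨z0, hz0, v, hv, -, e1⟩ := dec z hz
    rw [e1 s hs] at e ⊢
    exact g2 v hv s hs (cent_le_cent (hgE.trans hEL') e)
  · obtain ⟨l0, hl0, e0⟩ := h.cls s hs (nO s hs hsQ) s' hs' (nO s' hs' hsQ')
    have mv : ∀ c ∈ C, ∀ l ∈ L, l * s * l⁻¹ * s'⁻¹ ∈ 𝒞(V) → c * l * s * (c * l)⁻¹ * s'⁻¹ ∈ 𝒞(V) :=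
      fun c hc l hl e => by
        have : c * l * s * (c * l)⁻¹ * s'⁻¹ = c * (l * s * l⁻¹ * s'⁻¹) * (s' * c⁻¹ * s'⁻¹) := by group
        rw [this]
        exact (𝒞(V)).mul_mem ((𝒞(V)).mul_mem hc.2 e) (nC.conj_mem (h.BL hs') (C.inv_mem hc)).2
    obtain ⟨c0, hc0, l, hl, rfl⟩ := (FusionSystem.mem_sup_of_le_normalizer' (hEL.trans nC.norm)).1 (hEC.ge hl0)
    have e1 := mv c0⁻¹ (C.inv_mem hc0) _ hl0 e0
    rw [inv_mul_cancel_left] at e1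
    have hBY : Bm T ≤ (Bm T ⊔ C) ⊓ (Bm T ⊔ cj g (Bm T)) := le_inf le_sup_left le_sup_left
    obtain ⟨R, hR, hBR⟩ := H6.exists_sylIn_ge pB hBY
    have hRT : R ≤ T := fun r hr => by
      obtain ⟨b, hb, c, hc, rfl⟩ := (FusionSystem.mem_sup_of_le_normalizer (h.BL.trans nC.norm)).1 (hR.le hr).1
      exact T.mul_mem (Bm_le T hb) (h.OT (pC (C ⊓ R) inf_le_left (hR.isPGroup.to_le inf_le_right)
        ⟨hc, (R.mul_mem_cancel_left (hBR hb)).1 hr⟩))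
    obtain ⟨y, hy, h1⟩ := hR.exists_cj_le (H6.isPGroup_cj l pB)
      (le_inf (h.ti l (hEL hl) s hs (nO s hs hsQ) s' hs' e1) (H6.cj_le_of_mem (hEL' hl) le_sup_left))
    rw [H6.cj_cj] at h1
    have h2 := H6.cj_eq_self_iff.1 (cj_Bm_eq (h1.trans hRT))
    obtain ⟨b, hb, c, hc, rfl⟩ := (FusionSystem.mem_sup_of_le_normalizer (h.BL.trans nC.norm)).1 hy.1
    rw [mul_assoc, (𝒩(Bm T)).mul_mem_cancel_left (le_normalizer hb)] at h2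
    have m : c * l * s * (c * l)⁻¹ * s'⁻¹ ∈ Bm T :=
      (Bm T).mul_mem (H6.conj_mem_of_mem_normalizer h2 hs) ((Bm T).inv_mem hs')
    exact ⟨c * l, Subgroup.mul_mem _ ((Subgroup.mul_mem_cancel_left _ (mem_sup_left hb)).1 hy.2)
      (hEL' hl), h2, pC (C ⊓ Bm T) inf_le_left (pB.to_le inf_le_right)
        ⟨⟨h.BL m, mv c hc l (hEL hl) e1⟩, m⟩, m⟩
  · exact hEC.ge.trans (sup_le (hEL'.trans e) h.CM)

end Cfsg.Agent.PU
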